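import Mathlib
import Cfsg.Prelude.Def_Blocks
import Cfsg.Agent.BlkInd.DefectApp2

set_option autoImplicit false
set_option linter.style.haveILetI false
set_option linter.unusedSimpArgs false
set_option linter.unusedSectionVars false
set_option linter.unusedVariables false

/-!
# Defect zero and induced blocks, Knörr's theorem, first main theorem
-/

namespace Cfsg.Agent.BlkInd

open scoped BigOperators ComplexConjugate
open Cfsg Cfsg.Agent.CharBase Cfsg.Agent.Blk

universe u v w

section Main

variable {G : Type u} [Group G] [Fintype G] {M : Ideal AlgInt} [hM : M.IsPrime] {p : ℕ} [hp : Fact p.Prime]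

theorem blockDefect_eq_zero_iff (hMod : IsPModular p M) {B : Set (IrrCharacter G)} (hB : IsPBlock M B)
    {D : Subgroup G} (hD : IsDefectGroup p M B D) : blockDefect p B = 0 ↔ D = ⊥ := by
  have h1 := card_defectGroup hMod hB hD
  constructor
  · intro h
    rw [h, pow_zero] at h1
    exact Subgroup.card_eq_one.mp h1
  · intro h
    rw [h, Subgroup.card_bot] at h1
    have := Nat.pow_right_injective hp.out.two_le (show p ^ blockDefect p B = p ^ 0 by rw [← h1, pow_zero])
    exact this

theorem defect_zero_iff_induced (hMod : IsPModular p M) {H : Subgroup G} [Fintype H]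
    {b : Set (IrrCharacter H)} {B : Set (IrrCharacter G)} (hind : IsInducedBlock M H b B) :
    blockDefect p b = 0 ↔ blockDefect p B = 0 := by
  obtain ⟨D, hD⟩ := exists_defectGroup hMod hind.1
  obtain ⟨P, hP⟩ := exists_defectGroup hMod hind.2.1
  rw [blockDefect_eq_zero_iff hMod hind.1 hD, blockDefect_eq_zero_iff hMod hind.2.1 hP]
  constructor
  · intro h
    subst h
    by_contra hne
    haveI : Nontrivial P := (Subgroup.nontrivial_iff_ne_bot P).mpr hne
    haveI : Nontrivial (Subgroup.center P) := (isPGroup_of_isDefectGroup hP).center_nontrivial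
    obtain ⟨⟨z, hz⟩, hz1⟩ := exists_ne (1 : Subgroup.center P)
    obtain ⟨g, hg, -⟩ := center_defect_conj hMod hind hD hP (x := (z : G)) z.2 (fun w hw => by
      have := Subgroup.mem_center_iff.mp hz ⟨w, hw⟩
      exact (congrArg Subtype.val this).symm)
    rw [Subgroup.map_bot, Subgroup.mem_bot] at hg
    apply hz1
    have h2 : (z : G) = 1 := by
      calc (z : G) = g⁻¹ * (g * z * g⁻¹) * g := by group
        _ = 1 := by rw [hg]; group
    exact Subtype.ext (Subtype.ext h2)
  · intro h
    obtain ⟨E, hE, hDE⟩ := defect_le_of_induced hMod hind hD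
    have h1 := card_defect_eq hMod hind.2.1 hE hP
    rw [h, Subgroup.card_bot] at h1
    rw [Subgroup.card_eq_one.mp h1, le_bot_iff, Subgroup.map_eq_bot_iff_of_injective _ H.subtype_injective] at hDE
    exact hDE

end Main

section Knorr

variable {G : Type u} [Group G] [Fintype G] {M : Ideal AlgInt} [hM : M.IsPrime] {p : ℕ} [hp : Fact p.Prime]

open Classical in
/-- sums of functions invariant under left multiplication by an element of order `p`. -/
theorem mli_sum_of_left_invariant (hMod : IsPModular p M) {z : G} (hz : orderOf z = p) (f : G → ℂ)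
    (hi : ∀ x, MemLocalRing M (f x)) (hf : ∀ x, f (z * x) = f x) : MemLocalIdeal M (∑ x : G, f x) := by
  have hP : IsPGroup p (Subgroup.zpowers z) := IsPGroup.of_card (n := 1) (by rw [Nat.card_zpowers, hz, pow_one])
  have hf' : ∀ u : Subgroup.zpowers z, ∀ x : G, f ((u : G) * x) = f x := by
    rintro ⟨u, hu⟩ x
    obtain ⟨n, hn⟩ := mem_zpowers_iff_mem_range_orderOf.mp hu |> fun h => by
      simpa using h
    have key : ∀ m : ℕ, f (z ^ m * x) = f x := by
      intro m
      induction m with
      | zero => simp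
      | succ m ih => rw [pow_succ', mul_assoc, hf, ih]
    obtain ⟨hn1, hn2⟩ := hn
    show f (u * x) = f x
    rw [← hn2]; exact key n
  have h := mli_sum_sub_fixed (P := Subgroup.zpowers z) (X := G) hMod hP f hi hf'
  have hne : z ≠ 1 := by
    rintro rfl
    rw [orderOf_one] at hz
    exact hp.out.one_lt.ne hz
  convert h using 1
  rw [eq_comm, sub_eq_self]
  apply Finset.sum_eq_zero
  intro x hx
  have hx2 := (@Finset.mem_filter G (fun a => ∀ u : Subgroup.zpowers z, u • a = a) (fun a => Classical.propDecidable _)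
    Finset.univ x).mp hx
  have := hx2.2 ⟨z, Subgroup.mem_zpowers z⟩
  exact absurd (mul_eq_right.mp (this : z * x = x)) hne

open Classical in
/-- Knörr: the sum of all elements with `x ^ p = 1` has zero central character unless the defect is
zero. -/
theorem knorr_core (hMod : IsPModular p M) {B : Set (IrrCharacter G)} (hB : IsPBlock M B)
    {D : Subgroup G} (hD : IsDefectGroup p M B D) (hne : D ≠ ⊥) {χ : IrrCharacter G} (hχ : χ ∈ B) :
    MemLocalIdeal M ((∑ g ∈ Finset.univ.filter (fun g : G => g ^ p = 1), (χ : G → ℂ) g) / (χ : G → ℂ) 1) := by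
  classical
  set N := Subgroup.normalizer (D : Set G) with hN
  haveI := Fintype.ofFinite N
  have hDN : D ≤ N := Subgroup.le_normalizer
  have hDp := isPGroup_of_isDefectGroup hD
  obtain ⟨y, hy, hS⟩ := id hD
  have hSy : SylC p y D := hS
  obtain ⟨b, hb⟩ := exists_block_of_br hMod hDp hDN (Subgroup.centralizer_le_normalizer _) le_rfl hB
    hSy.mem_centralizer hy.2.1
  obtain ⟨ξ, hξ⟩ := isPBlock_nonempty hb.1
  set Ω : MonoidAlgebra ℂ G := ga (fun g => if g ^ p = 1 then 1 else 0) with hΩ
  have hΩc : IsCentr Ω := isCentr_ga (fun g x => by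
    have : (x * g * x⁻¹) ^ p = 1 ↔ g ^ p = 1 := by rw [conj_pow, conj_eq_one_iff]
    by_cases h : g ^ p = 1
    · rw [if_pos h, if_pos (this.mpr h)]
    · rw [if_neg h, if_neg (fun h' => h (this.mp h'))])
  have hΩi : IntGA M Ω := fun g => by
    rw [hΩ, coeff_ga]
    split_ifs
    · exact mlr_one
    · exact mlr_zero
  have homΩ : om (χ : G → ℂ) Ω =
      (∑ g ∈ Finset.univ.filter (fun g : G => g ^ p = 1), (χ : G → ℂ) g) / (χ : G → ℂ) 1 := by
    unfold om
    rw [hΩ, ev_ga, Finset.sum_filter]
    congr 1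
    refine Finset.sum_congr rfl (fun g _ => ?_)
    split_ifs <;> simp
  rw [← homΩ]
  set w := brH D N Ω with hw
  have hwc : IsCentr w := hΩc.brH le_rfl
  have hwi : IntGA M w := hΩi.brH
  have h1 := mli_om_brH_sub hMod hDp hDN le_rfl hb hξ hχ hΩc hΩi
  -- a central element of order `p` in `D`
  haveI : Nontrivial D := (Subgroup.nontrivial_iff_ne_bot D).mpr hne
  haveI : Nontrivial (Subgroup.center D) := hDp.center_nontrivial
  have hcp : IsPGroup p (Subgroup.center D) := hDp.to_subgroup _
  obtain ⟨⟨⟨z, hzD⟩, hzc⟩, hzo⟩ : ∃ z : Subgroup.center D, orderOf z = p := by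
    apply exists_prime_orderOf_dvd_card' (G := Subgroup.center D) p
    obtain ⟨n, hn0, hn⟩ := hcp.nontrivial_iff_card.mp inferInstance
    rw [hn]
    exact dvd_pow_self p hn0.ne'
  have hzo' : orderOf z = p := by
    rw [← hzo, ← Subgroup.orderOf_coe, ← Subgroup.orderOf_coe]
  have hzcomm : ∀ u ∈ D, u * z = z * u := by
    intro u hu
    have := Subgroup.mem_center_iff.mp hzc ⟨u, hu⟩
    exact congrArg Subtype.val this
  have hzC : z ∈ Subgroup.centralizer (D : Set G) := Subgroup.mem_centralizer_iff.mpr hzcomm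
  have hzN : z ∈ N := hDN hzD
  have hzp : z ^ p = 1 := by rw [← hzo']; exact pow_orderOf_eq_one z
  -- `w` is invariant under multiplication by `z`
  have hwz : ∀ h : N, w.coeff (h * ⟨z, hzN⟩) = w.coeff h ∧ w.coeff (⟨z, hzN⟩ * h) = w.coeff h := by
    intro h
    have key : ∀ g : G, (g ∈ Subgroup.centralizer (D : Set G)) →
        (g * z ∈ Subgroup.centralizer (D : Set G) ∧ ((g * z) ^ p = 1 ↔ g ^ p = 1)) ∧
        (z * g ∈ Subgroup.centralizer (D : Set G) ∧ ((z * g) ^ p = 1 ↔ g ^ p = 1)) := by
      intro g hg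
      have hgz : Commute g z := ((Subgroup.mem_centralizer_iff.mp hg) z hzD).symm
      refine ⟨⟨Subgroup.mul_mem _ hg hzC, ?_⟩, ⟨Subgroup.mul_mem _ hzC hg, ?_⟩⟩
      · rw [hgz.mul_pow, hzp, mul_one]
      · rw [hgz.symm.mul_pow, hzp, one_mul]
    rw [hw]
    simp only [brH_coeff, hΩ, coeff_ga]
    push_cast
    by_cases hh : (h : G) ∈ Subgroup.centralizer (D : Set G)
    · obtain ⟨⟨k1, k2⟩, ⟨k3, k4⟩⟩ := key h hh
      rw [if_pos k1, if_pos k3, if_pos hh]
      constructor
      · by_cases h2 : (h : G) ^ p = 1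
        · rw [if_pos h2, if_pos (k2.mpr h2)]
        · rw [if_neg h2, if_neg (fun h' => h2 (k2.mp h'))]
      · by_cases h2 : (h : G) ^ p = 1
        · rw [if_pos h2, if_pos (k4.mpr h2)]
        · rw [if_neg h2, if_neg (fun h' => h2 (k4.mp h'))]
    · have n1 : ¬ (h : G) * z ∈ Subgroup.centralizer (D : Set G) := fun h' =>
        hh ((Subgroup.mul_mem_cancel_right _ hzC).mp h')
      have n2 : ¬ z * (h : G) ∈ Subgroup.centralizer (D : Set G) := fun h' =>
        hh ((Subgroup.mul_mem_cancel_left _ hzC).mp h')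
      rw [if_neg n1, if_neg n2, if_neg hh]
      exact ⟨rfl, rfl⟩
  have hzNo : orderOf (⟨z, hzN⟩ : N) = p := by rw [← Subgroup.orderOf_coe]; exact hzo'
  have hww : MaxGA M (w * w) := by
    intro h
    rw [coeff_mul']
    have e : ∑ y : N, w.coeff y * w.coeff (y⁻¹ * h) = ∑ y : N, w.coeff y⁻¹ * w.coeff (y * h) := by
      refine Fintype.sum_equiv (Equiv.inv N) _ _ (fun y => ?_)
      simp
    rw [e]
    apply mli_sum_of_left_invariant hMod hzNo _ (fun y => mlr_mul (hwi _) (hwi _))
    intro y
    have e1 : w.coeff ((⟨z, hzN⟩ * y)⁻¹) = w.coeff y⁻¹ := by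
      have := (hwz ((⟨z, hzN⟩ * y)⁻¹)).1
      rw [← this]
      congr 1
      group
    have e2 : w.coeff (⟨z, hzN⟩ * y * h) = w.coeff (y * h) := by
      rw [mul_assoc]; exact (hwz (y * h)).2
    show w.coeff ((⟨z, hzN⟩ * y)⁻¹) * w.coeff (⟨z, hzN⟩ * y * h) = _
    rw [e1, e2]
  have h2 : MemLocalIdeal M (om (ξ : _ → ℂ) w * om (ξ : _ → ℂ) w) := by
    rw [← om_mul ξ.2 hwc]
    exact mli_om ξ (hwc.mul hwc) hww
  have h3 : MemLocalIdeal M (om (ξ : _ → ℂ) w) := by
    rcases mli_or_of_mul (mlr_om ξ hwc hwi) (mlr_om ξ hwc hwi) h2 with h | h <;> exact h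
  have := mli_sub h3 h1
  rwa [sub_sub_cancel] at this

/-- **Knörr's theorem**: a character vanishing on all elements of order `p` has defect zero. -/
theorem knorr (hMod : IsPModular p M) (χ : IrrCharacter G)
    (hvan : ∀ g : G, orderOf g = p → (χ : G → ℂ) g = 0) :
    (charDegree (χ : G → ℂ)).factorization p = (Nat.card G).factorization p := by
  classical
  obtain ⟨D, hD⟩ := exists_defectGroup hMod (isPBlock_blockOf (M := M) χ)
  by_cases hne : D = ⊥
  · have h1 := (blockDefect_eq_zero_iff hMod (isPBlock_blockOf (M := M) χ) hD).mpr hne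
    have h2 := BlkC.defect_add_nuMin (p := p) (B := blockOf M (χ : G → ℂ)) ⟨χ, mem_blockOf_self χ⟩
    have h3 := BlkC.nuMin_le (p := p) (mem_blockOf_self (M := M) χ)
    have h4 := BlkC.nu_le_card (p := p) χ
    change BlkC.nu p χ = _
    omega
  · exfalso
    have h1 := knorr_core hMod (isPBlock_blockOf χ) hD hne (mem_blockOf_self χ)
    have h2 : ∑ g ∈ Finset.univ.filter (fun g : G => g ^ p = 1), (χ : G → ℂ) g = (χ : G → ℂ) 1 := by
      rw [Finset.sum_eq_single 1]
      · intro g hg hg1
        simp only [Finset.mem_filter, Finset.mem_univ, true_and] at hg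
        exact hvan g (orderOf_eq_prime hg hg1)
      · intro h
        exact absurd (by simp) h
    rw [h2, div_self (irr_one_ne_zero χ.2)] at h1
    exact not_mli_one h1

end Knorr

end Cfsg.Agent.BlkInd
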