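import Mathlib
import Cfsg.Prelude.Def_Blocks
import Cfsg.Agent.BlkInd.ElemProd
import Cfsg.Agent.BlkInd.PPart
import Cfsg.Agent.BlkInd.DefectApp3
import Cfsg.Agent.H75.Inflate
import Cfsg.Agent.Frob.Kernel

set_option autoImplicit false
set_option linter.style.haveILetI false
set_option linter.unusedSimpArgs false
set_option linter.unusedSectionVars false
set_option linter.unusedVariables false

/-!
# Blocks of `G = D C_G(D)` with defect group `D`
-/

namespace Cfsg.Agent.BlkInd

open scoped BigOperators ComplexConjugate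
open Cfsg Cfsg.Agent.CharBase Cfsg.Agent.Char Cfsg.Agent.Blk

universe u v w

section PPartFun

variable {G : Type u} [Group G] [Finite G] (p : ℕ) [hp : Fact p.Prime]

/-- the `p`-part of an element -/
noncomputable def ppart (z : G) : G := Classical.choose (exists_isPPart hp.out z)

variable {p}

theorem ppart_spec (z : G) : IsPPart p z (ppart p z) := Classical.choose_spec (exists_isPPart hp.out z)

theorem ppart_eq {z u : G} (h : IsPPart p z u) : ppart p z = u :=
  isPPart_unique hp.out (ppart_spec z) h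

theorem ppart_conj (a z : G) : ppart p (a * z * a⁻¹) = a * ppart p z * a⁻¹ :=
  ppart_eq (isPPart_conj (ppart_spec z) a)

theorem ppart_mul {u s : G} (hc : Commute u s) (hu : ∃ k : ℕ, orderOf u = p ^ k) (hs : ¬ p ∣ orderOf s) :
    ppart p (u * s) = u := ppart_eq ⟨s, rfl, hc, hu, hs⟩

theorem ppart_of_regular {s : G} (hs : ¬ p ∣ orderOf s) : ppart p s = 1 := by
  have := ppart_mul (p := p) (Commute.one_left s) ⟨0, by simp⟩ hs
  rwa [one_mul] at this

end PPartFun

section Struct

variable {G : Type u} [Group G] {D : Subgroup G}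

theorem exists_mul_of_sup (hG : D ⊔ Subgroup.centralizer (D : Set G) = ⊤) (g : G) :
    ∃ d ∈ D, ∃ c ∈ Subgroup.centralizer (D : Set G), g = d * c := by
  have hg : g ∈ D ⊔ Subgroup.centralizer (D : Set G) := by rw [hG]; exact Subgroup.mem_top g
  rw [Subgroup.sup_eq_closure] at hg
  induction hg using Subgroup.closure_induction with
  | mem x hx =>
    rcases hx with hx | hx
    · exact ⟨x, hx, 1, Subgroup.one_mem _, (mul_one x).symm⟩
    · exact ⟨1, D.one_mem, x, hx, (one_mul x).symm⟩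
  | one => exact ⟨1, D.one_mem, 1, Subgroup.one_mem _, (one_mul 1).symm⟩
  | mul x y _ _ ihx ihy =>
    obtain ⟨d, hd, c, hc, rfl⟩ := ihx
    obtain ⟨d', hd', c', hc', rfl⟩ := ihy
    refine ⟨d * d', D.mul_mem hd hd', c * c', Subgroup.mul_mem _ hc hc', ?_⟩
    have := Subgroup.mem_centralizer_iff.mp hc d' hd'
    calc d * c * (d' * c') = d * (c * d') * c' := by group
      _ = d * (d' * c) * c' := by rw [this]
      _ = d * d' * (c * c') := by group
  | inv x _ ih =>
    obtain ⟨d, hd, c, hc, rfl⟩ := ih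
    refine ⟨d⁻¹, D.inv_mem hd, c⁻¹, Subgroup.inv_mem _ hc, ?_⟩
    have := Subgroup.mem_centralizer_iff.mp hc d hd
    rw [mul_inv_rev, ← mul_inv_rev d c, this, mul_inv_rev]

theorem conj_eq_of_sup (hG : D ⊔ Subgroup.centralizer (D : Set G) = ⊤) (g : G) :
    ∃ d ∈ D, ∀ y ∈ D, g * y * g⁻¹ = d * y * d⁻¹ := by
  obtain ⟨d, hd, c, hc, rfl⟩ := exists_mul_of_sup hG g
  refine ⟨d, hd, fun y hy => ?_⟩
  have := Subgroup.mem_centralizer_iff.mp hc y hy
  calc d * c * y * (d * c)⁻¹ = d * (c * y) * c⁻¹ * d⁻¹ := by group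
    _ = d * (y * c) * c⁻¹ * d⁻¹ := by rw [this]
    _ = d * y * d⁻¹ := by group

theorem normal_of_sup (hG : D ⊔ Subgroup.centralizer (D : Set G) = ⊤) : D.Normal := by
  constructor
  intro y hy g
  obtain ⟨d, hd, h⟩ := conj_eq_of_sup hG g
  rw [h y hy]
  exact D.mul_mem (D.mul_mem hd hy) (D.inv_mem hd)

theorem regular_mem_centralizer [Finite G] {p : ℕ} [hp : Fact p.Prime]
    (hG : D ⊔ Subgroup.centralizer (D : Set G) = ⊤) (hD : IsPGroup p D)
    {s : G} (hs : ¬ p ∣ orderOf s) : s ∈ Subgroup.centralizer (D : Set G) := by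
  obtain ⟨d, hd, c, hc, rfl⟩ := exists_mul_of_sup hG s
  obtain ⟨k, hk⟩ := hD ⟨d, hd⟩
  have hk' : d ^ p ^ k = 1 := congrArg Subtype.val hk
  have hcomm : Commute d c := (Subgroup.mem_centralizer_iff.mp hc d hd)
  have h1 : (d * c) ^ p ^ k = c ^ p ^ k := by rw [hcomm.mul_pow, hk', one_mul]
  have h2 : (d * c) ^ p ^ k ∈ Subgroup.centralizer (D : Set G) := by
    rw [h1]; exact Subgroup.pow_mem _ hc _
  have hcop : (p ^ k).Coprime (orderOf (d * c)) :=
    Nat.Coprime.pow_left k ((Nat.Prime.coprime_iff_not_dvd hp.out).mpr hs)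
  obtain ⟨n, hn⟩ := exists_pow_eq_self_of_coprime hcop
  rw [← hn]
  exact Subgroup.pow_mem _ h2 _

theorem extendByZero_conj (hG : D ⊔ Subgroup.centralizer (D : Set G) = ⊤) {ζ : D → ℂ}
    (hζ : IsClassFunction D ζ) (g u : G) :
    extendByZero D ζ (g * u * g⁻¹) = extendByZero D ζ u := by
  have hn := normal_of_sup hG
  by_cases hu : u ∈ D
  · obtain ⟨d, hd, h⟩ := conj_eq_of_sup hG g
    have h1 : g * u * g⁻¹ ∈ D := hn.conj_mem u hu g
    rw [extendByZero_of_mem D ζ h1, extendByZero_of_mem D ζ hu]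
    have h2 : (⟨g * u * g⁻¹, h1⟩ : D) = ⟨d, hd⟩ * ⟨u, hu⟩ * ⟨d, hd⟩⁻¹ := Subtype.ext (h u hu)
    rw [h2]
    exact hζ _ _
  · rw [extendByZero_of_notMem D ζ hu, extendByZero_of_notMem D ζ]
    intro h
    apply hu
    have := hn.conj_mem _ h g⁻¹
    have e : g⁻¹ * (g * u * g⁻¹) * g⁻¹⁻¹ = u := by group
    rwa [e] at this

end Struct

section Canon

variable {G : Type u} [Group G] [Fintype G] {p : ℕ} [hp : Fact p.Prime] {D : Subgroup G}

variable (p D) in
/-- `z ↦ ζ(z_p) χ(z)`, supported on the elements with `p`-part in `D`. -/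
noncomputable def canonMul (ζ : D → ℂ) (χ : G → ℂ) : G → ℂ :=
  fun z => extendByZero D ζ (ppart p z) * χ z

theorem canonMul_isClassFunction (hG : D ⊔ Subgroup.centralizer (D : Set G) = ⊤) {ζ : D → ℂ}
    (hζ : IsClassFunction D ζ) {χ : G → ℂ} (hχ : IsClassFunction G χ) :
    IsClassFunction G (canonMul p D ζ χ) := by
  intro g x
  unfold canonMul
  rw [ppart_conj, extendByZero_conj hG hζ, hχ g x]

/-- A character is invariant under multiplication by its kernel. -/
theorem char_mul_ker [hn : D.Normal] {χ : G → ℂ} (hχ : IsCharacter G χ) (hker : ∀ y ∈ D, χ y = χ 1)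
    {u : G} (hu : u ∈ D) (z : G) : χ (u * z) = χ z := by
  obtain ⟨χ', -, h⟩ := Cfsg.Agent.H75.exists_deflate D hχ hker
  rw [← h, ← h]
  congr 1
  rw [QuotientGroup.mk_mul, (QuotientGroup.eq_one_iff u).mpr hu, one_mul]

theorem indFun_subgroupOf {Q : Subgroup G} [Fintype Q] (hG : D ⊔ Subgroup.centralizer (D : Set G) = ⊤)
    {ζ : D → ℂ} (hζ : IsClassFunction D ζ) (u : Q) :
    indFun (D.subgroupOf Q) (fun x : D.subgroupOf Q => extendByZero D ζ ((x : Q) : G)) u =
      (Nat.card (D.subgroupOf Q) : ℂ)⁻¹ * (Nat.card Q : ℂ) * extendByZero D ζ (u : G) := by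
  classical
  have hn := normal_of_sup hG
  unfold indFun
  have h1 : ∀ x : Q, extendByZero (D.subgroupOf Q) (fun x : D.subgroupOf Q => extendByZero D ζ ((x : Q) : G))
      (x⁻¹ * u * x) = extendByZero D ζ (u : G) := by
    intro x
    have h2 := extendByZero_conj hG hζ ((x : G)⁻¹) (u : G)
    rw [inv_inv] at h2
    by_cases hu : x⁻¹ * u * x ∈ D.subgroupOf Q
    · rw [extendByZero_of_mem _ _ hu, ← h2]
      rfl
    · rw [extendByZero_of_notMem _ _ hu, ← h2, extendByZero_of_notMem D ζ]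
      intro h3
      exact hu (Subgroup.mem_subgroupOf.mpr h3)
  rw [Finset.sum_congr rfl (fun x _ => h1 x), Finset.sum_const, Finset.card_univ, nsmul_eq_mul,
    Nat.card_eq_fintype_card (α := Q), mul_assoc]

/-- `ζ(z_p) χ(z)` is a generalized character. -/
theorem canonMul_isGeneralizedCharacter (hG : D ⊔ Subgroup.centralizer (D : Set G) = ⊤)
    (ζ : IrrCharacter D) {χ : G → ℂ} (hχ : IsCharacter G χ) (hker : ∀ y ∈ D, χ y = χ 1)
    (hvan : ∀ z, ppart p z ∉ D → χ z = 0) :
    IsGeneralizedCharacter G (canonMul p D (ζ : D → ℂ) χ) := by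
  classical
  have hn := normal_of_sup hG
  haveI := Fintype.ofFinite D
  have hζc : IsClassFunction D (ζ : D → ℂ) := irr_isClassFunction ζ
  refine isGeneralizedCharacter_of_prod p (canonMul_isClassFunction hG hζc
    (isClassFunction_of_isCharacter hχ)) ?_
  intro Q S hQ hS hcomm
  haveI := Fintype.ofFinite Q
  haveI := Fintype.ofFinite S
  -- the first factor
  have hc1 : IsCharacter (D.subgroupOf Q) (fun x : D.subgroupOf Q => extendByZero D (ζ : D → ℂ) ((x : Q) : G)) := by
    let φ : D.subgroupOf Q →* D :=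
      { toFun := fun x => ⟨((x : Q) : G), Subgroup.mem_subgroupOf.mp x.2⟩
        map_one' := rfl
        map_mul' := fun _ _ => rfl }
    have h1 := isCharacter_comp (irr_isCharacter ζ) φ
    refine (congrArg (IsCharacter _) ?_).mp h1
    funext x
    rw [extendByZero_of_mem D _ (Subgroup.mem_subgroupOf.mp x.2)]
    rfl
  have hc2 := indFun_isCharacter (D.subgroupOf Q) _ hc1
  have hg1 : IsGeneralizedCharacter Q (indFun (D.subgroupOf Q)
      (fun x : D.subgroupOf Q => extendByZero D (ζ : D → ℂ) ((x : Q) : G))) :=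
    ⟨_, 0, hc2, isCharacter_zero, by rw [sub_zero]⟩
  -- the second factor
  have hφ : IsCharacter (Q × S) (fun x => χ ((x.1 : G) * (x.2 : G))) :=
    isCharacter_comp hχ (MonoidHom.noncommCoprod Q.subtype S.subtype (fun u s => hcomm u u.2 s s.2))
  have hg2 := isGeneralizedCharacter_avg (Q := Q) (S := S) (θ := fun x => χ ((x.1 : G) * (x.2 : G)))
    ⟨_, 0, hφ, isCharacter_zero, by rw [sub_zero]⟩
  have hprod := Cfsg.Agent.Char.BI.isGeneralizedCharacter_mul
    (isGeneralizedCharacter_comp hg1 (MonoidHom.fst Q S))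
    (isGeneralizedCharacter_comp hg2 (MonoidHom.snd Q S))
  refine (congrArg (IsGeneralizedCharacter (Q × S)) ?_).mp hprod
  funext x
  obtain ⟨u, s⟩ := x
  have hs : ¬ p ∣ orderOf (s : G) := by
    intro h
    apply hS
    have h1 := orderOf_dvd_natCard s
    rw [Subgroup.orderOf_coe] at h
    exact h.trans h1
  have hup : ∀ u : Q, ∃ k : ℕ, orderOf (u : G) = p ^ k := by
    intro u
    obtain ⟨k, hk⟩ := (IsPGroup.iff_orderOf.mp hQ) u
    exact ⟨k, by rw [Subgroup.orderOf_coe]; exact hk⟩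
  have hcs : ∀ u : Q, Commute (u : G) (s : G) := fun u => hcomm u u.2 s s.2
  show indFun (D.subgroupOf Q) (fun x : D.subgroupOf Q => extendByZero D (ζ : D → ℂ) ((x : Q) : G)) u *
    ((Nat.card Q : ℂ)⁻¹ * ∑ u' : Q, χ ((u' : G) * (s : G))) = canonMul p D (ζ : D → ℂ) χ ((u : G) * (s : G))
  have h1 : ∀ u' : Q, χ ((u' : G) * (s : G)) = if (u' : G) ∈ D then χ (s : G) else 0 := by
    intro u'
    split_ifs with h
    · exact char_mul_ker hχ hker h _
    · apply hvan
      rw [ppart_mul (hcs u') (hup u') hs]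
      exact h
  rw [Finset.sum_congr rfl (fun u' _ => h1 u'), ← Finset.sum_filter, Finset.sum_const, nsmul_eq_mul,
    indFun_subgroupOf hG hζc]
  have h2 : ((Finset.univ.filter (fun u' : Q => (u' : G) ∈ D)).card : ℂ) = (Nat.card (D.subgroupOf Q) : ℂ) := by
    congr 1
    rw [Nat.card_eq_fintype_card, Fintype.card_subtype]
    rfl
  rw [h2]
  have hQ0 : (Nat.card Q : ℂ) ≠ 0 := by exact_mod_cast Nat.card_pos.ne'
  have hD0 : (Nat.card (D.subgroupOf Q) : ℂ) ≠ 0 := by exact_mod_cast Nat.card_pos.ne'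
  unfold canonMul
  rw [ppart_mul (hcs u) (hup u) hs]
  by_cases hu : (u : G) ∈ D
  · rw [char_mul_ker hχ hker hu]
    field_simp
  · rw [extendByZero_of_notMem D _ hu, mul_zero, zero_mul, zero_mul]

end Canon

end Cfsg.Agent.BlkInd
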