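import Mathlib
import Cfsg.Agent.BlkInd.Canon
import Cfsg.Agent.BlkC.DefectOrder
import Cfsg.Agent.BlkC.Contrib

set_option autoImplicit false
set_option linter.style.haveILetI false
set_option linter.unusedSimpArgs false
set_option linter.unusedSectionVars false
set_option linter.unusedVariables false

/-!
# Blocks of `G = D C_G(D)` with defect group `D`, continued
-/

namespace Cfsg.Agent.BlkInd

open scoped BigOperators ComplexConjugate
open Cfsg Cfsg.Agent.CharBase Cfsg.Agent.Char Cfsg.Agent.Blk Cfsg.Agent.BlkC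

universe u v w

section Sum

variable {G : Type u} [Group G] [Fintype G] {p : ℕ} [hp : Fact p.Prime] {D : Subgroup G}

open Classical in
/-- Sum over the elements whose `p`-part lies in `D`. -/
theorem sum_section [Fintype D] (hG : D ⊔ Subgroup.centralizer (D : Set G) = ⊤) (hD : IsPGroup p D)
    {F : G → ℂ} (hF : ∀ z, ppart p z ∉ D → F z = 0) :
    ∑ z : G, F z = ∑ u : D, ∑ s ∈ Finset.univ.filter (fun s : G => ¬ p ∣ orderOf s), F ((u : G) * s) := by
  rw [← Finset.sum_product', ← Finset.sum_subset (Finset.subset_univ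
    (Finset.univ.filter (fun z : G => ppart p z ∈ D)))]
  · symm
    refine Finset.sum_bij (fun x _ => (x.1 : G) * x.2) ?_ ?_ ?_ ?_
    · rintro ⟨u, s⟩ h
      rw [Finset.mem_product, Finset.mem_filter] at h
      rw [Finset.mem_filter]
      refine ⟨Finset.mem_univ _, ?_⟩
      obtain ⟨k, hk⟩ := (IsPGroup.iff_orderOf.mp hD) u
      have hc : Commute (u : G) s :=
        Subgroup.mem_centralizer_iff.mp (regular_mem_centralizer hG hD h.2.2) u u.2
      rw [ppart_mul hc ⟨k, by rw [Subgroup.orderOf_coe]; exact hk⟩ h.2.2]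
      exact u.2
    · rintro ⟨u, s⟩ h ⟨u', s'⟩ h' he
      rw [Finset.mem_product, Finset.mem_filter] at h h'
      have key : ∀ (u : D) (s : G), ¬ p ∣ orderOf s → ppart p ((u : G) * s) = u := by
        intro u s hs
        obtain ⟨k, hk⟩ := (IsPGroup.iff_orderOf.mp hD) u
        have hc : Commute (u : G) s :=
          Subgroup.mem_centralizer_iff.mp (regular_mem_centralizer hG hD hs) u u.2
        exact ppart_mul hc ⟨k, by rw [Subgroup.orderOf_coe]; exact hk⟩ hs
      have h1 : (u : G) = u' := by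
        rw [← key u s h.2.2, ← key u' s' h'.2.2]
        simp only at he
        rw [he]
      have h2 : s = s' := by
        simp only at he
        rw [h1] at he
        exact mul_left_cancel he
      rw [Prod.mk.injEq]
      exact ⟨Subtype.ext h1, h2⟩
    · intro z hz
      rw [Finset.mem_filter] at hz
      obtain ⟨s, hs1, hs2, hs3, hs4⟩ := ppart_spec (p := p) z
      exact ⟨(⟨ppart p z, hz.2⟩, s), by
        rw [Finset.mem_product, Finset.mem_filter]
        exact ⟨Finset.mem_univ _, Finset.mem_univ _, hs4⟩, hs1⟩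
    · intro x _
      rfl
  · intro z _ hz
    apply hF
    intro h
    exact hz (Finset.mem_filter.mpr ⟨Finset.mem_univ _, h⟩)

theorem ppart_section (hG : D ⊔ Subgroup.centralizer (D : Set G) = ⊤) (hD : IsPGroup p D)
    (u : D) {s : G} (hs : ¬ p ∣ orderOf s) : ppart p ((u : G) * s) = u := by
  obtain ⟨k, hk⟩ := (IsPGroup.iff_orderOf.mp hD) u
  have hc : Commute (u : G) s :=
    Subgroup.mem_centralizer_iff.mp (regular_mem_centralizer hG hD hs) u u.2
  exact ppart_mul hc ⟨k, by rw [Subgroup.orderOf_coe]; exact hk⟩ hs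

theorem canonMul_section (hG : D ⊔ Subgroup.centralizer (D : Set G) = ⊤) (hD : IsPGroup p D)
    (ζ : D → ℂ) {χ : G → ℂ} (hχ : IsCharacter G χ) (hker : ∀ y ∈ D, χ y = χ 1)
    (u : D) {s : G} (hs : ¬ p ∣ orderOf s) : canonMul p D ζ χ ((u : G) * s) = ζ u * χ s := by
  haveI := normal_of_sup hG
  unfold canonMul
  rw [ppart_section hG hD u hs, extendByZero_of_mem D ζ u.2, char_mul_ker hχ hker u.2]

open Classical in
theorem sum_regular_eq (hG : D ⊔ Subgroup.centralizer (D : Set G) = ⊤) (hD : IsPGroup p D)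
    {χ : G → ℂ} (hχ : IsIrrCharacter G χ) (hker : ∀ y ∈ D, χ y = χ 1)
    (hvan : ∀ z, ppart p z ∉ D → χ z = 0) :
    (Nat.card D : ℂ) * ∑ s ∈ Finset.univ.filter (fun s : G => ¬ p ∣ orderOf s), χ s * conj (χ s) =
      (Nat.card G : ℂ) := by
  haveI := normal_of_sup hG
  haveI := Fintype.ofFinite D
  have h1 := classInner_irr_self (⟨χ, hχ⟩ : IrrCharacter G)
  unfold classInner at h1
  have hG0 : (Nat.card G : ℂ) ≠ 0 := by exact_mod_cast Nat.card_pos.ne'
  rw [inv_mul_eq_iff_eq_mul₀ hG0, mul_one] at h1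
  rw [← h1, sum_section (p := p) (D := D) hG hD (F := fun z => χ z * conj (χ z))
    (fun z hz => by rw [hvan z hz, zero_mul])]
  have h2 : ∀ u : D, ∑ s ∈ Finset.univ.filter (fun s : G => ¬ p ∣ orderOf s),
      χ ((u : G) * s) * conj (χ ((u : G) * s)) =
      ∑ s ∈ Finset.univ.filter (fun s : G => ¬ p ∣ orderOf s), χ s * conj (χ s) := by
    intro u
    refine Finset.sum_congr rfl (fun s _ => ?_)
    rw [char_mul_ker (isCharacter_of_isIrr hχ) hker u.2]
  rw [Finset.sum_congr rfl (fun u _ => h2 u), Finset.sum_const, nsmul_eq_mul, Finset.card_univ,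
    Nat.card_eq_fintype_card]

theorem canonMul_isIrrCharacter (hG : D ⊔ Subgroup.centralizer (D : Set G) = ⊤) (hD : IsPGroup p D)
    (ζ : IrrCharacter D) {χ : G → ℂ} (hχ : IsIrrCharacter G χ) (hker : ∀ y ∈ D, χ y = χ 1)
    (hvan : ∀ z, ppart p z ∉ D → χ z = 0) : IsIrrCharacter G (canonMul p D (ζ : D → ℂ) χ) := by
  classical
  haveI := Fintype.ofFinite D
  have hχ' := isCharacter_of_isIrr hχ
  have hone : canonMul p D (ζ : D → ℂ) χ 1 = (ζ : D → ℂ) 1 * χ 1 := by
    have := canonMul_section hG hD (ζ : D → ℂ) hχ' hker 1 (s := 1) (by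
      rw [orderOf_one]; exact hp.out.one_lt.ne' ∘ Nat.dvd_one.mp)
    rwa [Subgroup.coe_one, one_mul] at this
  obtain ⟨a, ha⟩ := exists_nat_degree (irr_isCharacter ζ)
  obtain ⟨b, hb⟩ := exists_nat_degree hχ'
  refine Cfsg.Agent.Frob.isIrrCharacter_of_norm_one (canonMul_isGeneralizedCharacter hG ζ hχ' hker hvan)
    ?_ (n := a * b) (by rw [hone, ha, hb]; push_cast; ring)
  unfold classInner
  have hG0 : (Nat.card G : ℂ) ≠ 0 := by exact_mod_cast Nat.card_pos.ne'
  rw [inv_mul_eq_iff_eq_mul₀ hG0, mul_one]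
  rw [sum_section (p := p) (D := D) hG hD
    (F := fun z => canonMul p D (ζ : D → ℂ) χ z * conj (canonMul p D (ζ : D → ℂ) χ z))
    (fun z hz => by
      have : canonMul p D (ζ : D → ℂ) χ z = 0 := by unfold canonMul; rw [hvan z hz, mul_zero]
      rw [this, zero_mul])]
  have h2 : ∀ u : D, ∑ s ∈ Finset.univ.filter (fun s : G => ¬ p ∣ orderOf s),
      canonMul p D (ζ : D → ℂ) χ ((u : G) * s) * conj (canonMul p D (ζ : D → ℂ) χ ((u : G) * s)) =
      ((ζ : D → ℂ) u * conj ((ζ : D → ℂ) u)) *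
        ∑ s ∈ Finset.univ.filter (fun s : G => ¬ p ∣ orderOf s), χ s * conj (χ s) := by
    intro u
    rw [Finset.mul_sum]
    refine Finset.sum_congr rfl (fun s hs => ?_)
    rw [canonMul_section hG hD (ζ : D → ℂ) hχ' hker u (Finset.mem_filter.mp hs).2, map_mul]
    ring
  rw [Finset.sum_congr rfl (fun u _ => h2 u), ← Finset.sum_mul, ← sum_regular_eq hG hD hχ hker hvan]
  congr 1
  have h1 := classInner_irr_self ζ
  unfold classInner at h1
  have hD0 : (Nat.card D : ℂ) ≠ 0 := by exact_mod_cast Nat.card_pos.ne'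
  rwa [inv_mul_eq_iff_eq_mul₀ hD0, mul_one] at h1

end Sum

section Block

variable {G : Type u} [Group G] [Fintype G] {p : ℕ} [hp : Fact p.Prime] {D : Subgroup G}
  {M : Ideal AlgInt} [hM : M.IsPrime]

/-- characters vanish off the `D`-sections if `D` is a normal defect group -/
theorem vanish_of_normal_defect (hMod : IsPModular p M) [hn : D.Normal] {B : Set (IrrCharacter G)}
    (hB : IsPBlock M B) (hBD : IsDefectGroup p M B D) {θ : IrrCharacter G} (hθ : θ ∈ B) {z : G}
    (hz : ppart p z ∉ D) : (θ : G → ℂ) z = 0 := by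
  refine irr_eq_zero_of_not_mem_defect hMod θ (ppart_spec z) ?_
  intro E hE
  have h1 : B = blockOf M (θ : G → ℂ) := isPBlock_eq_of_mem hB ⟨θ, rfl⟩ hθ (mem_blockOf_self θ)
  rw [← h1] at hE
  obtain ⟨g, hg⟩ := defectGroup_conj hMod hB hBD hE
  have h2 : D.map (MulAut.conj g).toMonoidHom = D :=
    Blk.map_conj_of_mem_normalizer (by rw [Subgroup.normalizer_eq_top]; exact Subgroup.mem_top g)
  rw [← hg, h2]
  exact hz

theorem canonMul_mem (hMod : IsPModular p M) (hG : D ⊔ Subgroup.centralizer (D : Set G) = ⊤) (hD : IsPGroup p D)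
    {B : Set (IrrCharacter G)} (hB : IsPBlock M B) {χ : IrrCharacter G} (hχ : χ ∈ B)
    (hker : ∀ y ∈ D, (χ : G → ℂ) y = (χ : G → ℂ) 1) (ζ : IrrCharacter D) {θ : IrrCharacter G}
    (hθ : (θ : G → ℂ) = canonMul p D (ζ : D → ℂ) (χ : G → ℂ)) : θ ∈ B := by
  classical
  by_contra hne
  have h1 : om (θ : G → ℂ) (eB B) = 0 := om_eB_of_not_mem hne
  have h2 : om (χ : G → ℂ) (eB B) = 1 := om_eB_of_mem hχ
  have hreg : ∀ s : G, ¬ p ∣ orderOf s → (θ : G → ℂ) s = (ζ : D → ℂ) 1 * (χ : G → ℂ) s := by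
    intro s hs
    have := canonMul_section hG hD (ζ : D → ℂ) (irr_isCharacter χ) hker 1 (s := s) hs
    rw [hθ]
    rwa [Subgroup.coe_one, one_mul] at this
  have h3 : om (θ : G → ℂ) (eB B) = om (χ : G → ℂ) (eB B) := by
    unfold om ev
    rw [hreg 1 (by rw [orderOf_one]; exact hp.out.one_lt.ne' ∘ Nat.dvd_one.mp)]
    have h4 : ∑ g : G, (eB B).coeff g * (θ : G → ℂ) g =
        (ζ : D → ℂ) 1 * ∑ g : G, (eB B).coeff g * (χ : G → ℂ) g := by
      rw [Finset.mul_sum]
      refine Finset.sum_congr rfl (fun g _ => ?_)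
      by_cases hg : p ∣ orderOf g
      · have : (eB B).coeff g = 0 := by
          show blockCoeff B g = 0
          exact Blk.blockCoeff_eq_zero_of_dvd hMod hB hg
        rw [this, zero_mul, zero_mul, mul_zero]
      · rw [hreg g hg]; ring
    rw [h4]
    have h5 : (ζ : D → ℂ) 1 ≠ 0 := irr_one_ne_zero ζ.2
    rw [mul_div_mul_left _ _ h5]
  rw [h1, h2] at h3
  exact zero_ne_one h3

/-- the degree of the canonical character -/
theorem canon_degree (hMod : IsPModular p M) (hG : D ⊔ Subgroup.centralizer (D : Set G) = ⊤) (hD : IsPGroup p D)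
    {B : Set (IrrCharacter G)} (hB : IsPBlock M B) (hBD : IsDefectGroup p M B D) {χ : IrrCharacter G} (hχ : χ ∈ B)
    (hker : ∀ y ∈ D, (χ : G → ℂ) y = (χ : G → ℂ) 1) :
    (charDegree (χ : G → ℂ)).factorization p = D.index.factorization p ∧
      nu p χ = nuMin p B := by
  classical
  haveI hn := normal_of_sup hG
  have hcard := card_defectGroup hMod hB hBD
  have hdef := defect_add_nuMin (p := p) (B := B) ⟨χ, hχ⟩
  have hmin := nuMin_le (p := p) hχ
  obtain ⟨χ', hχ', hχe⟩ := Cfsg.Agent.H75.exists_deflate_irr D χ.2 hker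
  have hdvd : charDegree (χ : G → ℂ) ∣ D.index := by
    have h1 : χ' 1 = (charDegree (χ : G → ℂ) : ℂ) := by
      rw [← charDegree_spec χ, ← hχe 1]; rfl
    have := degree_dvd_card hχ' h1
    rwa [← Subgroup.index_eq_card] at this
  have hle : (charDegree (χ : G → ℂ)).factorization p ≤ D.index.factorization p :=
    (Nat.factorization_le_iff_dvd (charDegree_pos χ).ne' (Subgroup.index_ne_zero_of_finite)).mpr hdvd p
  have hidx : D.index.factorization p + blockDefect p B = (Nat.card G).factorization p := by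
    have h1 : (Nat.card G) = Nat.card D * D.index := (Subgroup.card_mul_index D).symm
    rw [h1, Nat.factorization_mul Nat.card_pos.ne' Subgroup.index_ne_zero_of_finite, hcard,
      Finsupp.add_apply, Nat.Prime.factorization_pow hp.out, Finsupp.single_eq_same]
    omega
  have e1 : nu p χ = (charDegree (χ : G → ℂ)).factorization p := rfl
  omega

/-- every member of `B` is of the form `ζ(z_p) χ(z)`. -/
theorem exists_canonMul (hMod : IsPModular p M) (hG : D ⊔ Subgroup.centralizer (D : Set G) = ⊤) (hD : IsPGroup p D)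
    {B : Set (IrrCharacter G)} (hB : IsPBlock M B) (hBD : IsDefectGroup p M B D) {χ : IrrCharacter G} (hχ : χ ∈ B)
    (hker : ∀ y ∈ D, (χ : G → ℂ) y = (χ : G → ℂ) 1) {θ : IrrCharacter G} (hθ : θ ∈ B) :
    ∃ ζ : IrrCharacter D, (θ : G → ℂ) = canonMul p D (ζ : D → ℂ) (χ : G → ℂ) := by
  classical
  haveI hn := normal_of_sup hG
  haveI := Fintype.ofFinite D
  haveI := Fintype.ofFinite (IrrCharacter D)
  have hχ' := irr_isCharacter χ
  have hvan : ∀ z, ppart p z ∉ D → (χ : G → ℂ) z = 0 := fun z hz => vanish_of_normal_defect hMod hB hBD hχ hz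
  by_contra hne
  push Not at hne
  have horth : ∀ ζ : IrrCharacter D, classInner (θ : G → ℂ) (canonMul p D (ζ : D → ℂ) (χ : G → ℂ)) = 0 := by
    intro ζ
    have h1 := canonMul_isIrrCharacter hG hD ζ χ.2 hker hvan
    exact classInner_irr_of_ne (χ := θ) (ψ := ⟨_, h1⟩) (fun h => hne ζ (congrArg Subtype.val h))
  have hsum : ∑ ζ : IrrCharacter D, conj ((ζ : D → ℂ) 1) *
      ((Nat.card G : ℂ) * classInner (θ : G → ℂ) (canonMul p D (ζ : D → ℂ) (χ : G → ℂ))) = 0 :=
    Finset.sum_eq_zero (fun ζ _ => by rw [horth ζ, mul_zero, mul_zero])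
  have hG0 : (Nat.card G : ℂ) ≠ 0 := by exact_mod_cast Nat.card_pos.ne'
  have hexp : ∀ ζ : IrrCharacter D, (Nat.card G : ℂ) * classInner (θ : G → ℂ) (canonMul p D (ζ : D → ℂ) (χ : G → ℂ)) =
      ∑ u : D, conj ((ζ : D → ℂ) u) * ∑ s ∈ Finset.univ.filter (fun s : G => ¬ p ∣ orderOf s),
        (θ : G → ℂ) ((u : G) * s) * conj ((χ : G → ℂ) s) := by
    intro ζ
    unfold classInner
    rw [← mul_assoc, mul_inv_cancel₀ hG0, one_mul]
    rw [sum_section (p := p) (D := D) hG hD
      (F := fun z => (θ : G → ℂ) z * conj (canonMul p D (ζ : D → ℂ) (χ : G → ℂ) z))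
      (fun z hz => by
        rw [vanish_of_normal_defect hMod hB hBD hθ hz, zero_mul])]
    refine Finset.sum_congr rfl (fun u _ => ?_)
    rw [Finset.mul_sum]
    refine Finset.sum_congr rfl (fun s hs => ?_)
    rw [canonMul_section hG hD (ζ : D → ℂ) hχ' hker u (Finset.mem_filter.mp hs).2, map_mul]
    ring
  rw [Finset.sum_congr rfl (fun ζ _ => by rw [hexp ζ])] at hsum
  have hswap : ∑ ζ : IrrCharacter D, conj ((ζ : D → ℂ) 1) *
      ∑ u : D, conj ((ζ : D → ℂ) u) * ∑ s ∈ Finset.univ.filter (fun s : G => ¬ p ∣ orderOf s),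
        (θ : G → ℂ) ((u : G) * s) * conj ((χ : G → ℂ) s) =
      (Nat.card D : ℂ) * ∑ s ∈ Finset.univ.filter (fun s : G => ¬ p ∣ orderOf s),
        (θ : G → ℂ) s * conj ((χ : G → ℂ) s) := by
    simp only [Finset.mul_sum]
    rw [Finset.sum_comm]
    have h1 : ∀ u : D, ∑ ζ : IrrCharacter D, ∑ s ∈ Finset.univ.filter (fun s : G => ¬ p ∣ orderOf s),
        conj ((ζ : D → ℂ) 1) * (conj ((ζ : D → ℂ) u) * ((θ : G → ℂ) ((u : G) * s) * conj ((χ : G → ℂ) s))) =
        if u = 1 then (Nat.card D : ℂ) * ∑ s ∈ Finset.univ.filter (fun s : G => ¬ p ∣ orderOf s),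
          (θ : G → ℂ) s * conj ((χ : G → ℂ) s) else 0 := by
      intro u
      have h2 := congrArg conj (sum_degree_mul (G := D) u)
      rw [map_sum] at h2
      have h3 : ∑ ζ : IrrCharacter D, ∑ s ∈ Finset.univ.filter (fun s : G => ¬ p ∣ orderOf s),
          conj ((ζ : D → ℂ) 1) * (conj ((ζ : D → ℂ) u) * ((θ : G → ℂ) ((u : G) * s) * conj ((χ : G → ℂ) s))) =
          (∑ ζ : IrrCharacter D, conj ((ζ : D → ℂ) 1 * (ζ : D → ℂ) u)) *
            ∑ s ∈ Finset.univ.filter (fun s : G => ¬ p ∣ orderOf s),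
              (θ : G → ℂ) ((u : G) * s) * conj ((χ : G → ℂ) s) := by
        rw [Finset.sum_mul]
        refine Finset.sum_congr rfl (fun ζ _ => ?_)
        rw [Finset.mul_sum]
        refine Finset.sum_congr rfl (fun s _ => ?_)
        rw [map_mul]; ring
      rw [h3, h2]
      split_ifs with hu
      · rw [hu, Complex.conj_natCast]
        congr 1
        refine Finset.sum_congr rfl (fun s _ => ?_)
        rw [Subgroup.coe_one, one_mul]
      · rw [map_zero, zero_mul]
    rw [Finset.sum_congr rfl (fun u _ => h1 u), Finset.sum_ite_eq' Finset.univ (1 : D), if_pos (Finset.mem_univ _)]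
    rw [Finset.mul_sum]
  rw [hswap] at hsum
  have hD0 : (Nat.card D : ℂ) ≠ 0 := by exact_mod_cast Nat.card_pos.ne'
  have hzero := (mul_eq_zero.mp hsum).resolve_left hD0
  -- contradiction with the height zero character `χ`
  have hL := (not_mli_Lam_iff hMod hB hθ hχ).mpr (canon_degree hMod hG hD hB hBD hχ hker).2
  apply hL
  have : Lam p (θ : G → ℂ) (χ : G → ℂ) = 0 := by
    unfold Lam omega regConj
    rw [div_eq_zero_iff]
    left
    refine Eq.trans ?_ hzero
    rw [Finset.sum_filter]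
    refine Finset.sum_congr rfl (fun s _ => ?_)
    by_cases hs : p ∣ orderOf s
    · rw [if_pos hs, if_neg (not_not.mpr hs), zero_mul]
    · rw [if_neg hs, if_pos hs]; ring
  rw [this]
  exact mli_zero


theorem not_dvd_orderOf_one : ¬ p ∣ orderOf (1 : G) := by
  rw [orderOf_one]; exact hp.out.one_lt.ne' ∘ Nat.dvd_one.mp

/-- existence of the canonical character -/
theorem exists_canon (hMod : IsPModular p M) (hG : D ⊔ Subgroup.centralizer (D : Set G) = ⊤) (hD : IsPGroup p D)
    {B : Set (IrrCharacter G)} (hB : IsPBlock M B) :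
    ∃ χ : IrrCharacter G, χ ∈ B ∧ ∀ y ∈ D, (χ : G → ℂ) y = (χ : G → ℂ) 1 := by
  haveI hn := normal_of_sup hG
  obtain ⟨χ, hχ, h⟩ := exists_mem_block_ker hMod hD hB
  exact ⟨χ, hχ, fun y hy => by have := h y hy 1; rwa [mul_one] at this⟩

theorem canonMul_coe (hG : D ⊔ Subgroup.centralizer (D : Set G) = ⊤) (hD : IsPGroup p D)
    (ζ : D → ℂ) {χ : G → ℂ} (hχ : IsCharacter G χ) (hker : ∀ y ∈ D, χ y = χ 1) (u : D) :
    canonMul p D ζ χ (u : G) = ζ u * χ 1 := by
  have := canonMul_section hG hD ζ hχ hker u (s := 1) not_dvd_orderOf_one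
  rwa [mul_one] at this

/-- uniqueness of the canonical character -/
theorem canon_unique (hMod : IsPModular p M) (hG : D ⊔ Subgroup.centralizer (D : Set G) = ⊤) (hD : IsPGroup p D)
    {B : Set (IrrCharacter G)} (hB : IsPBlock M B) (hBD : IsDefectGroup p M B D) {χ θ : IrrCharacter G} (hχ : χ ∈ B)
    (hker : ∀ y ∈ D, (χ : G → ℂ) y = (χ : G → ℂ) 1) (hθ : θ ∈ B)
    (hkerθ : ∀ y ∈ D, (θ : G → ℂ) y = (θ : G → ℂ) 1) : θ = χ := by
  classical
  haveI hn := normal_of_sup hG
  haveI := Fintype.ofFinite D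
  obtain ⟨ζ, hζ⟩ := exists_canonMul hMod hG hD hB hBD hχ hker hθ
  have hχ' := irr_isCharacter χ
  have h1 : ∀ u : D, (ζ : D → ℂ) u = (ζ : D → ℂ) 1 := by
    intro u
    have h2 := hkerθ u u.2
    have h3 := canonMul_coe hG hD (ζ : D → ℂ) hχ' hker 1
    rw [Subgroup.coe_one] at h3
    rw [hζ, canonMul_coe hG hD _ hχ' hker, h3] at h2
    exact mul_right_cancel₀ (irr_one_ne_zero χ.2) h2
  have h2 : ζ = oneIrr D := by
    by_contra hne
    have h3 := classInner_irr_of_ne hne
    unfold classInner at h3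
    have hD0 : (Nat.card D : ℂ) ≠ 0 := by exact_mod_cast Nat.card_pos.ne'
    have h4 := (mul_eq_zero.mp h3).resolve_left (inv_ne_zero hD0)
    have h5 : ∀ u : D, (ζ : D → ℂ) u * conj ((oneIrr D : D → ℂ) u) = (ζ : D → ℂ) 1 := by
      intro u
      rw [h1 u]
      show (ζ : D → ℂ) 1 * conj (1 : ℂ) = _
      rw [map_one, mul_one]
    rw [Finset.sum_congr rfl (fun u _ => h5 u), Finset.sum_const, nsmul_eq_mul, Finset.card_univ,
      ← Nat.card_eq_fintype_card] at h4
    exact (mul_ne_zero hD0 (irr_one_ne_zero ζ.2)) h4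
  apply Subtype.ext
  rw [hζ, h2]
  funext z
  unfold canonMul
  by_cases hz : ppart p z ∈ D
  · rw [extendByZero_of_mem D _ hz]
    show (1 : ℂ) * _ = _
    rw [one_mul]
  · rw [extendByZero_of_notMem D _ hz, zero_mul, vanish_of_normal_defect hMod hB hBD hχ hz]

/-- **Irreducible characters of a block of `D C_G(D)` with defect group `D`.** -/
theorem canon_classification (hMod : IsPModular p M) (hG : D ⊔ Subgroup.centralizer (D : Set G) = ⊤) (hD : IsPGroup p D)
    {B : Set (IrrCharacter G)} (hB : IsPBlock M B) (hBD : IsDefectGroup p M B D) {χ : IrrCharacter G} (hχ : χ ∈ B)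
    (hker : ∀ y ∈ D, (χ : G → ℂ) y = (χ : G → ℂ) 1) :
    ∃ f : IrrCharacter D ≃ B, ∀ ζ : IrrCharacter D, (((f ζ : B) : IrrCharacter G) : G → ℂ) =
      canonMul p D (ζ : D → ℂ) (χ : G → ℂ) := by
  classical
  haveI hn := normal_of_sup hG
  have hχ' := irr_isCharacter χ
  have hvan : ∀ z, ppart p z ∉ D → (χ : G → ℂ) z = 0 := fun z hz => vanish_of_normal_defect hMod hB hBD hχ hz
  let f : IrrCharacter D → B := fun ζ =>
    ⟨⟨canonMul p D (ζ : D → ℂ) (χ : G → ℂ), canonMul_isIrrCharacter hG hD ζ χ.2 hker hvan⟩,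
      canonMul_mem hMod hG hD hB hχ hker ζ rfl⟩
  have hf : Function.Bijective f := by
    constructor
    · intro ζ ζ' h
      have h1 : canonMul p D (ζ : D → ℂ) (χ : G → ℂ) = canonMul p D (ζ' : D → ℂ) (χ : G → ℂ) :=
        congrArg (fun x : B => ((x : IrrCharacter G) : G → ℂ)) h
      apply Subtype.ext
      funext u
      have h2 := congrFun h1 (u : G)
      rw [canonMul_coe hG hD _ hχ' hker, canonMul_coe hG hD _ hχ' hker] at h2
      exact mul_right_cancel₀ (irr_one_ne_zero χ.2) h2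
    · rintro ⟨θ, hθ⟩
      obtain ⟨ζ, hζ⟩ := exists_canonMul hMod hG hD hB hBD hχ hker hθ
      exact ⟨ζ, Subtype.ext (Subtype.ext hζ.symm)⟩
  exact ⟨Equiv.ofBijective f hf, fun ζ => rfl⟩

end Block

end Cfsg.Agent.BlkInd
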