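import Mathlib
import Cfsg.Agent.BlkInd.Canon2
import Cfsg.Agent.BlkInd.FirstMain
import Cfsg.Agent.BlkInd.DefectApp2
import Cfsg.Agent.Char.CentralChar

set_option autoImplicit false
set_option linter.style.haveILetI false
set_option linter.unusedSimpArgs false
set_option linter.unusedSectionVars false
set_option linter.unusedVariables false

/-!
# Characters of maximal defect relative to a central `p`-subgroup
-/

namespace Cfsg.Agent.BlkInd

open scoped BigOperators ComplexConjugate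
open Cfsg Cfsg.Agent.CharBase Cfsg.Agent.Blk Cfsg.Agent.BlkC

universe u v w

section Main

variable {G : Type u} [Group G] [Fintype G] {M : Ideal AlgInt} [hM : M.IsPrime] {p : ℕ} [hp : Fact p.Prime]

theorem sup_centralizer_of_central {D : Subgroup G} (hDZ : D ≤ Subgroup.center G) :
    D ⊔ Subgroup.centralizer (D : Set G) = ⊤ := by
  rw [eq_top_iff]
  refine le_trans ?_ le_sup_right
  intro g _
  rw [Subgroup.mem_centralizer_iff]
  intro d hd
  exact (Subgroup.mem_center_iff.mp (hDZ hd) g).symm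

open Classical in
theorem regInner_self_eq (χ : IrrCharacter G) :
    regInner p (χ : G → ℂ) (χ : G → ℂ) = (Nat.card G : ℂ)⁻¹ *
      ∑ s ∈ Finset.univ.filter (fun s : G => ¬ p ∣ orderOf s), ((Complex.normSq ((χ : G → ℂ) s) : ℝ) : ℂ) := by
  unfold regInner
  congr 1
  rw [Finset.sum_filter]
  refine Finset.sum_congr rfl (fun g _ => ?_)
  unfold regConj
  by_cases h : p ∣ orderOf g
  · simp [h]
  · simp [h, Complex.mul_conj]

theorem sum_normSq (χ : IrrCharacter G) : ∑ g : G, Complex.normSq ((χ : G → ℂ) g) = Nat.card G := by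
  have h1 := classInner_irr_self χ
  unfold classInner at h1
  have hG0 : (Nat.card G : ℂ) ≠ 0 := by exact_mod_cast Nat.card_pos.ne'
  rw [inv_mul_eq_iff_eq_mul₀ hG0, mul_one] at h1
  have h2 : ∑ g : G, ((Complex.normSq ((χ : G → ℂ) g) : ℝ) : ℂ) = (Nat.card G : ℂ) := by
    rw [← h1]
    refine Finset.sum_congr rfl (fun g _ => ?_)
    rw [Complex.mul_conj]
  exact_mod_cast h2

open Classical in
/-- the mass of `χ` on the sections of `D`. -/
theorem sum_section_normSq {D : Subgroup G} (hD : IsPGroup p D) (hDZ : D ≤ Subgroup.center G)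
    (χ : IrrCharacter G) :
    ∑ g ∈ Finset.univ.filter (fun g : G => ppart p g ∈ D), Complex.normSq ((χ : G → ℂ) g) =
      Nat.card D * ∑ s ∈ Finset.univ.filter (fun s : G => ¬ p ∣ orderOf s), Complex.normSq ((χ : G → ℂ) s) := by
  haveI := Fintype.ofFinite D
  have hG := sup_centralizer_of_central hDZ
  have h1 := sum_section (p := p) hG hD
    (F := fun g => if ppart p g ∈ D then ((Complex.normSq ((χ : G → ℂ) g) : ℝ) : ℂ) else 0)
    (fun z hz => if_neg hz)
  rw [← Finset.sum_filter] at h1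
  have h2 : ∀ u : D, ∑ s ∈ Finset.univ.filter (fun s : G => ¬ p ∣ orderOf s),
      (fun g => if ppart p g ∈ D then ((Complex.normSq ((χ : G → ℂ) g) : ℝ) : ℂ) else 0) ((u : G) * s) =
      ∑ s ∈ Finset.univ.filter (fun s : G => ¬ p ∣ orderOf s), ((Complex.normSq ((χ : G → ℂ) s) : ℝ) : ℂ) := by
    intro u
    refine Finset.sum_congr rfl (fun s hs => ?_)
    rw [Finset.mem_filter] at hs
    simp only
    rw [ppart_section hG hD u hs.2, if_pos u.2]
    obtain ⟨c, hc1, -, hc⟩ := Char.CC.exists_scalar χ.2 (u : G) (hDZ u.2)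
    rw [hc, map_mul, Complex.normSq_eq_norm_sq c, hc1]
    norm_num
  rw [Finset.sum_congr rfl (fun u _ => h2 u), Finset.sum_const, nsmul_eq_mul, Finset.card_univ,
    ← Nat.card_eq_fintype_card] at h1
  exact_mod_cast h1

/-- **S0969** -/
theorem laradji (hMod : IsPModular p M) {D : Subgroup G} (hD : IsPGroup p D) (hDZ : D ≤ Subgroup.center G)
    (χ : IrrCharacter G)
    (hdeg : (charDegree (χ : G → ℂ)).factorization p = D.index.factorization p) :
    IsDefectGroup p M (blockOf M (χ : G → ℂ)) D ∧ ∀ g x : G, IsPPart p g x → x ∉ D → (χ : G → ℂ) g = 0 := by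
  classical
  set S : ℝ := ∑ s ∈ Finset.univ.filter (fun s : G => ¬ p ∣ orderOf s), Complex.normSq ((χ : G → ℂ) s) with hS
  set T : ℝ := ∑ g ∈ Finset.univ.filter (fun g : G => ppart p g ∈ D), Complex.normSq ((χ : G → ℂ) g) with hT
  have hTS : T = Nat.card D * S := sum_section_normSq hD hDZ χ
  have hG0 : (0 : ℝ) < Nat.card G := by exact_mod_cast Nat.card_pos
  have hsum := sum_normSq χ
  have hsplit := Finset.sum_filter_add_sum_filter_not Finset.univ (fun g : G => ppart p g ∈ D)
    (fun g => Complex.normSq ((χ : G → ℂ) g))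
  set U : ℝ := ∑ g ∈ Finset.univ.filter (fun g : G => ¬ ppart p g ∈ D), Complex.normSq ((χ : G → ℂ) g) with hU
  have hU0 : 0 ≤ U := Finset.sum_nonneg (fun g _ => Complex.normSq_nonneg _)
  have hTU : T + U = Nat.card G := by rw [← hsum, ← hsplit]
  have hSpos : 0 < S := by
    apply Finset.sum_pos'
    · intro g _; exact Complex.normSq_nonneg _
    · refine ⟨1, ?_, ?_⟩
      · rw [Finset.mem_filter]
        refine ⟨Finset.mem_univ _, ?_⟩
        rw [orderOf_one]
        exact hp.out.one_lt.ne' ∘ Nat.dvd_one.mp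
      · exact Complex.normSq_pos.mpr (irr_one_ne_zero χ.2)
  -- the integer
  set a := (Nat.card G).factorization p with ha
  have hN := Nreg_spec (p := p) χ χ
  rw [regInner_self_eq, ← Complex.ofReal_sum, ← hS] at hN
  have hN' : ((p ^ a : ℕ) : ℝ) * ((Nat.card G : ℝ)⁻¹ * S) = (Nreg p χ χ : ℝ) := by
    have : (((p ^ a : ℕ) : ℝ) * ((Nat.card G : ℝ)⁻¹ * S) : ℂ) = ((Nreg p χ χ : ℝ) : ℂ) := by
      rw [← ha] at hN
      push_cast at hN ⊢
      exact hN
    exact_mod_cast this
  have hpa : (0 : ℝ) < ((p ^ a : ℕ) : ℝ) := by exact_mod_cast pow_pos hp.out.pos _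
  have hNpos : 0 < Nreg p χ χ := by
    have : (0 : ℝ) < (Nreg p χ χ : ℝ) := by rw [← hN']; positivity
    exact_mod_cast this
  have hdvd := pow_nu_dvd_Nreg (p := p) χ χ
  have hge : (p : ℤ) ^ nu p χ ≤ Nreg p χ χ := Int.le_of_dvd hNpos hdvd
  -- orders
  obtain ⟨δ, hδ⟩ := IsPGroup.iff_card.mp hD
  have hcard : a = δ + nu p χ := by
    have h1 := Subgroup.card_mul_index D
    have h2 : D.index ≠ 0 := Subgroup.index_ne_zero_of_finite
    have h3 : (Nat.card D * D.index).factorization p = δ + D.index.factorization p := by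
      rw [Nat.factorization_mul Nat.card_pos.ne' h2, hδ]
      simp [hp.out.factorization_self]
    rw [h1] at h3
    rw [ha, h3]
    unfold nu
    rw [hdeg]
  have hkey : (Nat.card D : ℝ) * (p : ℝ) ^ nu p χ = ((p ^ a : ℕ) : ℝ) := by
    rw [hδ, hcard]; push_cast; rw [pow_add]
  have hDpos : (0 : ℝ) < Nat.card D := by exact_mod_cast Nat.card_pos
  have h1 : (Nat.card D : ℝ) * (Nreg p χ χ : ℝ) = ((p ^ a : ℕ) : ℝ) * ((Nat.card G : ℝ)⁻¹ * T) := by
    rw [← hN', hTS]; ring
  have h2 : (Nat.card D : ℝ) * (p : ℝ) ^ nu p χ ≤ (Nat.card D : ℝ) * (Nreg p χ χ : ℝ) := by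
    refine mul_le_mul_of_nonneg_left ?_ hDpos.le
    exact_mod_cast hge
  rw [hkey, h1] at h2
  have h3 : 1 ≤ (Nat.card G : ℝ)⁻¹ * T := by
    by_contra hlt
    push Not at hlt
    have := mul_lt_mul_of_pos_left hlt hpa
    rw [mul_one] at this
    linarith
  have h4 : (Nat.card G : ℝ) ≤ T := by
    rw [inv_mul_eq_div, le_div_iff₀ hG0, one_mul] at h3
    exact h3
  have hUz : U = 0 := by linarith
  have hTG : T = Nat.card G := by linarith
  have hvan : ∀ g : G, ppart p g ∉ D → (χ : G → ℂ) g = 0 := by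
    intro g hg
    have := (Finset.sum_eq_zero_iff_of_nonneg (fun g _ => Complex.normSq_nonneg _)).mp hUz g
      (Finset.mem_filter.mpr ⟨Finset.mem_univ _, hg⟩)
    exact Complex.normSq_eq_zero.mp this
  have hNeq : Nreg p χ χ = (p : ℤ) ^ nu p χ := by
    have h5 : (Nat.card D : ℝ) * (Nreg p χ χ : ℝ) = (Nat.card D : ℝ) * (p : ℝ) ^ nu p χ := by
      rw [hkey, h1, hTG, inv_mul_cancel₀ hG0.ne', mul_one]
    have h6 := mul_left_cancel₀ hDpos.ne' h5
    exact_mod_cast h6
  refine ⟨?_, fun g x hx hxD => hvan g (by rw [ppart_eq hx]; exact hxD)⟩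
  have hB : IsPBlock M (blockOf M (χ : G → ℂ)) := isPBlock_blockOf χ
  have hχ := mem_blockOf_self (M := M) χ
  have hL : ¬ MemLocalIdeal M (Lam p (χ : G → ℂ) (χ : G → ℂ)) := by
    rw [mli_Lam_iff hMod, hNeq]
    intro hd
    have h7 : p ^ (nu p χ + 1) ∣ p ^ nu p χ := by exact_mod_cast hd
    have h8 := (Nat.pow_dvd_pow_iff_le_right hp.out.one_lt).mp h7
    omega
  have hnu := nu_eq_nuMin_of_not_mli hMod hB hχ hχ hL
  obtain ⟨E, hE⟩ := exists_defectGroup hMod hB
  haveI : D.Normal := normal_of_sup (sup_centralizer_of_central hDZ)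
  have hDE := normal_le_defectGroup hMod hD hB hE
  have hEc := card_defectGroup hMod hB hE
  have hdn := defect_add_nuMin (p := p) (B := blockOf M (χ : G → ℂ)) ⟨χ, hχ⟩
  have hdef : blockDefect p (blockOf M (χ : G → ℂ)) = δ := by
    rw [← hnu] at hdn
    omega
  have : D = E := Subgroup.eq_of_le_of_card_ge hDE (by rw [hEc, hδ, hdef])
  rw [this]; exact hE

end Main

end Cfsg.Agent.BlkInd
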