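import Mathlib
import Cfsg.Agent.BlkInd.CoverC
import Cfsg.Agent.H75.Inflate

set_option autoImplicit false
set_option linter.style.haveILetI false
set_option linter.unusedSimpArgs false
set_option linter.unusedSectionVars false
set_option linter.unusedVariables false

/-!
# Covering of blocks: quotients by normal `p'`-subgroups, and `Q C_G(Q)`
-/

namespace Cfsg.Agent.BlkInd

open scoped BigOperators ComplexConjugate
open Cfsg Cfsg.Agent.CharBase Cfsg.Agent.Char

universe u v w

section Fiber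

variable {G : Type u} [Group G] [Fintype G] (N : Subgroup G) [hN : N.Normal]

open Classical in
theorem card_fiber_mk (y : G ⧸ N) :
    (Finset.univ.filter (fun g : G => (QuotientGroup.mk g : G ⧸ N) = y)).card = Nat.card N := by
  have h1 : (Finset.univ.filter (fun g : G => QuotientGroup.mk' N g = y)).card =
      (Finset.univ.filter (fun g : G => QuotientGroup.mk' N g = 1)).card :=
    MonoidHom.card_fiber_eq_of_mem_range (QuotientGroup.mk' N) (QuotientGroup.mk'_surjective N y)
      ⟨1, map_one _⟩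
  have h2 : (Finset.univ.filter (fun g : G => QuotientGroup.mk' N g = 1)).card = Nat.card N := by
    rw [Nat.card_eq_fintype_card, ← Fintype.card_subtype]
    refine Fintype.card_congr (Equiv.subtypeEquivRight (fun g => ?_))
    exact QuotientGroup.eq_one_iff g
  rw [← h2, ← h1]
  rfl

theorem sum_comp_mk [Fintype (G ⧸ N)] (F : G ⧸ N → ℂ) :
    ∑ g : G, F (QuotientGroup.mk g) = (Nat.card N : ℂ) * ∑ y : G ⧸ N, F y := by
  classical
  rw [← Finset.sum_fiberwise Finset.univ (fun g : G => (QuotientGroup.mk g : G ⧸ N)), Finset.mul_sum]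
  refine Finset.sum_congr rfl (fun y _ => ?_)
  rw [Finset.sum_congr rfl (fun g hg => by
    rw [Finset.mem_filter] at hg
    rw [hg.2] : ∀ g ∈ Finset.univ.filter (fun g : G => (QuotientGroup.mk g : G ⧸ N) = y),
      F (QuotientGroup.mk g) = F y), Finset.sum_const, card_fiber_mk, nsmul_eq_mul]

variable {M : Ideal AlgInt} [hM : M.IsPrime] {p : ℕ} [hp : Fact p.Prime]

/-- the preimage of the class sum of `y` -/
noncomputable def preSum [Fintype (G ⧸ N)] (y : G ⧸ N) : MonoidAlgebra ℂ G :=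
  ga (fun g => classInd y (QuotientGroup.mk g))

theorem isCentr_preSum [Fintype (G ⧸ N)] (y : G ⧸ N) : IsCentr (preSum N y) := by
  refine isCentr_ga (fun g x => ?_)
  exact classInd_isClassFunction y (QuotientGroup.mk g) (QuotientGroup.mk x)

theorem IntGA.preSum [Fintype (G ⧸ N)] (y : G ⧸ N) : IntGA M (preSum N y) :=
  fun g => Blk.mlr_classInd y _

theorem om_preSum [Fintype (G ⧸ N)] {χ' : G ⧸ N → ℂ} (h : IsClassFunction (G ⧸ N) χ') (y : G ⧸ N) :
    om (fun g => χ' (QuotientGroup.mk g)) (preSum N y) = (Nat.card N : ℂ) * centralChar χ' y := by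
  unfold om preSum
  rw [ev_ga, sum_comp_mk N (fun z => classInd y z * χ' z), sum_classInd_mul y h]
  unfold centralChar
  show (Nat.card N : ℂ) * (_ * χ' y) / χ' (QuotientGroup.mk 1) = _
  rw [QuotientGroup.mk_one]
  ring

theorem sameBlock_of_inflate (hMod : IsPModular p M) (hNp : ¬ p ∣ Nat.card N) (χ ψ : IrrCharacter (G ⧸ N))
    (h : SameBlock M (fun g : G => (χ : G ⧸ N → ℂ) (QuotientGroup.mk g))
      (fun g : G => (ψ : G ⧸ N → ℂ) (QuotientGroup.mk g))) :
    SameBlock M (χ : G ⧸ N → ℂ) (ψ : G ⧸ N → ℂ) := by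
  haveI := Fintype.ofFinite (G ⧸ N)
  intro y
  have h1 := mli_om_sub (M := M) (χ := ⟨_, H75.isIrrCharacter_inflate N χ.2⟩)
    (ψ := ⟨_, H75.isIrrCharacter_inflate N ψ.2⟩) h (isCentr_preSum N y) (IntGA.preSum N y)
  rw [om_preSum N (irr_isClassFunction χ), om_preSum N (irr_isClassFunction ψ), ← mul_sub] at h1
  have h2 := Blk.mli_mul_left (Blk.mlr_natCast_inv hMod hNp) h1
  rwa [← mul_assoc, inv_mul_cancel₀ (by exact_mod_cast Nat.card_pos.ne'), one_mul] at h2

theorem sameBlock_inflate_ker (hMod : IsPModular p M) (hNp : ¬ p ∣ Nat.card N) {χ ψ : IrrCharacter G}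
    (hker : ∀ n ∈ N, (χ : G → ℂ) n = (χ : G → ℂ) 1) (h : SameBlock M (χ : G → ℂ) (ψ : G → ℂ)) :
    ∀ n ∈ N, (ψ : G → ℂ) n = (ψ : G → ℂ) 1 := by
  classical
  have hint : IntGA M (sumS N) := fun g => by
    rw [sumS_coeff]
    split_ifs
    · exact Blk.mlr_one
    · exact Blk.mlr_zero
  have h1 := mli_om_sub (M := M) h (isCentr_sumS N) hint
  have h2 : om (χ : G → ℂ) (sumS N) = (Nat.card N : ℂ) := by
    unfold om sumS
    rw [ev_ga]
    have e1 : ∑ g : G, (if g ∈ N then (1 : ℂ) else 0) * (χ : G → ℂ) g =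
        (Nat.card N : ℂ) * (χ : G → ℂ) 1 := by
      have e2 : ∀ g : G, (if g ∈ N then (1 : ℂ) else 0) * (χ : G → ℂ) g =
          if g ∈ N then (χ : G → ℂ) 1 else 0 := by
        intro g
        split_ifs with hg
        · rw [hker g hg, one_mul]
        · rw [zero_mul]
      rw [Finset.sum_congr rfl (fun g _ => e2 g), ← Finset.sum_filter, Finset.sum_const, nsmul_eq_mul]
      congr 2
      rw [Nat.card_eq_fintype_card, ← Fintype.card_subtype]
    rw [e1, mul_div_assoc, div_self (irr_one_ne_zero χ.2), mul_one]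
  have h3 : om (ψ : G → ℂ) (sumS N) ≠ 0 := by
    intro h0
    rw [h2, h0, sub_zero] at h1
    rw [Blk.mli_natCast_iff hMod] at h1
    exact hNp h1
  intro n hn
  have := irr_ker_of_om_ne_zero ψ.2 h3 hn 1
  rwa [mul_one] at this

end Fiber

section Cent

variable {G : Type u} [Group G] [Fintype G] {M : Ideal AlgInt} [hM : M.IsPrime] {p : ℕ} [hp : Fact p.Prime]

theorem sup_centralizer_le_normalizer (Q : Subgroup G) [hQn : Q.Normal] :
    Q ⊔ Subgroup.centralizer (Q : Set G) ≤ Subgroup.normalizer (Q : Set G) := by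
  rw [Subgroup.normalizer_eq_top_iff.mpr hQn]; exact le_top

instance normal_sup_centralizer (Q : Subgroup G) [hQn : Q.Normal] :
    (Q ⊔ Subgroup.centralizer (Q : Set G)).Normal := Subgroup.sup_normal _ _

theorem inducedCentralChar_eq_zero {N : Subgroup G} [hN : N.Normal] (θ : N → ℂ) {g : G} (hg : g ∉ N) :
    inducedCentralChar N θ g = 0 := by
  unfold inducedCentralChar
  have : {h : N | IsConj g (h : G)} = ∅ := by
    ext h
    simp only [Set.mem_ofPred_eq, Set.mem_empty_iff_false, iff_false]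
    intro hc
    apply hg
    obtain ⟨c, hc⟩ := isConj_iff.mp hc.symm
    rw [← hc]
    exact hN.conj_mem _ h.2 c
  rw [this, finsum_mem_empty]

/-- **S0971** -/
theorem induced_of_cover (hMod : IsPModular p M) (Q : Subgroup G) [hQn : Q.Normal] (hQ : IsPGroup p Q)
    [Fintype ↥(Q ⊔ Subgroup.centralizer (Q : Set G))]
    {b : Set (IrrCharacter ↥(Q ⊔ Subgroup.centralizer (Q : Set G)))} (hb : IsPBlock M b)
    {B : Set (IrrCharacter G)} (hB : IsPBlock M B)
    (hcov : ∃ χ ∈ B, ∃ θ ∈ b, classInner (fun n : ↥(Q ⊔ Subgroup.centralizer (Q : Set G)) => (χ : G → ℂ) n)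
      (θ : ↥(Q ⊔ Subgroup.centralizer (Q : Set G)) → ℂ) ≠ 0) :
    IsInducedBlock M (Q ⊔ Subgroup.centralizer (Q : Set G)) b B := by
  refine ⟨hb, hB, fun θ hθ χ hχ g => ?_⟩
  by_cases hg : g ∈ Q ⊔ Subgroup.centralizer (Q : Set G)
  · have h1 := (cover_iff hB hb).mp hcov χ hχ θ hθ ⟨g, hg⟩
    exact Blk.mli_symm h1
  · rw [inducedCentralChar_eq_zero _ hg, zero_sub]
    refine Blk.mli_neg ?_
    exact mli_centralChar_of_normal hMod hQ χ (fun h => hg (Subgroup.mem_sup_right h))

end Cent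

end Cfsg.Agent.BlkInd
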