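import Cfsg.Prelude.Def_DegreeGraph
import Cfsg.Agent.Char.BurnsideClass
import Cfsg.Agent.Char.Clifford
import Cfsg.Agent.H75.Inflate
import Cfsg.Agent.BlkC.Basic

/-!
# Primes dividing the irreducible character degrees of a nonsolvable group
-/

set_option autoImplicit false

open Module

namespace Cfsg.Agent.BlkInd

open Cfsg.Agent.CharBase Cfsg.Agent.Char

universe u

theorem cdeg_of_eq {G : Type u} [Group G] {χ : G → ℂ} {n : ℕ} (h : χ 1 = (n : ℂ)) :
    charDegree χ = n := by
  unfold charDegree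
  rw [h]
  simp

/-- Burnside's argument: a simple nonabelian group, a central element of a Sylow `q`-subgroup, and
any prime `p`: some irreducible character has degree prime to `p`, but not prime to the length of
the class. -/
theorem exists_deg_not_coprime {G : Type u} [Group G] [Finite G] [IsSimpleGroup G]
    (hna : ¬ ∀ a b : G, a * b = b * a) {p : ℕ} (hp : p.Prime) (g : G) (hg : g ≠ 1) :
    ∃ χ : IrrCharacter G, ¬ p ∣ charDegree (χ : G → ℂ) ∧
      ¬ Nat.Coprime (charDegree (χ : G → ℂ)) (Subgroup.centralizer ({g} : Set G)).index := by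
  classical
  have := Fintype.ofFinite (IrrCharacter G)
  by_contra hcon
  push Not at hcon
  have h1 : ∀ χ : IrrCharacter G, χ ≠ oneIrr G →
      ∃ z : ℂ, IsIntegral ℤ z ∧ (χ : G → ℂ) 1 * (χ : G → ℂ) g = p * z := by
    intro χ hχ
    obtain ⟨n, ρ, hρ, hρχ⟩ := χ.2
    have hne : ρ.character ≠ (fun _ => 1) := by
      intro h
      apply hχ
      apply Subtype.ext
      rw [← hρχ, h]
      rfl
    have hdeg : (χ : G → ℂ) 1 = (n : ℂ) := by
      rw [← hρχ, Representation.char_one]; simp
    have hdeg' : charDegree (χ : G → ℂ) = n := cdeg_of_eq hdeg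
    by_cases hpn : p ∣ n
    · obtain ⟨m, rfl⟩ := hpn
      refine ⟨m * (χ : G → ℂ) g, (isIntegral_algebraMap (R := ℤ) (x := (m : ℤ))).mul
        (irr_isIntegral χ g) |> fun h => by simpa using h, ?_⟩
      rw [hdeg]; push_cast; ring
    · have hcop : Nat.Coprime (finrank ℂ (Fin n → ℂ))
          (Subgroup.centralizer ({g} : Set G)).index := by
        rw [Module.finrank_fin_fun, ← hdeg']
        exact hcon χ (by rw [hdeg']; exact hpn)
      rcases character_eq_zero_or_norm_eq ρ g hcop with h0 | h0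
      · refine ⟨0, isIntegral_zero, ?_⟩
        rw [← hρχ, h0]; ring
      · exfalso
        have hmem : g ∈ scalarSubgroup ρ := (rep_norm_character_eq_iff ρ g).mp h0
        have hsc : scalarSubgroup ρ = ⊤ := by
          rcases (scalarSubgroup_normal ρ).eq_bot_or_eq_top with h | h
          · rw [h, Subgroup.mem_bot] at hmem
            exact absurd hmem hg
          · exact h
        have hsc' : ∀ x : G, x ∈ scalarSubgroup ρ := fun x => hsc ▸ Subgroup.mem_top x
        have hker : MonoidHom.ker ρ = ⊥ := by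
          rcases (inferInstance : (MonoidHom.ker ρ).Normal).eq_bot_or_eq_top with h | h
          · exact h
          · exfalso
            apply hne
            have h4 := finrank_eq_one_of_scalar ρ hsc'
            funext x
            have h3 : ρ x = 1 := by
              have : x ∈ MonoidHom.ker ρ := by rw [h]; exact Subgroup.mem_top x
              exact MonoidHom.mem_ker.mp this
            unfold Representation.character
            rw [h3]
            change LinearMap.trace ℂ _ LinearMap.id = 1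
            rw [LinearMap.trace_id, h4]
            simp
        apply hna
        intro a b
        have h3 : ρ (a * b) = ρ (b * a) := by
          obtain ⟨u, hu⟩ := mem_scalarSubgroup.mp (hsc' a)
          obtain ⟨v, hv⟩ := mem_scalarSubgroup.mp (hsc' b)
          rw [map_mul, map_mul, hu, hv]
          ext x
          simp [mul_left_comm]
        exact (MonoidHom.ker_eq_bot_iff ρ).mp hker h3
  have h2 := sum_degree_mul (G := G) g
  rw [if_neg hg] at h2
  rw [← Finset.add_sum_erase _ _ (Finset.mem_univ (oneIrr G))] at h2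
  choose! z hz hz' using h1
  have h3 : ∑ χ ∈ Finset.univ.erase (oneIrr G), (χ : G → ℂ) 1 * (χ : G → ℂ) g =
      p * ∑ χ ∈ Finset.univ.erase (oneIrr G), z χ := by
    rw [Finset.mul_sum]
    refine Finset.sum_congr rfl (fun χ hχ => hz' χ (Finset.ne_of_mem_erase hχ))
  rw [h3] at h2
  simp only [oneIrr_apply, mul_one] at h2
  have h4 : IsIntegral ℤ (∑ χ ∈ Finset.univ.erase (oneIrr G), z χ) :=
    IsIntegral.sum _ (fun χ hχ => hz χ (Finset.ne_of_mem_erase hχ))
  have h5 : ((1 : ℕ) : ℂ) / (p : ℂ) = - ∑ χ ∈ Finset.univ.erase (oneIrr G), z χ := by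
    have hp0 : (p : ℂ) ≠ 0 := by exact_mod_cast hp.ne_zero
    field_simp
    push_cast
    linear_combination h2
  have h6 : IsIntegral ℤ (((1 : ℕ) : ℂ) / (p : ℂ)) := by rw [h5]; exact h4.neg
  have h7 := dvd_of_isIntegral_div hp.ne_zero h6
  exact hp.one_lt.ne' (Nat.dvd_one.mp h7)

/-- For a nonabelian simple group `G`, a prime `p` and a prime `q` dividing `|G|`, some irreducible
character degree is divisible by a prime different from `p` and `q`, and is not divisible by `p`. -/
theorem exists_third_prime {G : Type u} [Group G] [Finite G] [IsSimpleGroup G]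
    (hna : ¬ ∀ a b : G, a * b = b * a) {p q : ℕ} (hp : p.Prime) (hq : q.Prime)
    (hqG : q ∣ Nat.card G) :
    ∃ χ : IrrCharacter G, ¬ p ∣ charDegree (χ : G → ℂ) ∧
      ∃ s : ℕ, s.Prime ∧ s ≠ p ∧ s ≠ q ∧ s ∣ charDegree (χ : G → ℂ) := by
  have hfq : Fact q.Prime := ⟨hq⟩
  let P : Sylow q G := default
  have hPne : (P : Subgroup G) ≠ ⊥ := P.ne_bot_of_dvd_card hqG
  have hPnt : Nontrivial (P : Subgroup G) := (Subgroup.nontrivial_iff_ne_bot _).mpr hPne
  have hcnt : Nontrivial (Subgroup.center (P : Subgroup G)) := P.isPGroup'.center_nontrivial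
  obtain ⟨z, hz⟩ := exists_ne (1 : Subgroup.center (P : Subgroup G))
  set g : G := ((z : (P : Subgroup G)) : G) with hg
  have hg1 : g ≠ 1 := by
    intro h
    apply hz
    apply Subtype.ext
    apply Subtype.ext
    exact h
  have hle : (P : Subgroup G) ≤ Subgroup.centralizer ({g} : Set G) := by
    intro x hx
    rw [Subgroup.mem_centralizer_singleton_iff]
    have := Subgroup.mem_center_iff.mp z.2 ⟨x, hx⟩
    exact congrArg Subtype.val this
  have hidx : ¬ q ∣ (Subgroup.centralizer ({g} : Set G)).index := fun h =>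
    P.not_dvd_index (h.trans (Subgroup.index_dvd_of_le hle))
  obtain ⟨χ, h1, h2⟩ := exists_deg_not_coprime hna hp g hg1
  refine ⟨χ, h1, ?_⟩
  obtain ⟨s, hs, hs1, hs2⟩ := Nat.Prime.not_coprime_iff_dvd.1 h2
  refine ⟨s, hs, ?_, ?_, hs1⟩
  · rintro rfl; exact h1 hs1
  · rintro rfl; exact hidx hs2

theorem cdeg_dvd_card {G : Type u} [Group G] [Finite G] (χ : IrrCharacter G) :
    charDegree (χ : G → ℂ) ∣ Nat.card G := by
  exact BlkC.charDegree_dvd_card χ

theorem three_of_simple {G : Type u} [Group G] [Finite G] [IsSimpleGroup G]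
    (hna : ¬ ∀ a b : G, a * b = b * a) :
    ∃ p q r : ℕ, p ≠ q ∧ q ≠ r ∧ p ≠ r ∧ p ∈ degreePrimes G ∧ q ∈ degreePrimes G ∧
      r ∈ degreePrimes G := by
  obtain ⟨q0, hq0, hq0G⟩ := Nat.exists_prime_and_dvd (n := Nat.card G) (by
    intro h
    apply hna
    intro a b
    have h1 := (Nat.card_eq_one_iff_unique.1 h).1
    exact Subsingleton.elim _ _)
  obtain ⟨χ1, -, s1, hs1, -, -, hd1⟩ := exists_third_prime hna hq0 hq0 hq0G
  have hs1G := hd1.trans (cdeg_dvd_card χ1)
  obtain ⟨χ2, -, s2, hs2, h21, -, hd2⟩ := exists_third_prime hna hs1 hs1 hs1G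
  have hs2G := hd2.trans (cdeg_dvd_card χ2)
  obtain ⟨χ3, -, s3, hs3, h31, h32, hd3⟩ := exists_third_prime hna hs1 hs2 hs2G
  exact ⟨s1, s2, s3, h21.symm, h32.symm, h31.symm, ⟨hs1, _, ⟨χ1, rfl⟩, hd1⟩,
    ⟨hs2, _, ⟨χ2, rfl⟩, hd2⟩, ⟨hs3, _, ⟨χ3, rfl⟩, hd3⟩⟩

theorem degreePrimes_quot_subset {G : Type u} [Group G] [Finite G] (N : Subgroup G) [N.Normal] :
    degreePrimes (G ⧸ N) ⊆ degreePrimes G := by
  rintro p ⟨hp, d, hd, hpd⟩
  obtain ⟨χ, rfl⟩ := hd
  exact ⟨hp, _, ⟨(H75.inflateEquiv N χ).1, rfl⟩, hpd⟩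

theorem degreePrimes_normal_subset {G : Type u} [Group G] [Finite G] (N : Subgroup G) [N.Normal] :
    degreePrimes N ⊆ degreePrimes G := by
  classical
  haveI := Fintype.ofFinite G
  rintro p ⟨hp, d, ⟨θ, rfl⟩, hpd⟩
  obtain ⟨χ, hχ, h1⟩ := exists_over N θ.2
  refine ⟨hp, _, ⟨⟨χ, hχ⟩, rfl⟩, hpd.trans ?_⟩
  have h2 := clifford_degree N hχ θ.2 h1
  obtain ⟨n, hn⟩ := exists_nat_degree (isCharacter_of_isIrr hχ)
  obtain ⟨m, hm⟩ := exists_nat_degree (isCharacter_of_isIrr θ.2)
  obtain ⟨e, he⟩ := classInner_natCast (isCharacter_restrict (isCharacter_of_isIrr hχ) N)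
    (isCharacter_of_isIrr θ.2)
  rw [he, hn, hm] at h2
  rw [cdeg_of_eq hn, cdeg_of_eq hm]
  have h3 : n = e * ((inertia N (θ : N → ℂ)).index * m) := by exact_mod_cast h2
  rw [h3]
  exact Dvd.intro_left _ (by rw [mul_assoc])

theorem three_degreePrimes (n : ℕ) : ∀ (G : Type u) [Group G] [Finite G], Nat.card G = n →
    ¬ Group.IsSolvable G →
    ∃ p q r : ℕ, p ≠ q ∧ q ≠ r ∧ p ≠ r ∧ p ∈ degreePrimes G ∧ q ∈ degreePrimes G ∧
      r ∈ degreePrimes G := by
  induction n using Nat.strong_induction_on with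
  | _ n ih =>
  intro G _ _ hG hns
  have hnt : Nontrivial G := by
    by_contra h
    have := not_nontrivial_iff_subsingleton.1 h
    exact hns inferInstance
  by_cases hsimple : IsSimpleGroup G
  · exact three_of_simple fun h => hns (Group.isSolvable_of_comm h)
  · have : ∃ N : Subgroup G, N.Normal ∧ N ≠ ⊥ ∧ N ≠ ⊤ := by
      by_contra hcon
      push Not at hcon
      exact hsimple ⟨fun N hN => by
        by_cases h : N = ⊥
        · exact Or.inl h
        · exact Or.inr (hcon N hN h)⟩
    obtain ⟨N, hN, hNb, hNt⟩ := this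
    by_cases hq : Group.IsSolvable (G ⧸ N)
    · have hNs : ¬ Group.IsSolvable N := fun h => hns (by
        exact Group.isSolvable_of_ker_le_range N.subtype (QuotientGroup.mk' N) (by simp))
      obtain ⟨p, q, r, h1, h2, h3, h4, h5, h6⟩ := ih (Nat.card N) (by
        rw [← hG]
        exact lt_of_le_of_ne (Subgroup.card_le_card_group N) fun h => hNt (Subgroup.eq_top_of_card_eq N h)) N rfl hNs
      exact ⟨p, q, r, h1, h2, h3, degreePrimes_normal_subset N h4,
        degreePrimes_normal_subset N h5, degreePrimes_normal_subset N h6⟩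
    · obtain ⟨p, q, r, h1, h2, h3, h4, h5, h6⟩ := ih (Nat.card (G ⧸ N)) (by
        rw [← hG, Subgroup.card_eq_card_quotient_mul_card_subgroup N]
        have h7 : 1 < Nat.card N := by
          rw [Subgroup.one_lt_card_iff_ne_bot]; exact hNb
        have h8 : 0 < Nat.card (G ⧸ N) := Nat.card_pos
        nlinarith) (G ⧸ N) rfl hq
      exact ⟨p, q, r, h1, h2, h3, degreePrimes_quot_subset N h4,
        degreePrimes_quot_subset N h5, degreePrimes_quot_subset N h6⟩

end Cfsg.Agent.BlkInd
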