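import Mathlib
import Cfsg.Agent.BlkInd.CoverC
import Cfsg.Agent.BlkInd.DefectApp2
import Cfsg.Agent.Blk.Lift

set_option autoImplicit false
set_option linter.style.haveILetI false
set_option linter.unusedSimpArgs false
set_option linter.unusedSectionVars false
set_option linter.unusedVariables false

/-!
# Fong's theorem: blocks covering an invariant block
-/

namespace Cfsg.Agent.BlkInd

open scoped BigOperators ComplexConjugate
open Cfsg Cfsg.Agent.CharBase Cfsg.Agent.Blk

universe u v w

variable {G : Type u} [Group G] [Fintype G] {N : Subgroup G} [hN : N.Normal] [Fintype N]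
  {M : Ideal AlgInt} [hM : M.IsPrime] {p : ℕ} [hp : Fact p.Prime]

theorem centralChar_cj (g : G) (θ : N → ℂ) (n : N) :
    centralChar (Char.cj N g θ) n = centralChar θ (Char.cjEquiv N g n) := by
  unfold centralChar
  rw [Char.cj_one_apply]
  congr 2
  have h2 : (Subgroup.centralizer ({Char.cjEquiv N g n} : Set N)).comap (Char.cjEquiv N g).toMonoidHom =
      Subgroup.centralizer ({n} : Set N) := by
    ext m
    rw [Subgroup.mem_comap, Subgroup.mem_centralizer_singleton_iff,
      Subgroup.mem_centralizer_singleton_iff]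
    show (Char.cjEquiv N g m) * (Char.cjEquiv N g n) = (Char.cjEquiv N g n) * (Char.cjEquiv N g m) ↔ _
    rw [← map_mul, ← map_mul, (Char.cjEquiv N g).injective.eq_iff]
  rw [← h2, Subgroup.index_comap_of_surjective _ (Char.cjEquiv N g).surjective]

/-- the characters of `G` lying over `b` -/
def overSet (b : Set (IrrCharacter N)) : Set (IrrCharacter G) :=
  {χ | ∃ θ ∈ b, classInner (fun n : N => (χ : G → ℂ) n) (θ : N → ℂ) ≠ 0}

/-- `B` covers `b` -/
def Covers (B : Set (IrrCharacter G)) (b : Set (IrrCharacter N)) : Prop :=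
  ∃ χ ∈ B, ∃ θ ∈ b, classInner (fun n : N => (χ : G → ℂ) n) (θ : N → ℂ) ≠ 0

theorem eB_overSet {b : Set (IrrCharacter N)} (hb : GStable N b) :
    eB (overSet (G := G) b) = emb N (eB b) := by
  refine isCentr_ext (isCentr_eB _) hb.isCentr (fun χ => ?_)
  by_cases hχ : χ ∈ overSet b
  · rw [om_eB_of_mem hχ]
    obtain ⟨θ, hθ, h⟩ := hχ
    rw [om_emb_of_constituent hb χ θ h, om_eB_of_mem hθ]
  · rw [om_eB_of_not_mem hχ]
    obtain ⟨θ, hθ⟩ := exists_constituent_restrict (N := N) χ
    rw [om_emb_of_constituent hb χ θ hθ, om_eB_of_not_mem]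
    intro h
    exact hχ ⟨θ, h, hθ⟩

theorem overSet_eq_sUnion {b : Set (IrrCharacter N)} (hb : IsPBlock M b) (hst : GStable N b) :
    overSet (G := G) b = ⋃₀ {B | IsPBlock M B ∧ Covers B b} := by
  ext χ
  constructor
  · rintro ⟨θ, hθ, h⟩
    exact ⟨blockOf M (χ : G → ℂ), ⟨⟨χ, rfl⟩, χ, mem_blockOf_self χ, θ, hθ, h⟩, mem_blockOf_self χ⟩
  · rintro ⟨B, ⟨hB, χ', hχ', θ, hθ, h⟩, hχ⟩
    exact exists_mem_cover hB hb hχ' hθ h hχ

theorem isConj_mem_normal {g h : G} (hg : g ∈ N) (h1 : IsConj g h) : h ∈ N := by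
  obtain ⟨c, rfl⟩ := isConj_iff.mp h1
  exact hN.conj_mem g hg c

open Classical in
/-- the number of `N`-classes in the `G`-class of `g` -/
noncomputable def nCl (N : Subgroup G) [Fintype N] [Fintype (ConjClasses N)] (g : G) : ℕ :=
  (Finset.univ.filter (fun c : ConjClasses N => IsConj g ((Quotient.out c : N) : G))).card

open Classical in
theorem inducedCentralChar_eq_sum_cl [Fintype (ConjClasses N)] (θ : IrrCharacter N) (g : G) :
    inducedCentralChar N (θ : N → ℂ) g =
      ∑ c ∈ Finset.univ.filter (fun c : ConjClasses N => IsConj g ((Quotient.out c : N) : G)),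
        centralChar (θ : N → ℂ) (Quotient.out c) := by
  unfold inducedCentralChar
  have h1 : ∑ᶠ x ∈ {h : N | IsConj g (h : G)}, (θ : N → ℂ) x / (θ : N → ℂ) 1 =
      ∑ x ∈ Finset.univ.filter (fun h : N => IsConj g (h : G)), (θ : N → ℂ) x / (θ : N → ℂ) 1 := by
    rw [finsum_mem_eq_finite_toFinset_sum _ (Set.toFinite _)]
    congr 1
    ext x; simp
  have h2 := sum_invariant_div (θ : N → ℂ) (irr_isClassFunction θ) (fun h : N => IsConj g (h : G))
    (fun x y hxy hx => hx.trans (isConj_map hxy))
  rw [h1, Finset.sum_filter (s := Finset.univ) (p := fun c : ConjClasses N => IsConj g ((Quotient.out c : N) : G))]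
  convert h2 using 1 <;> congr!

theorem centralChar_one_eq (n : N) :
    centralChar ((oneIrr N : IrrCharacter N) : N → ℂ) n = ((Subgroup.centralizer ({n} : Set N)).index : ℂ) := by
  unfold centralChar
  simp

theorem index_centralizer_conj {g : N} {h : N} (hc : IsConj (g : G) (h : G)) :
    (Subgroup.centralizer ({g} : Set N)).index = (Subgroup.centralizer ({h} : Set N)).index := by
  obtain ⟨x, hx⟩ := isConj_iff.mp hc
  have h1 := centralChar_cj x ((oneIrr N : IrrCharacter N) : N → ℂ) g
  have e1 : Char.cjEquiv N x g = h := Subtype.ext hx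
  have e2 : Char.cj N x ((oneIrr N : IrrCharacter N) : N → ℂ) = ((oneIrr N : IrrCharacter N) : N → ℂ) := by
    funext n; rfl
  rw [e1, e2, centralChar_one_eq, centralChar_one_eq] at h1
  exact_mod_cast h1

/-- class counting -/
theorem nCl_mul_index [Fintype (ConjClasses N)] (g : N) :
    nCl N (g : G) * (Subgroup.centralizer ({g} : Set N)).index =
      (Subgroup.centralizer ({(g : G)} : Set G)).index := by
  classical
  have h1 := inducedCentralChar_eq_sum_cl (oneIrr N) (g : G)
  have h2 : ∑ c ∈ Finset.univ.filter (fun c : ConjClasses N => IsConj (g : G) ((Quotient.out c : N) : G)),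
      centralChar ((oneIrr N : IrrCharacter N) : N → ℂ) (Quotient.out c) =
      (nCl N (g : G) : ℂ) * ((Subgroup.centralizer ({g} : Set N)).index : ℂ) := by
    have h3 : ∀ c ∈ Finset.univ.filter (fun c : ConjClasses N => IsConj (g : G) ((Quotient.out c : N) : G)),
        centralChar ((oneIrr N : IrrCharacter N) : N → ℂ) (Quotient.out c) =
          ((Subgroup.centralizer ({g} : Set N)).index : ℂ) := by
      intro c hc
      rw [Finset.mem_filter] at hc
      rw [centralChar_one_eq, index_centralizer_conj hc.2]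
    rw [Finset.sum_congr rfl h3, Finset.sum_const, nsmul_eq_mul]
    rfl
  have h4 : inducedCentralChar N ((oneIrr N : IrrCharacter N) : N → ℂ) (g : G) =
      ((Subgroup.centralizer ({(g : G)} : Set G)).index : ℂ) := by
    obtain ⟨χ, hχ⟩ : ∃ χ : IrrCharacter G, (χ : G → ℂ) = fun _ => 1 := ⟨oneIrr G, rfl⟩
    have h5 : classInner (fun n : N => (χ : G → ℂ) n) ((oneIrr N : IrrCharacter N) : N → ℂ) ≠ 0 := by
      have : (fun n : N => (χ : G → ℂ) n) = ((oneIrr N : IrrCharacter N) : N → ℂ) := by
        funext n; rw [hχ]; rfl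
      rw [this, classInner_irr_self]
      exact one_ne_zero
    rw [← centralChar_eq_induced χ (oneIrr N) h5 g]
    unfold centralChar
    rw [hχ]
    simp
  rw [h2, h4] at h1
  exact_mod_cast h1.symm

/-- for a stable block, `ω` induced is the number of classes times `ω`. -/
theorem mli_induced_sub [Fintype (ConjClasses N)] {b : Set (IrrCharacter N)} (hb : IsPBlock M b)
    (hst : GStable N b) {θ : IrrCharacter N} (hθ : θ ∈ b) (g : N) :
    MemLocalIdeal M (inducedCentralChar N (θ : N → ℂ) (g : G) - (nCl N (g : G) : ℂ) * centralChar (θ : N → ℂ) g) := by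
  classical
  rw [inducedCentralChar_eq_sum_cl]
  have h1 : (nCl N (g : G) : ℂ) * centralChar (θ : N → ℂ) g =
      ∑ c ∈ Finset.univ.filter (fun c : ConjClasses N => IsConj (g : G) ((Quotient.out c : N) : G)),
        centralChar (θ : N → ℂ) g := by
    rw [Finset.sum_const, nsmul_eq_mul]; rfl
  rw [h1, ← Finset.sum_sub_distrib]
  refine mli_sum _ _ (fun c hc => ?_)
  rw [Finset.mem_filter] at hc
  obtain ⟨x, hx⟩ := isConj_iff.mp hc.2
  have e1 : Char.cjEquiv N x g = Quotient.out c := Subtype.ext hx
  rw [← e1, ← centralChar_cj]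
  exact sameBlock_of_mem hb (hst x θ hθ) hθ g

theorem card_map_subtype' {H : Subgroup G} (E : Subgroup H) : Nat.card (E.map H.subtype) = Nat.card E :=
  Nat.card_congr (E.equivMapOfInjective _ H.subtype_injective).symm.toEquiv

/-- Two Sylow subgroups of a centralizer are conjugate in it. -/
theorem SylC.exists_conj {g : G} {D E : Subgroup G} (hD : SylC p g D) (hE : SylC p g E) :
    ∃ a ∈ Subgroup.centralizer ({g} : Set G), D.map (MulAut.conj a).toMonoidHom = E := by
  obtain ⟨P₁, hP₁⟩ := hD
  obtain ⟨P₂, hP₂⟩ := hE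
  obtain ⟨a, ha⟩ := MulAction.exists_smul_eq (Subgroup.centralizer ({g} : Set G)) P₁ P₂
  refine ⟨a, a.2, ?_⟩
  have hle : D.map (MulAut.conj (a : G)).toMonoidHom ≤ E := by
    rw [hP₁, hP₂, ← ha]
    rintro _ ⟨_, ⟨z, hz, rfl⟩, rfl⟩
    refine ⟨a * z * a⁻¹, ?_, by simp⟩
    rw [Sylow.coe_subgroup_smul]
    exact Subgroup.smul_mem_pointwise_smul z (MulAut.conj a) (P₁ : Subgroup _) hz
  refine Subgroup.eq_of_le_of_card_ge hle ?_
  have h1 : SylC p g D := ⟨P₁, hP₁⟩
  have h2 : SylC p g E := ⟨P₂, hP₂⟩
  have e1 : Nat.card (D.map (MulAut.conj (a : G)).toMonoidHom) = Nat.card D :=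
    Nat.card_congr (D.equivMapOfInjective _ (MulAut.conj (a : G)).injective).symm.toEquiv
  rw [e1, h1.card_eq, h2.card_eq]

/-- Intersecting a Sylow subgroup of `C_G(y)` with a normal subgroup containing `y`. -/
theorem SylC.inf_normal {y : N} {P : Subgroup G} (h : SylC p (y : G) P) :
    SylC p y ((P ⊓ N).subgroupOf N) := by
  have hPp : IsPGroup p (P ⊓ N : Subgroup G) := h.isPGroup.to_le inf_le_left
  refine sylC_of_forall (hPp.comap_subtype) ?_ ?_
  · rw [Subgroup.mem_centralizer_iff]
    intro x hx
    apply Subtype.ext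
    exact Subgroup.mem_centralizer_iff.mp h.mem_centralizer (x : G) (Subgroup.mem_subgroupOf.mp hx).1
  · intro E hE hyE hle
    have h1 : (y : G) ∈ Subgroup.centralizer ((E.map N.subtype : Subgroup G) : Set G) := by
      rw [Subgroup.mem_centralizer_iff]
      rintro _ ⟨e, he, rfl⟩
      exact congrArg Subtype.val (Subgroup.mem_centralizer_iff.mp hyE e he)
    obtain ⟨D, hD, hED⟩ := exists_sylC (hE.map N.subtype) h1
    obtain ⟨a, ha, hDa⟩ := hD.exists_conj h
    refine Subgroup.eq_of_le_of_card_ge hle ?_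
    have h2 : (E.map N.subtype).map (MulAut.conj a).toMonoidHom ≤ P ⊓ N := by
      refine le_inf ?_ ?_
      · rw [← hDa]; exact Subgroup.map_mono hED
      · rintro _ ⟨_, ⟨e, he, rfl⟩, rfl⟩
        exact hN.conj_mem _ e.2 a
    have h3 := Nat.le_of_dvd Nat.card_pos (Subgroup.card_dvd_of_le h2)
    have e1 : Nat.card ((E.map N.subtype).map (MulAut.conj a).toMonoidHom) = Nat.card E := by
      rw [← card_map_subtype' E]
      exact Nat.card_congr ((E.map N.subtype).equivMapOfInjective _ (MulAut.conj a).injective).symm.toEquiv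
    have e2 : Nat.card ((P ⊓ N).subgroupOf N) = Nat.card (P ⊓ N : Subgroup G) :=
      Nat.card_congr (Subgroup.subgroupOfEquivOfLe inf_le_right).toEquiv
    rw [e1] at h3
    rw [e2]
    exact h3

theorem fact_card_mul_index {H : Type*} [Group H] [Finite H] (K : Subgroup H) (q : ℕ) :
    (Nat.card H).factorization q = (Nat.card K).factorization q + K.index.factorization q := by
  rw [← Subgroup.card_mul_index K, Nat.factorization_mul Nat.card_pos.ne' Subgroup.index_ne_zero_of_finite,
    Finsupp.add_apply]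

/-- **Fong's theorem** (S0970) -/
theorem fong (hMod : IsPModular p M) {b : Set (IrrCharacter N)} (hb : IsPBlock M b) (hst : GStable N b)
    {B : Set (IrrCharacter G)} (hB : IsPBlock M B) (hcov : Covers B b)
    (hmax : ∀ B' : Set (IrrCharacter G), IsPBlock M B' → Covers B' b → blockDefect p B' ≤ blockDefect p B)
    {P : Subgroup G} (hP : IsDefectGroup p M B P) :
    ¬ p ∣ (P ⊔ N).index ∧ IsDefectGroup p M b ((P ⊓ N).subgroupOf N) ∧
      blockDefect p B = blockDefect p b + N.index.factorization p := by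
  classical
  haveI : Finite (ConjClasses G) := Quotient.finite _
  haveI := Fintype.ofFinite (ConjClasses G)
  haveI : Finite (ConjClasses N) := Quotient.finite _
  haveI := Fintype.ofFinite (ConjClasses N)
  obtain ⟨χ, hχ, θ, hθ, hχθ⟩ := hcov
  have hint : IntGA M (emb N (eB b)) := (intGA_eB hb).emb
  have hcen := hst.isCentr
  -- the class
  have h1 : om (χ : G → ℂ) (emb N (eB b)) = 1 := by
    rw [om_emb_of_constituent hst χ θ hχθ, om_eB_of_mem hθ]
  rw [om_eq_sum_centralChar (irr_isClassFunction χ) hcen] at h1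
  obtain ⟨c, hc⟩ : ∃ c : ConjClasses G, ¬ MemLocalIdeal M ((emb N (eB b)).coeff (Quotient.out c) *
      centralChar (χ : G → ℂ) (Quotient.out c)) := by
    by_contra hne
    push Not at hne
    have := mli_sum Finset.univ _ (fun c _ => hne c)
    rw [h1] at this
    exact not_mli_one this
  set g : G := Quotient.out c with hg
  have hcoef : ¬ MemLocalIdeal M ((emb N (eB b)).coeff g) := fun h =>
    hc (mli_mul_right h (mlr_centralChar' χ g))
  have hcc : ¬ MemLocalIdeal M (centralChar (χ : G → ℂ) g) := fun h => hc (mli_mul_left (hint g) h)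
  have hgN : g ∈ N := by
    by_contra hgN
    apply hcoef
    rw [emb_supp _ g hgN]; exact mli_zero
  -- a block with large defect group
  have h2 : ∃ B', (IsPBlock M B' ∧ Covers B' b) ∧ ¬ MemLocalIdeal M (blockCoeff B' g) := by
    by_contra hne
    push Not at hne
    apply hcoef
    rw [← eB_overSet hst]
    show MemLocalIdeal M (blockCoeff _ g)
    rw [overSet_eq_sUnion (M := M) hb hst, blockCoeff_sUnion _ (fun e he => he.1),
      finsum_mem_eq_finite_toFinset_sum _ (Set.toFinite _)]
    refine mli_sum _ _ (fun e he => ?_)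
    rw [Set.Finite.mem_toFinset] at he
    exact hne e he
  obtain ⟨B', ⟨hB', hcov'⟩, hB'g⟩ := h2
  obtain ⟨Q, hQ, -⟩ := exists_sylC (p := p) (g := g) (E := ⊥) IsPGroup.of_bot (by
    rw [Subgroup.mem_centralizer_iff]
    intro x hx
    rw [SetLike.mem_coe, Subgroup.mem_bot] at hx
    rw [hx, one_mul, mul_one])
  obtain ⟨E', hE', hQE'⟩ := exists_le_defect_of_coeff hMod hB' hQ.isPGroup hQ.mem_centralizer hB'g
  obtain ⟨x, hx⟩ := exists_defect_ge hMod hB hP hχ hcc hQ
  have hcardP := card_defectGroup hMod hB hP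
  have hcardE' := card_defectGroup hMod hB' hE'
  have hQle : Nat.card Q ≤ Nat.card P := by
    rw [hcardP]
    refine le_trans (Nat.le_of_dvd Nat.card_pos (Subgroup.card_dvd_of_le hQE')) ?_
    rw [hcardE']
    exact Nat.pow_le_pow_right hp.out.pos (hmax B' hB' hcov')
  have hPx : P.map (MulAut.conj x).toMonoidHom = Q := by
    refine Subgroup.eq_of_le_of_card_ge hx ?_
    rw [card_map_conj]; exact hQle
  -- move to `y`
  set y' : G := x⁻¹ * g * x⁻¹⁻¹ with hy'
  have hy'N : y' ∈ N := hN.conj_mem g hgN x⁻¹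
  have hgy : IsConj g y' := isConj_iff.mpr ⟨x⁻¹, rfl⟩
  set y : N := ⟨y', hy'N⟩ with hy
  have hSy : SylC p (y : G) P := by
    have := hQ.conj x⁻¹
    rw [← hPx, map_conj_inv_map_conj] at this
    exact this
  have hcoefy : ¬ MemLocalIdeal M (blockCoeff b y) := by
    have e1 : (emb N (eB b)).coeff (y : G) = (emb N (eB b)).coeff g := hcen g x⁻¹
    rw [emb_coeff_coe] at e1
    show ¬ MemLocalIdeal M ((eB b).coeff y)
    rw [e1]; exact hcoef
  have hccy : ¬ MemLocalIdeal M (centralChar (χ : G → ℂ) (y : G)) := by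
    rw [← centralChar_eq_of_isConj χ hgy]; exact hcc
  have hkey : ∀ ψ ∈ b, ¬ MemLocalIdeal M ((nCl N (y : G) : ℂ) * centralChar (ψ : N → ℂ) y) := by
    intro ψ hψ h
    have h3 := mli_induced_sub hb hst hψ y
    have h4 := mli_add h3 h
    rw [sub_add_cancel] at h4
    have h5 := (cover_iff hB hb).mp ⟨χ, hχ, θ, hθ, hχθ⟩ χ hχ ψ hψ y
    have h6 := mli_add h5 h4
    rw [sub_add_cancel] at h6
    exact hccy h6
  have hdc : IsDefectClass M b y :=
    ⟨mlr_blockCoeff hb y, hcoefy, fun ψ hψ h => hkey ψ hψ (mli_mul_left (mlr_natCast _) h)⟩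
  have hdb : IsDefectGroup p M b ((P ⊓ N).subgroupOf N) := ⟨y, hdc, hSy.inf_normal⟩
  have hnp : ¬ p ∣ nCl N (y : G) := fun h =>
    hkey θ hθ (mli_mul_right ((mli_natCast_iff hMod _).mpr h) (mlr_centralChar' θ y))
  -- arithmetic
  have hcardb := card_defectGroup hMod hb hdb
  have e2 : Nat.card ((P ⊓ N).subgroupOf N) = Nat.card (P ⊓ N : Subgroup G) :=
    Nat.card_congr (Subgroup.subgroupOfEquivOfLe inf_le_right).toEquiv
  rw [e2] at hcardb
  have f1 := hSy.card_eq
  have f2 := (hSy.inf_normal).card_eq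
  rw [e2] at f2
  have f3 : blockDefect p B = (Nat.card (Subgroup.centralizer ({(y : G)} : Set G))).factorization p := by
    rw [hcardP] at f1
    exact Nat.pow_right_injective hp.out.two_le f1
  have f4 : blockDefect p b = (Nat.card (Subgroup.centralizer ({y} : Set N))).factorization p := by
    rw [hcardb] at f2
    exact Nat.pow_right_injective hp.out.two_le f2
  have g1 := fact_card_mul_index (Subgroup.centralizer ({(y : G)} : Set G)) p
  have g2 := fact_card_mul_index (Subgroup.centralizer ({y} : Set N)) p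
  have g3 := fact_card_mul_index N p
  have g4 := nCl_mul_index y
  have hn0 : nCl N (y : G) ≠ 0 := fun h => hnp (by rw [h]; exact dvd_zero p)
  have g5 : (Subgroup.centralizer ({(y : G)} : Set G)).index.factorization p =
      (Subgroup.centralizer ({y} : Set N)).index.factorization p := by
    rw [← g4, Nat.factorization_mul hn0 Subgroup.index_ne_zero_of_finite, Finsupp.add_apply,
      Nat.factorization_eq_zero_of_not_dvd hnp, zero_add]
  have hdef : blockDefect p B = blockDefect p b + N.index.factorization p := by omega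
  refine ⟨?_, hdb, hdef⟩
  have i1 : N.relIndex (P ⊔ N) = N.relIndex P := by
    exact Subgroup.relIndex_sup_right P N
  have i2 := Subgroup.relIndex_mul_index (le_sup_right : N ≤ P ⊔ N)
  have i3 : Nat.card (P ⊓ N : Subgroup G) * N.relIndex P = Nat.card P := by
    have := Subgroup.card_mul_index (N.subgroupOf P)
    have e3 : Nat.card (N.subgroupOf P) = Nat.card (P ⊓ N : Subgroup G) := by
      rw [← Subgroup.inf_subgroupOf_left]
      exact Nat.card_congr (Subgroup.subgroupOfEquivOfLe inf_le_left).toEquiv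
    rw [e3] at this
    exact this
  have hr0 : N.relIndex P ≠ 0 := by
    intro h
    rw [h, mul_zero] at i3
    exact Nat.card_pos.ne' i3.symm
  have i4 : blockDefect p b + (N.relIndex P).factorization p = blockDefect p B := by
    have := congrArg (fun n => n.factorization p) i3
    rw [Nat.factorization_mul Nat.card_pos.ne' hr0, Finsupp.add_apply, hcardb, hcardP,
      Nat.Prime.factorization_pow hp.out, Nat.Prime.factorization_pow hp.out, Finsupp.single_eq_same,
      Finsupp.single_eq_same] at this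
    exact this
  have i5 : N.index.factorization p = (N.relIndex P).factorization p + (P ⊔ N).index.factorization p := by
    rw [← i2, i1, Nat.factorization_mul hr0 Subgroup.index_ne_zero_of_finite, Finsupp.add_apply]
  have i6 : (P ⊔ N).index.factorization p = 0 := by omega
  rcases (Nat.factorization_eq_zero_iff _ _).mp i6 with h | h | h
  · exact absurd hp.out h
  · exact h
  · exact absurd h Subgroup.index_ne_zero_of_finite

end Cfsg.Agent.BlkInd
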