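import Mathlib
import Cfsg.Agent.BlkInd.Fong

set_option autoImplicit false
set_option linter.style.haveILetI false
set_option linter.unusedSimpArgs false
set_option linter.unusedSectionVars false
set_option linter.unusedVariables false

/-!
# Height zero characters with large stabilizers
-/

namespace Cfsg.Agent.BlkInd

open scoped BigOperators ComplexConjugate
open Cfsg Cfsg.Agent.CharBase Cfsg.Agent.Blk Cfsg.Agent.BlkC

universe u v w

variable {G : Type u} [Group G] [Fintype G] {N : Subgroup G} [hN : N.Normal] [Fintype N]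
  {M : Ideal AlgInt} [hM : M.IsPrime] {p : ℕ} [hp : Fact p.Prime]

theorem exists_fixed_ne {p : ℕ} [Fact p.Prime] {k : Type*} [Ring k] [CharP k p]
    {P : Type*} [Group P] (hP : IsPGroup p P) {X : Type*} [Fintype X] [MulAction P X]
    (f : X → k) (hf : ∀ (u : P) (x : X), f (u • x) = f x) (h : ∑ x : X, f x ≠ 0) :
    ∃ x : X, (∀ u : P, u • x = x) ∧ f x ≠ 0 := by
  classical
  by_contra hne
  push Not at hne
  rw [sum_eq_sum_fixed hP f hf] at h
  exact h (Finset.sum_eq_zero (fun x hx => hne x (Finset.mem_filter.mp hx).2))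

/-- the conjugate of an irreducible character -/
noncomputable def cjI (g : G) (θ : IrrCharacter N) : IrrCharacter N :=
  ⟨Char.cj N g (θ : N → ℂ), Char.isIrrCharacter_cj N g θ.2⟩

theorem cjI_mul (g h : G) (θ : IrrCharacter N) : cjI (g * h) θ = cjI h (cjI g θ) :=
  Subtype.ext (Char.cj_mul N g h _)

theorem cjI_one (θ : IrrCharacter N) : cjI (1 : G) θ = θ := Subtype.ext (Char.cj_one N _)

/-- action of a subgroup on the irreducible characters of `N` -/
@[instance_reducible] noncomputable def irrAct (S : Subgroup G) : MulAction S (IrrCharacter N) where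
  smul s θ := cjI (s : G)⁻¹ θ
  one_smul θ := by
    show cjI ((1 : S) : G)⁻¹ θ = θ
    rw [Subgroup.coe_one, inv_one, cjI_one]
  mul_smul s t θ := by
    show cjI ((s * t : S) : G)⁻¹ θ = cjI (s : G)⁻¹ (cjI (t : G)⁻¹ θ)
    rw [← cjI_mul, Subgroup.coe_mul, mul_inv_rev]

theorem map_cjEquiv_mk (g : G) (n : N) :
    ConjClasses.map (Char.cjEquiv N g).toMonoidHom (ConjClasses.mk n) = ConjClasses.mk (Char.cjEquiv N g n) := rfl

/-- action of a subgroup on the classes of `N` -/
@[instance_reducible] def clsAct (S : Subgroup G) : MulAction S (ConjClasses N) where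
  smul s c := ConjClasses.map (Char.cjEquiv N (s : G)).toMonoidHom c
  one_smul c := by
    obtain ⟨n, rfl⟩ := ConjClasses.exists_rep c
    show ConjClasses.mk (Char.cjEquiv N ((1 : S) : G) n) = _
    congr 1
    apply Subtype.ext
    show ((1 : S) : G) * n * ((1 : S) : G)⁻¹ = n
    simp
  mul_smul s t c := by
    obtain ⟨n, rfl⟩ := ConjClasses.exists_rep c
    show ConjClasses.mk (Char.cjEquiv N ((s * t : S) : G) n) =
      ConjClasses.mk (Char.cjEquiv N (s : G) (Char.cjEquiv N (t : G) n))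
    congr 1
    apply Subtype.ext
    show ((s * t : S) : G) * n * ((s * t : S) : G)⁻¹ = (s : G) * ((t : G) * n * (t : G)⁻¹) * (s : G)⁻¹
    rw [Subgroup.coe_mul]
    group

theorem blockCoeff_cjEquiv {b : Set (IrrCharacter N)} {x : G} (h : ∀ ψ : IrrCharacter N, cjI x ψ ∈ b ↔ ψ ∈ b)
    (n : N) : blockCoeff b (Char.cjEquiv N x n) = blockCoeff b n := by
  classical
  haveI := Fintype.ofFinite (IrrCharacter N)
  rw [blockCoeff_eq_sum, blockCoeff_eq_sum]
  congr 1
  let f : IrrCharacter N ≃ IrrCharacter N :=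
    { toFun := fun ψ => cjI x ψ
      invFun := fun ψ => cjI x⁻¹ ψ
      left_inv := fun ψ => Subtype.ext (Char.cj_inv_cj N x _)
      right_inv := fun ψ => Subtype.ext (Char.cj_cj_inv N x _) }
  refine Fintype.sum_equiv f _ _ (fun ψ => ?_)
  by_cases hψ : ψ ∈ b
  · rw [if_pos hψ, if_pos (show f ψ ∈ b from (h ψ).mpr hψ)]
    show _ = Char.cj N x (ψ : N → ℂ) 1 * conj (Char.cj N x (ψ : N → ℂ) n)
    rw [Char.cj_one_apply]
    rfl
  · rw [if_neg hψ, if_neg (show f ψ ∉ b from fun h' => hψ ((h ψ).mp h'))]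

theorem out_mk_isConj (n : N) : IsConj (Quotient.out (ConjClasses.mk n)) n :=
  out_isConj _ n rfl

open Classical in
/-- a defect class stable under a `p`-group `S` stabilizing `b` -/
theorem exists_stable_class (hMod : IsPModular p M) {b : Set (IrrCharacter N)} (hb : IsPBlock M b)
    {S : Subgroup G} (hS : IsPGroup p S) (hst : ∀ s ∈ S, ∀ ψ : IrrCharacter N, cjI s ψ ∈ b ↔ ψ ∈ b)
    {θ : IrrCharacter N} (hθ : θ ∈ b) :
    ∃ y : N, ¬ MemLocalIdeal M (blockCoeff b y) ∧ ¬ MemLocalIdeal M (centralChar (θ : N → ℂ) y) ∧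
      ∀ s ∈ S, IsConj (Char.cjEquiv N s y) y := by
  haveI := charP_kM hMod
  haveI : Finite (ConjClasses N) := Quotient.finite _
  haveI := Fintype.ofFinite (ConjClasses N)
  letI := clsAct (N := N) S
  let F : ConjClasses N → kM M := fun c => rd M (blockCoeff b (Quotient.out c) * centralChar (θ : N → ℂ) (Quotient.out c))
  have hmlr : ∀ c : ConjClasses N, MemLocalRing M (blockCoeff b (Quotient.out c) * centralChar (θ : N → ℂ) (Quotient.out c)) :=
    fun c => mlr_mul (mlr_blockCoeff hb _) (mlr_centralChar' θ _)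
  have hF : ∀ (s : S) (c : ConjClasses N), F (s • c) = F c := by
    intro s c
    obtain ⟨n, rfl⟩ := ConjClasses.exists_rep c
    show rd M _ = rd M _
    rw [rd_eq_iff (hmlr _) (hmlr _)]
    have e1 : (s • (ConjClasses.mk n : ConjClasses N)) = ConjClasses.mk (Char.cjEquiv N (s : G) n) := rfl
    rw [e1, blockCoeff_conj b (out_mk_isConj _), blockCoeff_conj b (out_mk_isConj _),
      centralChar_eq_of_isConj θ (out_mk_isConj _), centralChar_eq_of_isConj θ (out_mk_isConj _),
      blockCoeff_cjEquiv (hst s s.2), ← centralChar_cj, ← mul_sub]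
    exact mli_mul_left (mlr_blockCoeff hb _) (Blk.sameBlock_of_mem hb ((hst s s.2 θ).mpr hθ) hθ n)
  have h2 : ∑ c : ConjClasses N, F c = 1 := by
    have h3 := om_eB_of_mem hθ
    rw [om_eq_sum_centralChar (irr_isClassFunction θ) (isCentr_eB b)] at h3
    have h4 : ∑ c : ConjClasses N, F c = rd M (∑ c : ConjClasses N, (eB b).coeff (Quotient.out c) *
        centralChar (θ : N → ℂ) (Quotient.out c)) := by
      exact (rd_sum Finset.univ (fun c : ConjClasses N => blockCoeff b (Quotient.out c) *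
        centralChar (θ : N → ℂ) (Quotient.out c)) (fun c _ => hmlr c)).symm
    rw [h4, h3, rd_one]
  obtain ⟨c, hc, hFc⟩ := exists_fixed_ne hS F hF (by rw [h2]; exact one_ne_zero)
  have hFc' : ¬ MemLocalIdeal M (blockCoeff b (Quotient.out c) * centralChar (θ : N → ℂ) (Quotient.out c)) :=
    fun h => hFc ((rd_eq_zero_iff (hmlr c)).mpr h)
  refine ⟨Quotient.out c, fun h => hFc' (mli_mul_right h (mlr_centralChar' θ _)),
    fun h => hFc' (mli_mul_left (mlr_blockCoeff hb _) h), fun s hs => ?_⟩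
  have h5 := hc ⟨s, hs⟩
  have h6 : (ConjClasses.mk (Quotient.out c : N) : ConjClasses N) = c := Quotient.out_eq c
  rw [← ConjClasses.mk_eq_mk_iff_isConj, h6]
  conv_rhs => rw [← h5]
  conv_rhs => rw [← h6]
  rfl

/-- a subgroup of the right order is Sylow in the centralizer -/
theorem sylC_of_card {H : Type v} [Group H] [Finite H] {g : H} {D : Subgroup H} (hD : IsPGroup p D)
    (hg : g ∈ Subgroup.centralizer (D : Set H))
    (hc : Nat.card D = p ^ (Nat.card (Subgroup.centralizer ({g} : Set H))).factorization p) : SylC p g D := by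
  obtain ⟨E, hE, hDE⟩ := exists_sylC hD hg
  have : D = E := Subgroup.eq_of_le_of_card_ge hDE (by rw [hE.card_eq, hc])
  rw [this]; exact hE

theorem card_map_equiv {H : Type v} {K : Type w} [Group H] [Group K] (φ : H ≃* K) (D : Subgroup H) :
    Nat.card (D.map φ.toMonoidHom) = Nat.card D :=
  Nat.card_congr (D.equivMapOfInjective _ φ.injective).symm.toEquiv

theorem sum_map_equiv {H : Type v} {K : Type w} [Group H] [Group K] (φ : H ≃* K) (D : Subgroup H) [Fintype D]
    (E : Subgroup K) [Fintype E] (hE : D.map φ.toMonoidHom = E) (f : K → ℂ) :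
    ∑ u : D, f (φ (u : H)) = ∑ u : E, f (u : K) := by
  subst hE
  refine Fintype.sum_equiv (D.equivMapOfInjective _ φ.injective).toEquiv _ _ (fun u => ?_)
  rfl

/-- the averaged values are invariant under automorphisms stabilizing the class -/
theorem avgVal_cj {y : N} {P : Subgroup N} [Fintype P] (hP : SylC p y P) {t : G}
    (ht : IsConj y (Char.cjEquiv N t y)) (ψ : IrrCharacter N) :
    avgVal P y (Char.cj N t (ψ : N → ℂ)) = avgVal P y (ψ : N → ℂ) := by
  classical
  obtain ⟨n, hn⟩ := isConj_iff.mp ht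
  set φ := Char.cjEquiv N t with hφ
  set P' := P.map φ.toMonoidHom with hP'
  -- `P'` is Sylow in the centralizer of `φ y`
  have h1 : φ y ∈ Subgroup.centralizer (P' : Set N) := by
    rw [Subgroup.mem_centralizer_iff]
    rintro _ ⟨u, hu, rfl⟩
    show φ u * φ y = φ y * φ u
    rw [← map_mul, ← map_mul, Subgroup.mem_centralizer_iff.mp hP.mem_centralizer u hu]
  have h2 : SylC p (n * y * n⁻¹) P' := by
    rw [hn]
    refine sylC_of_card (hP.isPGroup.map _) h1 ?_
    rw [card_map_equiv, hP.card_eq]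
    congr 1
    have e1 := fact_card_mul_index (Subgroup.centralizer ({y} : Set N)) p
    have e2 : (Subgroup.centralizer ({y} : Set N)).index = (Subgroup.centralizer ({φ y} : Set N)).index :=
      index_centralizer_conj (isConj_map ht)
    have e3 := Subgroup.card_mul_index (Subgroup.centralizer ({y} : Set N))
    have e4 := Subgroup.card_mul_index (Subgroup.centralizer ({φ y} : Set N))
    rw [e2] at e3
    rw [mul_right_cancel₀ (Subgroup.index_ne_zero_of_finite) (e3.trans e4.symm)]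
  have h3 := hP.conj n
  obtain ⟨a, ha, ha'⟩ := h3.exists_conj h2
  haveI : Fintype P' := Fintype.ofFinite _
  -- the two sums
  unfold avgVal
  congr 1
  have s1 : ∑ u : P, Char.cj N t (ψ : N → ℂ) (y * (u : N)) = ∑ u : P', (ψ : N → ℂ) (φ y * (u : N)) := by
    rw [← sum_map_equiv φ P P' rfl (fun u => (ψ : N → ℂ) (φ y * u))]
    refine Finset.sum_congr rfl (fun u _ => ?_)
    show (ψ : N → ℂ) (φ (y * u)) = _
    rw [map_mul]
  have ham : P.map (MulAut.conj (a * n)).toMonoidHom = P' := by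
    rw [← ha', Subgroup.map_map]
    congr 1
    ext x
    simp [mul_assoc]
  have s2 : ∑ u : P, (ψ : N → ℂ) (y * (u : N)) = ∑ u : P', (ψ : N → ℂ) (φ y * (u : N)) := by
    rw [← sum_map_equiv (MulAut.conj (a * n)) P P' ham (fun u => (ψ : N → ℂ) (φ y * u))]
    refine Finset.sum_congr rfl (fun u _ => ?_)
    have e1 : φ y = (MulAut.conj (a * n)) y := by
      rw [Subgroup.mem_centralizer_singleton_iff] at ha
      rw [← hn]
      show n * y * n⁻¹ = a * n * y * (a * n)⁻¹
      have : a * (n * y * n⁻¹) * a⁻¹ = n * y * n⁻¹ := by rw [ha]; group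
      rw [← this]; group
    rw [e1, ← map_mul]
    show (ψ : N → ℂ) (y * u) = (ψ : N → ℂ) ((a * n) * (y * u) * (a * n)⁻¹)
    rw [irr_isClassFunction ψ]
  rw [s1, s2]

theorem orderOf_cjEquiv (t : G) (n : N) : orderOf (Char.cjEquiv N t n) = orderOf n :=
  MulEquiv.orderOf_eq _ _

theorem Lam_cj (χ ψ : N → ℂ) (t : G) : Lam p χ (Char.cj N t ψ) = Lam p (Char.cj N t⁻¹ χ) ψ := by
  unfold Lam omega
  rw [Char.cj_one_apply]
  congr 1
  refine Fintype.sum_equiv (Char.cjEquiv N t).toEquiv _ _ (fun g => ?_)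
  show regConj p (Char.cj N t ψ) g * χ g = regConj p ψ (Char.cjEquiv N t g) * Char.cj N t⁻¹ χ (Char.cjEquiv N t g)
  have e1 : Char.cj N t⁻¹ χ (Char.cjEquiv N t g) = χ g := by
    show χ (Char.cjEquiv N t⁻¹ (Char.cjEquiv N t g)) = χ g
    congr 1
    apply Subtype.ext
    show t⁻¹ * (t * (g : G) * t⁻¹) * t⁻¹⁻¹ = g
    group
  rw [e1]
  congr 1
  unfold regConj
  rw [orderOf_cjEquiv]
  rfl

theorem mlr_avgVal {P : Subgroup N} [Fintype P] {y : N} (hPy : ∀ u ∈ P, Commute y u) (ψ : IrrCharacter N) :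
    MemLocalRing M (avgVal P y (ψ : N → ℂ)) :=
  mlr_of_isIntegral (isIntegral_avg P hPy (irr_isCharacter ψ))

open Classical in
/-- **Height zero characters fixed by a `p`-group stabilizing the block.** -/
theorem exists_fixed_height_zero (hMod : IsPModular p M) {b : Set (IrrCharacter N)} (hb : IsPBlock M b)
    {S : Subgroup G} (hS : IsPGroup p S) (hst : ∀ s ∈ S, ∀ ψ : IrrCharacter N, cjI s ψ ∈ b ↔ ψ ∈ b) :
    ∃ ψ ∈ b, blockHeight p b (ψ : N → ℂ) = 0 ∧ ∀ s ∈ S, cjI s ψ = ψ := by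
  haveI := charP_kM hMod
  haveI := Fintype.ofFinite (IrrCharacter N)
  obtain ⟨θ, hθ⟩ := isPBlock_nonempty hb
  obtain ⟨y, hyc, hyθ, hys⟩ := exists_stable_class hMod hb hS hst hθ
  have hyreg : ¬ p ∣ orderOf y := fun h => hyc (by
    rw [blockCoeff_eq_zero_of_dvd hMod hb h]; exact mli_zero)
  obtain ⟨P₀⟩ : Nonempty (Sylow p (Subgroup.centralizer ({y} : Set N))) := inferInstance
  obtain ⟨hP1, hP2, hP3⟩ := sylow_centralizer_spec P₀
  set P := (P₀ : Subgroup (Subgroup.centralizer ({y} : Set N))).map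
      (Subgroup.centralizer ({y} : Set N)).subtype with hPdef
  haveI : Fintype P := Fintype.ofFinite _
  have hSyl : SylC p y P := ⟨P₀, rfl⟩
  letI := irrAct (N := N) S
  let F : IrrCharacter N → kM M := fun ψ => rd M (avgVal P y (ψ : N → ℂ) * Lam p (θ : N → ℂ) (ψ : N → ℂ))
  have hL : ∀ χ ψ : IrrCharacter N, MemLocalRing M (Lam p (χ : N → ℂ) (ψ : N → ℂ)) :=
    fun χ ψ => mlr_of_isIntegral (Lam_isIntegral p χ ψ)
  have hmlr : ∀ ψ : IrrCharacter N, MemLocalRing M (avgVal P y (ψ : N → ℂ) * Lam p (θ : N → ℂ) (ψ : N → ℂ)) :=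
    fun ψ => mlr_mul (mlr_avgVal hP2 ψ) (hL θ ψ)
  have hF : ∀ (s : S) (ψ : IrrCharacter N), F (s • ψ) = F ψ := by
    intro s ψ
    show rd M _ = rd M _
    rw [rd_eq_iff (hmlr _) (hmlr _)]
    have e1 : ((s • ψ : IrrCharacter N) : N → ℂ) = Char.cj N (s : G)⁻¹ (ψ : N → ℂ) := rfl
    rw [e1, avgVal_cj hSyl (hys _ (S.inv_mem s.2)).symm, Lam_cj, ← mul_sub, inv_inv]
    refine mli_mul_left (mlr_avgVal hP2 ψ) ?_
    exact BlkC.mli_omega_sub (χ := cjI (s : G) θ) (χ' := θ) (Blk.sameBlock_of_mem hb ((hst s s.2 θ).mpr hθ) hθ)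
      (regConj_isClassFunction p (irr_isClassFunction ψ))
      (fun g => mlr_of_isIntegral (regConj_isIntegral p ψ g))
  have h2 : ∑ ψ : IrrCharacter N, F ψ ≠ 0 := by
    have h3 := sum_avgVal_mul_Lam P hP1 hyreg hP2 θ
    have h4 : ∑ ψ : IrrCharacter N, F ψ = rd M (∑ ψ : IrrCharacter N,
        avgVal P y (ψ : N → ℂ) * Lam p (θ : N → ℂ) (ψ : N → ℂ)) := by
      rw [rd_sum _ _ (fun ψ _ => hmlr ψ)]
    rw [h4, h3]
    obtain ⟨m, hm, hcm⟩ := hP3
    have h5 : (Nat.card P : ℂ)⁻¹ * (Nat.card (Subgroup.centralizer ({y} : Set N)) : ℂ) = (m : ℂ) := by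
      have h4 : (Nat.card P : ℂ) ≠ 0 := by exact_mod_cast Nat.card_pos.ne'
      rw [← hcm]; push_cast; field_simp
    rw [h5]
    intro h6
    rw [rd_eq_zero_iff (mlr_mul (mlr_natCast _) (mlr_centralChar' θ y))] at h6
    rcases mli_or_of_mul (mlr_natCast _) (mlr_centralChar' θ y) h6 with h7 | h7
    · exact hm ((mli_natCast_iff hMod _).mp h7)
    · exact hyθ h7
  obtain ⟨ψ, hψ, hFψ⟩ := exists_fixed_ne hS F hF h2
  have hLne : ¬ MemLocalIdeal M (Lam p (θ : N → ℂ) (ψ : N → ℂ)) := fun h =>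
    hFψ ((rd_eq_zero_iff (hmlr ψ)).mpr (mli_mul_left (mlr_avgVal hP2 ψ) h))
  have hψb : ψ ∈ b := by
    by_contra hψB
    apply hLne
    have : ¬ SameBlock M (θ : N → ℂ) (ψ : N → ℂ) := fun h => hψB (mem_of_sameBlock hb hθ h)
    rw [Lam_eq, regInner_eq_zero hMod this]
    simpa using mli_zero
  refine ⟨ψ, hψb, ?_, fun s hs => ?_⟩
  · rw [height_eq_zero_iff hψb]
    exact nu_eq_nuMin_of_not_mli hMod hb hθ hψb hLne
  · have h8 := hψ ⟨s⁻¹, S.inv_mem hs⟩
    have e1 : ((⟨s⁻¹, S.inv_mem hs⟩ : S) • ψ : IrrCharacter N) = cjI (s⁻¹)⁻¹ ψ := rfl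
    rw [e1, inv_inv] at h8
    exact h8

end Cfsg.Agent.BlkInd
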