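import Mathlib
import Cfsg.Agent.BlkInd.StabHt
import Cfsg.Agent.BlkC.SumSq
import Cfsg.Agent.H76.RealOdd
import Cfsg.Agent.H76.Cover
import Cfsg.Agent.H76.AlperinDade
import Cfsg.Agent.Blk.Gal
import Cfsg.Agent.H76.DetMul
import Cfsg.Agent.Glaub.Cyclic
import Cfsg.Agent.S0867
import Cfsg.Agent.Transfer.NPC

set_option autoImplicit false
set_option linter.style.haveILetI false
set_option linter.unusedSimpArgs false
set_option linter.unusedSectionVars false
set_option linter.unusedVariables false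

/-!
# Galois fixed odd-degree characters of the principal 2-block
-/

namespace Cfsg.Agent.BlkInd

open scoped BigOperators ComplexConjugate commutatorElement
open Cfsg Cfsg.Agent.CharBase Cfsg.Agent.Char Cfsg.Agent.Blk Cfsg.Agent.H76

universe u v w

section Fix

/-- sum over the fixed points of a permutation of `p`-power order -/
theorem sum_fixed_perm {p : ℕ} [Fact p.Prime] {k : Type*} [Ring k] [CharP k p] {X : Type*}
    [Fintype X] (s : X → X) {r : ℕ} (hs : ∀ x, s^[p ^ r] x = x) (f : X → k)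
    (hf : ∀ x, f (s x) = f x) [DecidablePred fun x => s x = x] :
    ∑ x : X, f x = ∑ x : X, if s x = x then f x else 0 := by
  classical
  have hpos : 0 < p ^ r := pow_pos (Fact.out : p.Prime).pos r
  let e : Equiv.Perm X :=
    { toFun := s
      invFun := s^[p ^ r - 1]
      left_inv := fun x => by
        rw [← Function.iterate_succ_apply, Nat.succ_eq_add_one, Nat.sub_add_cancel hpos, hs]
      right_inv := fun x => by
        rw [← Function.iterate_succ_apply' s, Nat.succ_eq_add_one, Nat.sub_add_cancel hpos, hs] }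
  have he : ∀ x, e x = s x := fun x => rfl
  have hpow : e ^ p ^ r = 1 := by
    ext x
    rw [Equiv.Perm.coe_pow, Equiv.Perm.coe_one, id]
    exact hs x
  have hP : IsPGroup p (Subgroup.zpowers e) := by
    rintro ⟨y, hy⟩
    obtain ⟨i, rfl⟩ := Subgroup.mem_zpowers_iff.mp hy
    refine ⟨r, Subtype.ext ?_⟩
    change (e ^ i) ^ p ^ r = 1
    rw [← zpow_natCast, ← zpow_mul, mul_comm, zpow_mul, zpow_natCast, hpow, one_zpow]
  have hsym : ∀ x, f (e.symm x) = f x := fun x => by
    rw [← hf (e.symm x)]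
    congr 1
    exact e.apply_symm_apply x
  have hinv : ∀ (i : ℤ) (x : X), f ((e ^ i) x) = f x := by
    intro i
    induction i using Int.induction_on with
    | zero => intro x; rfl
    | succ n ih => intro x; rw [zpow_add_one]; exact (ih (e x)).trans (hf x)
    | pred n ih => intro x; rw [zpow_sub_one]; exact (ih (e.symm x)).trans (hsym x)
  have h1 := sum_eq_sum_fixed hP f (fun u x => by
    obtain ⟨y, hy⟩ := u
    obtain ⟨i, rfl⟩ := Subgroup.mem_zpowers_iff.mp hy
    exact hinv i x)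
  rw [h1, Finset.sum_filter]
  refine Finset.sum_congr rfl fun x _ => ?_
  have h2 : (∀ u : Subgroup.zpowers e, u • x = x) ↔ s x = x := by
    constructor
    · intro h
      exact h ⟨e, Subgroup.mem_zpowers e⟩
    · rintro h ⟨y, hy⟩
      obtain ⟨i, rfl⟩ := Subgroup.mem_zpowers_iff.mp hy
      change (e ^ i) x = x
      exact Equiv.Perm.zpow_apply_eq_self_of_apply_eq_self h i
  simp only [h2]

end Fix

section Count

variable {G : Type u} [Group G] [Fintype G] {M : Ideal AlgInt} [hMp : M.IsPrime]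

theorem even_sum_sq (hM : IsPModular 2 M) {N : Type u} [Group N] [Fintype N]
    (heven : 2 ∣ Nat.card N) :
    2 ∣ ∑ χ ∈ BlkC.Bfin (principalBlock M N), charDegree (χ : N → ℂ) ^ 2 := by
  have h1 := BlkC.blockCoeff_eq_Bfin (principalBlock M N) (1 : N)
  have h2 := mlr_blockCoeff (M := M) (isPBlock_principalBlock (M := M) (G := N)) 1
  rw [← mli_natCast_iff hM]
  have h3 : ((∑ χ ∈ BlkC.Bfin (principalBlock M N), charDegree (χ : N → ℂ) ^ 2 : ℕ) : ℂ) =
      (Nat.card N : ℂ) * blockCoeff (principalBlock M N) 1 := by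
    rw [h1, ← mul_assoc, mul_inv_cancel₀ (by exact_mod_cast Nat.card_pos.ne'), one_mul]
    push_cast
    refine Finset.sum_congr rfl fun χ _ => ?_
    rw [BlkC.charDegree_spec, Complex.conj_natCast, sq]
  rw [h3]
  exact mli_mul_right ((mli_natCast_iff hM _).mpr heven) h2

/-- **existence of a fixed character** -/
theorem exists_fixed_real (hM : IsPModular 2 M) (N : Subgroup G) [hN : N.Normal] [Fintype N]
    {a : ℕ} (hidx : N.index = 2 ^ a) (heven : 2 ∣ Nat.card N) {k r : ℕ}
    (hkc : k.Coprime (Nat.card N)) (hk : ∀ n : N, n ^ k ^ 2 ^ r = n)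
    (hgal : ∀ θ ∈ principalBlock M N, ∀ θ' : IrrCharacter N,
      (∀ n, (θ' : N → ℂ) n = (θ : N → ℂ) (n ^ k)) → θ' ∈ principalBlock M N) :
    ∃ θ : IrrCharacter N, θ ∈ principalBlock M N ∧ θ ≠ oneIrr N ∧
      ¬ 2 ∣ charDegree (θ : N → ℂ) ∧ (∀ g : G, Char.cj N g (θ : N → ℂ) = (θ : N → ℂ)) ∧
      (∀ n, (θ : N → ℂ) (n ^ k) = (θ : N → ℂ) n) ∧ ∀ n, conj ((θ : N → ℂ) n) = (θ : N → ℂ) n := by
  classical
  haveI := charP_kM hM
  haveI := Fintype.ofFinite (IrrCharacter N)
  obtain ⟨P⟩ : Nonempty (Sylow 2 G) := inferInstance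
  letI := irrAct (N := N) (P : Subgroup G)
  have hact : ∀ (u : (P : Subgroup G)) (θ : IrrCharacter N), u • θ = cjI (u : G)⁻¹ θ :=
    fun u θ => rfl
  -- the Galois permutation
  let s : IrrCharacter N → IrrCharacter N := fun θ =>
    ⟨fun n => (θ : N → ℂ) (n ^ k), isIrrCharacter_pow θ.2 hkc⟩
  have hs : ∀ (θ : IrrCharacter N) (n : N), (s θ : N → ℂ) n = (θ : N → ℂ) (n ^ k) :=
    fun θ n => rfl
  have hsit : ∀ (j : ℕ) (θ : IrrCharacter N) (n : N), (s^[j] θ : N → ℂ) n = (θ : N → ℂ) (n ^ k ^ j) := by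
    intro j
    induction j with
    | zero => intro θ n; simp
    | succ j ih =>
      intro θ n
      rw [Function.iterate_succ_apply', hs, ih, ← pow_mul, pow_succ, mul_comm]
  have hsr : ∀ θ : IrrCharacter N, s^[2 ^ r] θ = θ := by
    intro θ
    apply Subtype.ext
    funext n
    rw [hsit, hk]
  -- the functions
  let f0 : IrrCharacter N → kM M := fun θ =>
    if θ ∈ principalBlock M N then (charDegree (θ : N → ℂ) : kM M) ^ 2 else 0
  have hdeg : ∀ θ θ' : IrrCharacter N, (θ : N → ℂ) 1 = (θ' : N → ℂ) 1 →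
      charDegree (θ : N → ℂ) = charDegree (θ' : N → ℂ) := by
    intro θ θ' h
    unfold charDegree
    rw [h]
  have hf0 : ∑ θ, f0 θ = 0 := by
    have h1 : ∑ θ, f0 θ = ((∑ χ ∈ BlkC.Bfin (principalBlock M N),
        charDegree (χ : N → ℂ) ^ 2 : ℕ) : kM M) := by
      push_cast
      rw [← Finset.sum_filter]
      refine Finset.sum_congr ?_ fun _ _ => rfl
      ext χ
      simp
    rw [h1, CharP.cast_eq_zero_iff (kM M) 2]
    exact even_sum_sq hM heven
  have hcjB : ∀ (g : G) (θ : IrrCharacter N), cjI g θ ∈ principalBlock M N ↔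
      θ ∈ principalBlock M N := by
    intro g θ
    constructor
    · intro h
      refine cj_mem_principalBlock N g⁻¹ h (θ' := θ) ?_
      exact (Char.cj_inv_cj N g _).symm
    · intro h
      exact cj_mem_principalBlock N g h rfl
  have hP0 : ∀ (u : (P : Subgroup G)) (θ : IrrCharacter N), f0 (u • θ) = f0 θ := by
    intro u θ
    have h1 : charDegree ((u • θ : IrrCharacter N) : N → ℂ) = charDegree (θ : N → ℂ) := by
      apply hdeg
      rw [hact]
      exact Char.cj_one_apply N _ _
    simp only [f0, h1]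
    rw [hact]
    simp only [hcjB]
  have hsum1 := sum_eq_sum_fixed P.isPGroup' f0 hP0
  rw [hf0, Finset.sum_filter] at hsum1
  set f1 : IrrCharacter N → kM M := fun θ =>
    if ∀ u : (P : Subgroup G), u • θ = θ then f0 θ else 0 with hf1
  have hsB : ∀ θ : IrrCharacter N, s θ ∈ principalBlock M N ↔ θ ∈ principalBlock M N := by
    have h1 : ∀ θ : IrrCharacter N, θ ∈ principalBlock M N → s θ ∈ principalBlock M N :=
      fun θ hθ => hgal θ hθ (s θ) (hs θ)
    intro θ
    refine ⟨fun h => ?_, h1 θ⟩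
    have h2 : ∀ j : ℕ, s^[j] (s θ) ∈ principalBlock M N := by
      intro j
      induction j with
      | zero => exact h
      | succ j ih => rw [Function.iterate_succ_apply']; exact h1 _ ih
    have h3 := h2 (2 ^ r - 1)
    rw [← Function.iterate_succ_apply, Nat.succ_eq_add_one,
      Nat.sub_add_cancel (pow_pos (show 0 < 2 by norm_num) r), hsr] at h3
    exact h3
  have hs0 : ∀ θ, f0 (s θ) = f0 θ := by
    intro θ
    have h1 : charDegree ((s θ : IrrCharacter N) : N → ℂ) = charDegree (θ : N → ℂ) := by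
      apply hdeg
      rw [hs, one_pow]
    simp only [f0, h1, hsB]
  -- the stabilizer condition is invariant
  have hcjs : ∀ (g : G) (θ : IrrCharacter N), cjI g (s θ) = s (cjI g θ) := by
    intro g θ
    apply Subtype.ext
    funext n
    change (θ : N → ℂ) ((Char.cjEquiv N g n) ^ k) = (θ : N → ℂ) (Char.cjEquiv N g (n ^ k))
    rw [map_pow]
  have hsinj : Function.Injective s := by
    intro θ θ' h
    have h1 : s^[2 ^ r - 1] (s θ) = s^[2 ^ r - 1] (s θ') := by rw [h]
    rw [← Function.iterate_succ_apply, ← Function.iterate_succ_apply, Nat.succ_eq_add_one,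
      Nat.sub_add_cancel (pow_pos (show 0 < 2 by norm_num) r), hsr, hsr] at h1
    exact h1
  have hfixs : ∀ θ : IrrCharacter N, (∀ u : (P : Subgroup G), u • s θ = s θ) ↔
      ∀ u : (P : Subgroup G), u • θ = θ := by
    intro θ
    refine forall_congr' fun u => ?_
    rw [hact, hact, hcjs]
    exact hsinj.eq_iff
  have hs1 : ∀ θ, f1 (s θ) = f1 θ := by
    intro θ
    simp only [hf1, hfixs, hs0]
  have hsum2 := sum_fixed_perm s hsr f1 hs1
  set f2 : IrrCharacter N → kM M := fun θ => if s θ = θ then f1 θ else 0 with hf2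
  -- complex conjugation
  have hc1 : ∀ θ : IrrCharacter N, conjIrr θ ∈ principalBlock M N ↔ θ ∈ principalBlock M N := by
    intro θ
    constructor
    · intro h
      have h2 : conjIrr (conjIrr θ) ∈ principalBlock M N := conj_mem_principalBlock h
      rwa [conjIrr_conjIrr] at h2
    · intro h; exact conj_mem_principalBlock h
  have hc0 : ∀ θ, f0 (conjIrr θ) = f0 θ := by
    intro θ
    have h1 : charDegree ((conjIrr θ : IrrCharacter N) : N → ℂ) = charDegree (θ : N → ℂ) := by
      apply hdeg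
      rw [conjIrr_apply, BlkC.charDegree_spec, Complex.conj_natCast]
    simp only [f0, h1, hc1]
  have hcinj : Function.Injective (conjIrr (G := N)) := by
    intro θ θ' h
    have h1 := congrArg conjIrr h
    rwa [conjIrr_conjIrr, conjIrr_conjIrr] at h1
  have hccj : ∀ (g : G) (θ : IrrCharacter N), cjI g (conjIrr θ) = conjIrr (cjI g θ) :=
    fun g θ => rfl
  have hcs : ∀ θ : IrrCharacter N, s (conjIrr θ) = conjIrr (s θ) := fun θ => rfl
  have hfixc : ∀ θ : IrrCharacter N, (∀ u : (P : Subgroup G), u • conjIrr θ = conjIrr θ) ↔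
      ∀ u : (P : Subgroup G), u • θ = θ := by
    intro θ
    refine forall_congr' fun u => ?_
    rw [hact, hact, hccj]
    exact hcinj.eq_iff
  have hfixcs : ∀ θ : IrrCharacter N, s (conjIrr θ) = conjIrr θ ↔ s θ = θ := by
    intro θ
    rw [hcs]
    exact hcinj.eq_iff
  have hc2 : ∀ θ, f2 (conjIrr θ) = f2 θ := by
    intro θ
    simp only [hf2, hf1, hfixc, hfixcs, hc0]
  have hsum3 := sum_fixed_perm (p := 2) (conjIrr (G := N)) (r := 1)
    (fun θ => by
      change conjIrr (conjIrr θ) = θ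
      exact conjIrr_conjIrr θ) f2 hc2
  have hsum1' : ∑ x, f1 x = 0 := by
    refine (Finset.sum_congr rfl fun θ _ => ?_).trans hsum1.symm
    by_cases hθ : ∀ u : (P : Subgroup G), u • θ = θ
    · simp only [hf1]
      rw [if_pos hθ, if_pos hθ]
    · simp only [hf1]
      rw [if_neg hθ, if_neg hθ]
  rw [← hsum2, hsum1'] at hsum3
  -- the principal character contributes one
  have hone : (if conjIrr (oneIrr N) = oneIrr N then f2 (oneIrr N) else 0) = 1 := by
    have e1 : conjIrr (oneIrr N) = oneIrr N := Subtype.ext (funext fun n => by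
      rw [conjIrr_apply]
      change conj (1 : ℂ) = 1
      rw [map_one])
    have e2 : s (oneIrr N) = oneIrr N := Subtype.ext (funext fun n => rfl)
    have e3 : ∀ u : (P : Subgroup G), u • oneIrr N = oneIrr N := fun u =>
      Subtype.ext (funext fun n => rfl)
    have e4 : charDegree ((oneIrr N : IrrCharacter N) : N → ℂ) = 1 := by
      have h1 := BlkC.charDegree_spec (oneIrr N)
      have h2 : (oneIrr N : N → ℂ) 1 = 1 := rfl
      rw [h2] at h1
      exact_mod_cast h1.symm
    rw [if_pos e1]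
    simp only [hf2, hf1, f0]
    rw [if_pos e2, if_pos e3, if_pos oneIrr_mem_principalBlock, e4]
    simp
  obtain ⟨θ, hθ1, hθ⟩ : ∃ θ : IrrCharacter N, θ ≠ oneIrr N ∧
      (if conjIrr θ = θ then f2 θ else 0) ≠ 0 := by
    by_contra hcon
    push Not at hcon
    rw [← Finset.add_sum_erase _ _ (Finset.mem_univ (oneIrr N)), hone,
      Finset.sum_eq_zero (fun θ hθ => hcon θ (Finset.ne_of_mem_erase hθ)), add_zero] at hsum3
    exact zero_ne_one hsum3
  simp only [hf2, hf1, f0] at hθ
  by_cases c1 : conjIrr θ = θ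
  · rw [if_pos c1] at hθ
    by_cases c2 : s θ = θ
    · rw [if_pos c2] at hθ
      by_cases c3 : ∀ u : (P : Subgroup G), u • θ = θ
      · rw [if_pos c3] at hθ
        by_cases c4 : θ ∈ principalBlock M N
        · rw [if_pos c4] at hθ
          refine ⟨θ, c4, hθ1, ?_, ?_, ?_, ?_⟩
          · intro h
            apply hθ
            rw [(CharP.cast_eq_zero_iff (kM M) 2 _).mpr h]
            simp
          · -- invariance
            intro g
            have hPN : (P : Subgroup G) ⊔ N = ⊤ := by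
              rw [← Subgroup.index_eq_one]
              have h1 : ((P : Subgroup G) ⊔ N).index ∣ N.index :=
                Subgroup.index_dvd_of_le le_sup_right
              have h2 : ((P : Subgroup G) ⊔ N).index ∣ (P : Subgroup G).index :=
                Subgroup.index_dvd_of_le le_sup_left
              rw [hidx] at h1
              obtain ⟨j, -, hj⟩ := (Nat.dvd_prime_pow Nat.prime_two).mp h1
              cases j with
              | zero => simpa using hj
              | succ j =>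
                exfalso
                apply P.not_dvd_index
                exact (Dvd.intro_left _ (by rw [hj, pow_succ]) : 2 ∣ _).trans h2
            have hg : g ∈ (P : Subgroup G) ⊔ N := by rw [hPN]; trivial
            rw [Subgroup.mem_sup_of_normal_right] at hg
            obtain ⟨u, hu, n, hn, rfl⟩ := hg
            rw [Char.cj_mul]
            have h3 : Char.cj N u (θ : N → ℂ) = (θ : N → ℂ) := by
              have h4 := c3 ⟨u⁻¹, (P : Subgroup G).inv_mem hu⟩
              rw [hact] at h4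
              have h5 := congrArg Subtype.val h4
              change Char.cj N (u⁻¹)⁻¹ (θ : N → ℂ) = _ at h5
              rwa [inv_inv] at h5
            rw [h3]
            funext x
            rw [Char.cj_apply]
            have h6 := isClassFunction_of_isCharacter (irr_isCharacter θ) x ⟨n, hn⟩
            exact h6
          · intro n
            exact congrFun (congrArg Subtype.val c2) n
          · intro n
            exact congrFun (congrArg Subtype.val c1) n
        · rw [if_neg c4] at hθ; exact absurd rfl hθ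
      · rw [if_neg c3] at hθ; exact absurd rfl hθ
    · rw [if_neg c2] at hθ; exact absurd rfl hθ
  · rw [if_neg c1] at hθ; exact absurd rfl hθ

end Count

section Main

variable {G : Type u} [Group G] [Fintype G] {M : Ideal AlgInt} [hMp : M.IsPrime]

/-- a minimal normal subgroup of 2-power index has no invariant quadratic character -/
theorem no_quadratic (N : Subgroup G) [hN : N.Normal] {a : ℕ} (hidx : N.index = 2 ^ a)
    (hmin : ∀ L : Subgroup G, L.Normal → (∃ b, L.index = 2 ^ b) → L ≤ N → N ≤ L)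
    (ν : N →* ℂ) (hinv : ∀ (g : G) (n n' : N), (n' : G) = g * n * g⁻¹ → ν n' = ν n)
    (h2 : ∀ n, ν n ^ 2 = 1) (n : N) : ν n = 1 := by
  set L : Subgroup G := ν.ker.map N.subtype with hL
  have hmem : ∀ x : G, x ∈ L ↔ ∃ h : x ∈ N, ν ⟨x, h⟩ = 1 := by
    intro x
    rw [hL, Subgroup.mem_map]
    constructor
    · rintro ⟨y, hy, rfl⟩
      exact ⟨y.2, MonoidHom.mem_ker.mp hy⟩
    · rintro ⟨h, hx⟩
      exact ⟨⟨x, h⟩, MonoidHom.mem_ker.mpr hx, rfl⟩
  have hLn : L.Normal := ⟨fun x hx g => by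
    obtain ⟨h, hx⟩ := (hmem x).mp hx
    refine (hmem _).mpr ⟨hN.conj_mem x h g, ?_⟩
    rw [hinv g ⟨x, h⟩ ⟨g * x * g⁻¹, hN.conj_mem x h g⟩ rfl, hx]⟩
  have hq : IsPGroup 2 (N ⧸ ν.ker) := by
    intro q
    induction q using QuotientGroup.induction_on with
    | H x =>
      refine ⟨1, ?_⟩
      rw [pow_one, ← QuotientGroup.mk_pow, QuotientGroup.eq_one_iff, MonoidHom.mem_ker, map_pow,
        h2]
  obtain ⟨b, hb⟩ := IsPGroup.iff_card.mp hq
  have hLi : L.index = 2 ^ (b + a) := by
    rw [hL, Subgroup.index_map_subtype, hidx, pow_add]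
    congr 1
  have h3 := hmin L hLn ⟨_, hLi⟩ (fun x hx => ((hmem x).mp hx).1) n.2
  obtain ⟨h, hx⟩ := (hmem _).mp h3
  exact hx

theorem k_mod {k : ℕ} (hk₁ : ∀ g : G, (∃ j : ℕ, orderOf g = 2 ^ j) → g ^ k = g ^ 3)
    (hk₂ : ∀ g : G, Odd (orderOf g) → g ^ k = g) (g : G) {j m : ℕ} (hm : ¬ 2 ∣ m)
    (hg : orderOf g = 2 ^ j * m) : k ≡ 3 [MOD 2 ^ j] ∧ k ≡ 1 [MOD m] := by
  have hm0 : m ≠ 0 := by rintro rfl; simp at hm
  have h2 : (2 : ℕ) ^ j ≠ 0 := pow_ne_zero _ (by norm_num)
  constructor
  · have h1 : orderOf (g ^ m) = 2 ^ j := by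
      rw [orderOf_pow_of_dvd hm0 ⟨2 ^ j, by rw [hg]; ring⟩, hg]
      exact Nat.mul_div_cancel _ (Nat.pos_of_ne_zero hm0)
    have h3 := hk₁ (g ^ m) ⟨j, h1⟩
    rw [pow_eq_pow_iff_modEq, h1] at h3
    exact h3
  · have h1 : orderOf (g ^ 2 ^ j) = m := by
      rw [orderOf_pow_of_dvd h2 ⟨m, hg⟩, hg]
      exact Nat.mul_div_cancel_left _ (Nat.pos_of_ne_zero h2)
    have h3 := hk₂ (g ^ 2 ^ j) (by rw [h1]; exact Nat.odd_iff.mpr (by omega))
    have h4 : (g ^ 2 ^ j) ^ k = (g ^ 2 ^ j) ^ 1 := by rw [h3, pow_one]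
    rw [pow_eq_pow_iff_modEq, h1] at h4
    exact h4

theorem exists_decomp_order (g : G) : ∃ j m : ℕ, ¬ 2 ∣ m ∧ orderOf g = 2 ^ j * m :=
  Nat.exists_eq_pow_mul_and_not_dvd (orderOf_pos g).ne' 2 (by norm_num)

theorem npc_of_fixed (hM : IsPModular 2 M) {k : ℕ}
    (hk₁ : ∀ g : G, (∃ j : ℕ, orderOf g = 2 ^ j) → g ^ k = g ^ 3)
    (hk₂ : ∀ g : G, Odd (orderOf g) → g ^ k = g)
    (h : ∀ χ ∈ principalBlock M G, Odd (charDegree (χ : G → ℂ)) →
      (∀ g : G, (χ : G → ℂ) (g ^ k) = (χ : G → ℂ) g) → charDegree (χ : G → ℂ) = 1) :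
    HasNormalPComplement 2 G := by
  classical
  haveI : Fact (Nat.Prime 2) := ⟨Nat.prime_two⟩
  have hkmod : ∀ (g : G) {j m : ℕ}, ¬ 2 ∣ m → orderOf g = 2 ^ j * m →
      k ≡ 3 [MOD 2 ^ j] ∧ k ≡ 1 [MOD m] := fun g {j m} hm hg => k_mod hk₁ hk₂ g hm hg
  -- the minimal normal subgroup of 2-power index
  let S : Set (Subgroup G) := {N | N.Normal ∧ ∃ a, N.index = 2 ^ a}
  have hSne : S.Nonempty := ⟨⊤, inferInstance, 0, by rw [Subgroup.index_top, pow_zero]⟩
  obtain ⟨N, ⟨hN, a, hidx⟩, hmin'⟩ := S.toFinite.exists_minimal hSne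
  have hmin : ∀ L : Subgroup G, L.Normal → (∃ b, L.index = 2 ^ b) → L ≤ N → N ≤ L :=
    fun L h1 h2 h3 => hmin' ⟨h1, h2⟩ h3
  haveI := hN
  haveI := Fintype.ofFinite N
  by_cases heven : 2 ∣ Nat.card N
  swap
  · exact Transfer.hasNPC_iff_exists.mpr ⟨N, hN,
      ((Nat.Prime.coprime_iff_not_dvd Nat.prime_two).mpr heven).symm, a, hidx⟩
  exfalso
  -- arithmetic of `k`
  have hkG : k.Coprime (Nat.card G) := by
    apply Nat.Coprime.symm
    apply Nat.coprime_of_dvd
    intro q hq hqG hqk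
    have := Fact.mk hq
    obtain ⟨x, hx⟩ := exists_prime_orderOf_dvd_card' q hqG
    have h1 : x ^ k = 1 := by
      rw [← orderOf_dvd_iff_pow_eq_one, hx]; exact hqk
    by_cases hq2 : q = 2
    · subst hq2
      have h2 := hk₁ x ⟨1, by rw [hx, pow_one]⟩
      rw [h1] at h2
      have h3 : orderOf x ∣ 3 := orderOf_dvd_of_pow_eq_one h2.symm
      rw [hx] at h3
      omega
    · have h2 := hk₂ x (by rw [hx]; exact hq.odd_of_ne_two hq2)
      rw [h1] at h2
      rw [← h2, orderOf_one] at hx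
      exact hq.one_lt.ne hx
  obtain ⟨A, mG, hmG, hcard⟩ := Nat.exists_eq_pow_mul_and_not_dvd (Nat.card_pos (α := G)).ne' 2
    (by norm_num)
  have hcopA : Nat.Coprime (2 ^ A) mG :=
    Nat.Coprime.pow_left A ((Nat.Prime.coprime_iff_not_dvd Nat.prime_two).mpr hmG)
  obtain ⟨k', hk'1, hk'2⟩ : ∃ k', k' ≡ k [MOD 2 ^ A] ∧ k' ≡ 1 [MOD mG] :=
    ⟨_, (Nat.chineseRemainder hcopA k 1).2⟩
  have hk'G : k'.Coprime (Nat.card G) := by
    rw [hcard]
    apply Nat.Coprime.mul_right
    · have h1 : Nat.gcd k' (2 ^ A) = Nat.gcd k (2 ^ A) := hk'1.gcd_eq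
      rw [Nat.Coprime, h1]
      exact Nat.Coprime.coprime_dvd_right (by rw [hcard]; exact dvd_mul_right _ _) hkG
    · have h1 : Nat.gcd k' mG = Nat.gcd 1 mG := hk'2.gcd_eq
      rw [Nat.Coprime, h1, Nat.gcd_one_left]
  have hpow : ∀ g : G, g ^ k' = g ^ k := by
    intro g
    rw [pow_eq_pow_iff_modEq]
    obtain ⟨j, m, hm, hg⟩ := exists_decomp_order g
    obtain ⟨h1, h2⟩ := hkmod g hm hg
    have hgG : orderOf g ∣ 2 ^ A * mG := by rw [← hcard]; exact orderOf_dvd_natCard g
    rw [hg] at hgG ⊢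
    have hcop : Nat.Coprime (2 ^ j) m :=
      Nat.Coprime.pow_left j ((Nat.Prime.coprime_iff_not_dvd Nat.prime_two).mpr hm)
    have h3 : 2 ^ j ∣ 2 ^ A := by
      apply Nat.Coprime.dvd_of_dvd_mul_right (n := mG) _ ((dvd_mul_right _ _).trans hgG)
      exact Nat.Coprime.pow_left j ((Nat.Prime.coprime_iff_not_dvd Nat.prime_two).mpr hmG)
    have h4 : m ∣ mG := by
      apply Nat.Coprime.dvd_of_dvd_mul_left (m := 2 ^ A) _ ((dvd_mul_left _ _).trans hgG)
      exact (Nat.Coprime.pow_left A ((Nat.Prime.coprime_iff_not_dvd Nat.prime_two).mpr hm)).symm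
    rw [← Nat.modEq_and_modEq_iff_modEq_mul hcop]
    exact ⟨hk'1.of_dvd h3, (hk'2.of_dvd h4).trans h2.symm⟩
  obtain ⟨σ, hσ⟩ := exists_aut_pow (Nat.card_pos (α := G)).ne' hk'G
  have hr : ∀ g : G, g ^ k ^ 2 ^ Nat.card G = g := by
    intro g
    have h0 : g ^ k ^ 2 ^ Nat.card G = g ^ 1 := by
      rw [pow_eq_pow_iff_modEq]
      obtain ⟨j, m, hm, hg⟩ := exists_decomp_order g
      obtain ⟨h1, h2⟩ := hkmod g hm hg
      have hcop : Nat.Coprime (2 ^ j) m :=
        Nat.Coprime.pow_left j ((Nat.Prime.coprime_iff_not_dvd Nat.prime_two).mpr hm)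
      rw [hg, ← Nat.modEq_and_modEq_iff_modEq_mul hcop]
      constructor
      · have h3 : j ≤ Nat.card G := by
          have h4 : 2 ^ j ∣ Nat.card G :=
            (Dvd.intro _ hg.symm).trans (orderOf_dvd_natCard g)
          have h5 := Nat.le_of_dvd Nat.card_pos h4
          exact (Nat.lt_two_pow_self).le.trans h5
        have h4 : k ^ 2 ^ Nat.card G ≡ 3 ^ 2 ^ Nat.card G [MOD 2 ^ j] := h1.pow _
        refine h4.trans ?_
        have h5 : Nat.Coprime 3 (2 ^ j) := Nat.Coprime.pow_right j (by norm_num)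
        have h6 := Nat.ModEq.pow_totient h5
        have h7 : Nat.totient (2 ^ j) ∣ 2 ^ Nat.card G := by
          rcases j with _ | j
          · rw [pow_zero, Nat.totient_one]; exact one_dvd _
          · rw [Nat.totient_prime_pow_succ Nat.prime_two, show 2 - 1 = 1 from rfl, mul_one]
            exact pow_dvd_pow 2 (by omega)
        obtain ⟨t, ht⟩ := h7
        rw [ht, pow_mul]
        simpa using h6.pow t
      · simpa using h2.pow (2 ^ Nat.card G)
    rw [h0, pow_one]
  obtain ⟨θ, hθB, hθ1, hθodd, hθinv, hθk, hθreal⟩ := exists_fixed_real hM N hidx heven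
    (k := k) (r := Nat.card G)
    (Nat.Coprime.coprime_dvd_right (Subgroup.card_subgroup_dvd_card N) hkG)
    (fun n => Subtype.ext (by
      rw [Subgroup.coe_pow]; exact hr n)) (by
      intro ψ hψ ψ' hψ'
      have h1 : ψ' = irrGal σ ψ := by
        apply Subtype.ext
        funext n
        rw [hψ']
        change _ = σ ((ψ : N → ℂ) n)
        rw [map_char_eq (irr_isCharacter ψ) n (n := Nat.card G) (k := k') (by
          rw [← Subgroup.orderOf_coe]; exact orderOf_dvd_natCard _) σ hσ]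
        have e : n ^ k = n ^ k' := Subtype.ext (by
          rw [Subgroup.coe_pow, Subgroup.coe_pow, hpow])
        rw [e]
      rw [h1]
      refine irrGal_mem hM (isPBlock_principalBlock (M := M) (G := N)) ?_ hψ
      intro ζ hζ
      have h2 : Nat.card N / 2 ^ (Nat.card N).factorization 2 ∣ mG := by
        have h3 : Nat.card N / 2 ^ (Nat.card N).factorization 2 ∣ 2 ^ A * mG := by
          rw [← hcard]
          exact (Nat.ordCompl_dvd _ _).trans (Subgroup.card_subgroup_dvd_card N)
        apply Nat.Coprime.dvd_of_dvd_mul_left _ h3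
        exact (Nat.Coprime.pow_left A ((Nat.Prime.coprime_iff_not_dvd Nat.prime_two).mpr
          (Nat.not_dvd_ordCompl Nat.prime_two Nat.card_pos.ne'))).symm
      have h4 : ζ ^ mG = 1 := by
        obtain ⟨t, ht⟩ := h2
        rw [ht, pow_mul, hζ, one_pow]
      rw [hσ ζ (by rw [hcard, mul_comm, pow_mul, h4, one_pow])]
      have h5 : orderOf ζ ∣ mG := orderOf_dvd_of_pow_eq_one h4
      rw [← pow_mod_orderOf ζ k', (hk'2.of_dvd h5 : k' % _ = 1 % _), pow_mod_orderOf, pow_one])
  have hθinv' : ∀ (g : G) (n n' : N), (n' : G) = g * n * g⁻¹ →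
      (θ : N → ℂ) n' = (θ : N → ℂ) n := by
    intro g n n' hn
    have h1 := congrFun (hθinv g) n
    rw [Char.cj_apply] at h1
    rw [← h1]
    have e : n' = ⟨g * n * g⁻¹, hN.conj_mem (n : G) n.2 g⟩ := Subtype.ext hn
    rw [e]
  -- the determinantal order is odd
  have hdc := detChar_isCharacter θ.2
  have hdetodd : ¬ 2 ∣ detOrder (θ : N → ℂ) := by
    rintro ⟨o, ho⟩
    let δ : N →* ℂ := linHom hdc.1 hdc.2
    have hpow : ∀ n, detChar (θ : N → ℂ) n ^ Nat.card N = 1 := fun x =>
      linChar_pow_card hdc.1 hdc.2 x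
    have hopos : 0 < detOrder (θ : N → ℂ) :=
      Nat.pos_of_dvd_of_pos (orderOf_dvd_of_pow_eq_one (pow_fun_eq_one_iff.mpr hpow)) Nat.card_pos
    have h1 : ∀ n, (δ ^ o) n = 1 := by
      intro n
      refine no_quadratic N hidx hmin (δ ^ o) ?_ ?_ n
      · intro g n n' hn
        change detChar (θ : N → ℂ) n' ^ o = detChar (θ : N → ℂ) n ^ o
        have h2 := detChar_cj θ.2 g
        rw [hθinv g] at h2
        have h3 := congrFun h2 n
        rw [Char.cj_apply] at h3
        rw [h3]
        have e : n' = ⟨g * n * g⁻¹, hN.conj_mem (n : G) n.2 g⟩ := Subtype.ext hn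
        rw [e]
      · intro n
        change (detChar (θ : N → ℂ) n ^ o) ^ 2 = 1
        rw [← pow_mul, mul_comm o 2, ← ho]
        exact pow_fun_eq_one_iff.mp (pow_orderOf_eq_one (detChar (θ : N → ℂ))) n
    have h2 : detOrder (θ : N → ℂ) ∣ o :=
      orderOf_dvd_of_pow_eq_one (pow_fun_eq_one_iff.mpr h1)
    have h3 := Nat.le_of_dvd (by omega) h2
    omega
  set d := charDegree (θ : N → ℂ) with hd
  have hθd : (θ : N → ℂ) 1 = d := BlkC.charDegree_spec θ
  have hcopd : Nat.Coprime (2 ^ a) (detOrder (θ : N → ℂ) * d) := by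
    apply Nat.Coprime.pow_left
    rw [Nat.Prime.coprime_iff_not_dvd Nat.prime_two, Nat.prime_two.dvd_mul]
    tauto
  obtain ⟨χ, ⟨hχ, hχext, hχdet⟩, hχu⟩ := Cfsg.Agent.S0867.result N (θ : N → ℂ) θ.2
    (fun g x => congrFun (hθinv g) x) d hθd (by rw [hidx]; exact hcopd)
  have hχ1 : χ 1 = d := by rw [← hθd]; exact hχext 1
  have hχdeg : charDegree χ = d := by
    unfold charDegree
    rw [hχ1]; simp
  have hB : (⟨χ, hχ⟩ : IrrCharacter G) ∈ principalBlock M G := by
    refine mem_principalBlock_of_restrict hM N.subtype N.subtype_injective ?_ ⟨χ, hχ⟩ θ hχext hθB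
    intro g hg
    rw [N.range_subtype]
    have h1 : g ^ 2 ^ a ∈ N := by rw [← hidx]; exact N.pow_index_mem g
    have h2 : Nat.Coprime (orderOf g) (2 ^ a) :=
      Nat.Coprime.pow_right a ((Nat.Prime.coprime_iff_not_dvd Nat.prime_two).mpr hg).symm
    obtain ⟨b, hb⟩ := exists_pow_eq_self_of_coprime h2.symm
    rw [← hb]
    exact N.pow_mem h1 b
  have hσχ : ∀ g, σ (χ g) = χ (g ^ k) := by
    intro g
    rw [map_char_eq (isCharacter_of_isIrr hχ) g (orderOf_dvd_natCard g) σ hσ, hpow]
  have hfix : ∀ g, χ (g ^ k) = χ g := by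
    intro g
    have h2 := hχu (fun x => σ (χ x)) (isIrrCharacter_map σ hχ) (fun x => by
      rw [hσχ, ← hθk x, ← hχext]
      rfl) (by
        rw [Glaub.detOrder_map σ hχ, hχdet, hidx]
        exact Nat.Coprime.coprime_dvd_right (Dvd.intro _ rfl) hcopd)
    rw [← hσχ]
    exact congrFun h2 g
  have hd1 := h ⟨χ, hχ⟩ hB (by
    change Odd (charDegree χ)
    rw [hχdeg, Nat.odd_iff]; omega) hfix
  change charDegree χ = 1 at hd1
  rw [hχdeg] at hd1
  rw [hd1, Nat.cast_one] at hθd
  -- `θ` is linear and real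
  have h5 := no_quadratic N hidx hmin (linHom (irr_isCharacter θ) hθd) hθinv' (by
    intro n
    rw [linHom_apply]
    have h6 := linChar_mul_conj (irr_isCharacter θ) hθd n
    rw [hθreal] at h6
    rw [pow_two]; exact h6)
  apply hθ1
  apply Subtype.ext
  funext n
  exact h5 n

end Main

end Cfsg.Agent.BlkInd
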