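import Mathlib

set_option autoImplicit false

/-!
# Arithmetic for the homocyclic case
-/

namespace Cfsg.Agent.BlkInd

theorem arith_bound {N1 : ℤ} (hN : 1 ≤ N1) {e1 e2 y : ℤ} (hy : y = 1 - e1 - e2)
    (h : 1 + e1 * e1 + e2 * e2 + (N1 * (y * y) + (3 * N1 + 1) * ((y - 4) * (y - 4))) ≤
      4 * (3 * N1 + 1)) : e1 = -1 ∧ e2 = -1 ∧ y = 3 := by
  have hy0 : 0 ≤ y * y := mul_self_nonneg y
  have he1 : 0 ≤ e1 * e1 := mul_self_nonneg e1
  have he2 : 0 ≤ e2 * e2 := mul_self_nonneg e2
  have h1 : (y - 4) * (y - 4) < 4 := by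
    by_contra hge
    push Not at hge
    have : (3 * N1 + 1) * 4 ≤ (3 * N1 + 1) * ((y - 4) * (y - 4)) :=
      mul_le_mul_of_nonneg_left hge (by linarith)
    have h2 : 0 ≤ N1 * (y * y) := mul_nonneg (by linarith) hy0
    linarith
  have h2 : 2 < y := by nlinarith
  have h3 : y < 6 := by nlinarith
  have hy3 : y = 3 := by
    have : y = 3 ∨ y = 4 ∨ y = 5 := by omega
    rcases this with h4 | h4 | h4
    · exact h4
    · exfalso; rw [h4] at h; nlinarith
    · exfalso; rw [h4] at h; nlinarith
  rw [hy3] at h hy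
  have h5 : e2 = -2 - e1 := by linarith
  rw [h5] at h
  have h6 : (e1 + 1) * (e1 + 1) ≤ 0 := by nlinarith
  have h7 : e1 + 1 = 0 := by
    have := mul_self_nonneg (e1 + 1)
    exact mul_self_eq_zero.mp (le_antisymm h6 this)
  refine ⟨by linarith, by rw [h5]; linarith, hy3⟩

theorem sq_sub_four {T k : ℤ} (h : k * k = T * T - 4) : k = 0 := by
  have hT : -3 < T ∧ T < 3 := by
    by_contra hcon
    have hT3 : 3 ≤ |T| := by
      rcases le_or_gt 3 T with h1 | h1
      · rw [abs_of_nonneg (by linarith)]; exact h1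
      · rcases le_or_gt T (-3) with h2 | h2
        · rw [abs_of_nonpos (by linarith)]; linarith
        · exact absurd ⟨h2, h1⟩ hcon
    have e1 : |T| * |T| = T * T := abs_mul_abs_self T
    have e2 : |k| * |k| = k * k := abs_mul_abs_self k
    have hk0 : 0 ≤ |k| := abs_nonneg k
    have h1 : |k| < |T| := by nlinarith
    have h2 : |k| ≤ |T| - 1 := by linarith
    nlinarith
  have h1 : T = -2 ∨ T = -1 ∨ T = 0 ∨ T = 1 ∨ T = 2 := by omega
  have hk := mul_self_nonneg k
  rcases h1 with h1 | h1 | h1 | h1 | h1 <;> rw [h1] at h <;> norm_num at h <;> first | exact h | (exfalso; linarith)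

theorem arith_deg {a1 a2 a3 : ℤ} (h1 : Odd a1) (h2 : Odd a2) (hs : a1 + a2 + a3 = 1)
    (h : a2 * a3 + a1 * a3 + 9 * (a1 * a2) = a1 * a2 * a3) : a1 = -1 ∧ a2 = -1 ∧ a3 = 3 := by
  obtain ⟨S', hS'⟩ := Odd.add_odd h1 h2
  set S := a1 + a2 with hS
  set D := a1 - a2 with hD
  have ha3 : a3 = 1 - S := by linarith
  have key : D * D * (S + 8) = S * ((S + 2) * (S + 2)) := by
    rw [ha3] at h
    have h4 : D * D = S * S - 4 * (a1 * a2) := by rw [hS, hD]; ring
    have h5 : a1 * a2 * (S + 8) = S * (S - 1) := by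
      have : a2 * (1 - S) + a1 * (1 - S) + 9 * (a1 * a2) = a1 * a2 * (1 - S) := h
      have h6 : a2 * (1 - S) + a1 * (1 - S) = S * (1 - S) := by rw [hS]; ring
      linarith
    rw [h4]
    linear_combination (-4) * h5
  have hS8 : S + 8 ≠ 0 := by
    intro h0
    have : S = -8 := by linarith
    rw [this] at key
    norm_num at key
  have hS2 : S = -2 := by
    by_contra hne
    have hne' : S + 2 ≠ 0 := fun h0 => hne (by linarith)
    have h4 : ((S + 8) * D) * ((S + 8) * D) = (S + 2) * (S + 2) * (S * (S + 8)) := by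
      linear_combination (S + 8) * key
    have h5 : (S + 2) ∣ (S + 8) * D := by
      have : (S + 2) ^ 2 ∣ ((S + 8) * D) ^ 2 := ⟨S * (S + 8), by rw [pow_two, h4]; ring⟩
      exact (Int.pow_dvd_pow_iff (by norm_num)).mp this
    obtain ⟨k, hk⟩ := h5
    rw [hk] at h4
    have h6 : k * k = S * (S + 8) := by
      have : (S + 2) * (S + 2) * (k * k) = (S + 2) * (S + 2) * (S * (S + 8)) := by
        linear_combination h4
      exact mul_left_cancel₀ (mul_ne_zero hne' hne') this
    -- parity
    have hS2' : S = 2 * S' := by linarith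
    have hkev : Even k := by
      have : Even (k * k) := by rw [h6, hS2']; exact ⟨S' * (2 * S' + 8), by ring⟩
      rcases Int.even_mul.mp this with h | h <;> exact h
    obtain ⟨k', hk'⟩ := hkev
    have h7 : k' * k' = (S' + 2) * (S' + 2) - 4 := by
      have : 4 * (k' * k') = 4 * ((S' + 2) * (S' + 2) - 4) := by
        have h8 : (k' + k') * (k' + k') = 2 * S' * (2 * S' + 8) := by rw [← hk', h6, hS2']
        linear_combination h8
      linarith
    have h9 := sq_sub_four h7
    rw [h9] at h7
    have h10 : S' * (S' + 4) = 0 := by linear_combination -h7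
    rcases mul_eq_zero.mp h10 with h11 | h11
    · have hS0 : S = 0 := by rw [hS2', h11]; ring
      rw [hS0] at key
      have h12 : D * D = 0 := by linarith
      have h13 : D = 0 := mul_self_eq_zero.mp h12
      have h14 : a1 = 0 := by linarith
      rw [h14] at h1
      exact absurd h1 (by decide)
    · apply hS8
      rw [hS2']; linarith
  rw [hS2] at key
  have h12 : D * D = 0 := by linarith
  have h13 : D = 0 := mul_self_eq_zero.mp h12
  refine ⟨by linarith, by linarith, by linarith⟩

end Cfsg.Agent.BlkInd
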