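import Mathlib
import Cfsg.Agent.BlkInd.Canon
import Cfsg.Agent.BlkInd.ElemProd
import Cfsg.Agent.Star.Part

set_option autoImplicit false
set_option linter.style.haveILetI false
set_option linter.unusedSimpArgs false
set_option linter.unusedSectionVars false
set_option linter.unusedVariables false

/-!
# Class functions of the `p`-part, given by fusion invariant functions on a Sylow subgroup
-/

namespace Cfsg.Agent.BlkInd

open scoped BigOperators ComplexConjugate
open Cfsg Cfsg.Agent.CharBase Cfsg.Agent.Star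

universe u v w

section

variable {G : Type u} [Group G] [Finite G] {p : ℕ} [hp : Fact p.Prime] (P : Sylow p G)

theorem exists_conj_mem (Q : Subgroup G) (hQ : IsPGroup p Q) :
    ∃ x : G, ∀ q ∈ Q, x * q * x⁻¹ ∈ (P : Subgroup G) := by
  obtain ⟨Q', hQ'⟩ := hQ.exists_le_sylow
  obtain ⟨x, hx⟩ := MulAction.exists_smul_eq G Q' P
  refine ⟨x, fun q hq => ?_⟩
  have h1 : (Q' : Subgroup G).map (MulAut.conj x).toMonoidHom = (P : Subgroup G) := by
    have := congrArg (fun S : Sylow p G => (S : Subgroup G)) hx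
    exact this
  rw [← h1]
  exact ⟨q, hQ' hq, rfl⟩

theorem isPGroup_zpowers_ppart (g : G) : IsPGroup p (Subgroup.zpowers (ppart p g)) := by
  obtain ⟨s, h1, h2, ⟨k, hk⟩, h4⟩ := ppart_spec (p := p) g
  exact IsPGroup.of_card (n := k) (by rw [Nat.card_zpowers, hk])

theorem exists_pRep (g : G) : ∃ u : (P : Subgroup G), IsConj (ppart p g) (u : G) := by
  obtain ⟨x, hx⟩ := exists_conj_mem P _ (isPGroup_zpowers_ppart g)
  exact ⟨⟨x * ppart p g * x⁻¹, hx _ (Subgroup.mem_zpowers _)⟩, isConj_iff.mpr ⟨x, rfl⟩⟩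

/-- the function `g ↦ η(g_p)` -/
noncomputable def pFn (η : ↥(P : Subgroup G) → ℂ) (g : G) : ℂ := η (Classical.choose (exists_pRep P g))

variable {P}

/-- fusion invariance -/
def FusInv (P : Sylow p G) (η : ↥(P : Subgroup G) → ℂ) : Prop :=
  ∀ u v : (P : Subgroup G), IsConj (u : G) (v : G) → η u = η v

variable {η : ↥(P : Subgroup G) → ℂ}

theorem pFn_eq (hη : FusInv P η) {g : G} {u : (P : Subgroup G)} (h : IsConj (ppart p g) (u : G)) :
    pFn P η g = η u :=
  hη _ _ ((Classical.choose_spec (exists_pRep P g)).symm.trans h)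

theorem pFn_congr (hη : FusInv P η) {g h : G} (hgh : IsConj (ppart p g) (ppart p h)) :
    pFn P η g = pFn P η h := by
  obtain ⟨u, hu⟩ := exists_pRep P h
  rw [pFn_eq hη hu, pFn_eq hη (hgh.trans hu)]

theorem pFn_class (hη : FusInv P η) : IsClassFunction G (pFn P η) := by
  intro g x
  apply pFn_congr hη
  rw [ppart_conj]
  exact (isConj_iff.mpr ⟨x, rfl⟩ : IsConj (ppart p g) _).symm

theorem ppart_of_pow {u : G} (hu : ∃ k : ℕ, orderOf u = p ^ k) : ppart p u = u := by
  have := ppart_mul (p := p) (Commute.one_right u) hu (by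
    rw [orderOf_one]; exact fun h => hp.out.one_lt.ne' (Nat.dvd_one.mp h))
  rwa [mul_one] at this

theorem exists_order (u : (P : Subgroup G)) : ∃ k : ℕ, orderOf (u : G) = p ^ k := by
  obtain ⟨k, hk⟩ := IsPGroup.iff_orderOf.mp P.isPGroup' u
  exact ⟨k, by rw [← hk, Subgroup.orderOf_coe]⟩

theorem pFn_coe (hη : FusInv P η) (u : (P : Subgroup G)) : pFn P η (u : G) = η u := by
  apply pFn_eq hη
  rw [ppart_of_pow (exists_order u)]

theorem pFn_of_conj (hη : FusInv P η) {v : G} {u : (P : Subgroup G)} (h : IsConj v (u : G)) :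
    pFn P η v = η u := by
  obtain ⟨x, hx⟩ := isConj_iff.mp h.symm
  rw [← hx, pFn_class hη, pFn_coe hη]

theorem pFn_mul (hη : FusInv P η) {v s : G} (hc : Commute v s) (hv : ∃ k : ℕ, orderOf v = p ^ k)
    (hs : ¬ p ∣ orderOf s) : pFn P η (v * s) = pFn P η v := by
  apply pFn_congr hη
  rw [ppart_mul hc hv hs, ppart_of_pow hv]

theorem pFn_regular (hη : FusInv P η) {s : G} (hs : ¬ p ∣ orderOf s) : pFn P η s = η 1 := by
  apply pFn_eq hη
  rw [ppart_of_regular hs]
  exact IsConj.refl _

/-- `g ↦ η(g_p)` is a generalized character -/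
theorem pFn_gen [Fintype (P : Subgroup G)] (hη : FusInv P η)
    (hgen : IsGeneralizedCharacter (P : Subgroup G) η) : IsGeneralizedCharacter G (pFn P η) := by
  refine isGeneralizedCharacter_of_prod p (pFn_class hη) ?_
  intro Q S hQ hS hcomm
  obtain ⟨x, hx⟩ := exists_conj_mem P Q hQ
  let φ : Q × S →* (P : Subgroup G) :=
    { toFun := fun y => ⟨x * (y.1 : G) * x⁻¹, hx _ y.1.2⟩
      map_one' := Subtype.ext (by simp)
      map_mul' := fun a b => Subtype.ext (by simp) }
  have h1 : (fun y : Q × S => pFn P η ((y.1 : G) * (y.2 : G))) = fun y => η (φ y) := by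
    funext y
    have hord : ∃ k : ℕ, orderOf (y.1 : G) = p ^ k := by
      obtain ⟨k, hk⟩ := IsPGroup.iff_orderOf.mp hQ y.1
      exact ⟨k, by rw [← hk, Subgroup.orderOf_coe]⟩
    rw [pFn_mul hη (hcomm _ y.1.2 _ y.2.2) hord]
    · exact pFn_of_conj hη (isConj_iff.mpr ⟨x, rfl⟩)
    · intro h
      apply hS
      rw [Subgroup.orderOf_coe] at h
      exact h.trans (orderOf_dvd_natCard _)
  rw [h1]
  exact isGeneralizedCharacter_comp hgen φ

end

section Avg

variable {G : Type u} [Group G] [Fintype G] {p : ℕ} [hp : Fact p.Prime] {P : Sylow p G}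

open Classical in
/-- the number of `p`-regular elements commuting with `v` -/
noncomputable def nReg (p : ℕ) (v : G) : ℕ :=
  (Finset.univ.filter (fun s : G => s ∈ Subgroup.centralizer (Subgroup.zpowers v : Set G) ∧
    ¬ p ∣ orderOf s)).card

open Classical in
/-- averaging a function of the `p`-part -/
theorem sum_pFn [Fintype (P : Subgroup G)] {F : ↥(P : Subgroup G) → ℂ} (hF : FusInv P F)
    (h1 : F 1 = 0)
    (hreg : ∀ v : G, v ≠ 1 → (∃ k : ℕ, orderOf v = p ^ k) →
      Nat.card (P : Subgroup G) * nReg p v = Nat.card (Subgroup.centralizer ({v} : Set G)))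
    {r : ℕ} (hr : ∀ v : G, v ≠ 1 → (∃ k : ℕ, orderOf v = p ^ k) →
      (Finset.univ.filter (fun u : (P : Subgroup G) => IsConj (u : G) v)).card = r) :
    (Nat.card G : ℂ) * ∑ u : (P : Subgroup G), F u =
      (r : ℂ) * (Nat.card (P : Subgroup G) : ℂ) * ∑ g : G, pFn P F g := by
  set E := Finset.univ.filter (fun v : G => ∃ k : ℕ, orderOf v = p ^ k) with hE
  -- right-hand side
  have hR : (Nat.card (P : Subgroup G) : ℂ) * ∑ g : G, pFn P F g =
      ∑ v ∈ E, (Nat.card (Subgroup.centralizer ({v} : Set G)) : ℂ) * pFn P F v := by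
    rw [sum_sections (p := p), Finset.mul_sum]
    refine Finset.sum_congr rfl fun v hv => ?_
    replace hv := (Finset.mem_filter.1 hv).2
    have h2 : ∑ s ∈ Finset.univ.filter (fun s : G => s ∈ Subgroup.centralizer
        (Subgroup.zpowers v : Set G) ∧ ¬ p ∣ orderOf s), pFn P F (v * s) =
        (nReg p v : ℂ) * pFn P F v := by
      rw [Finset.sum_congr rfl (g := fun _ => pFn P F v), Finset.sum_const, nsmul_eq_mul]
      · rfl
      · intro s hs
        rw [Finset.mem_filter] at hs
        exact pFn_mul hF (mem_cent_zpowers.1 hs.2.1) hv hs.2.2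
    rw [h2]
    by_cases hv1 : v = 1
    · subst hv1
      have : pFn P F 1 = 0 := by
        have := pFn_coe hF 1
        rw [h1] at this
        simpa using this
      rw [this]; simp
    · rw [← mul_assoc, ← hreg v hv1 hv]
      push_cast
      ring
  -- left-hand side
  have hL : (Nat.card G : ℂ) * ∑ u : (P : Subgroup G), F u =
      ∑ u : (P : Subgroup G), ∑ v ∈ Finset.univ.filter (fun v : G => IsConj (u : G) v),
        (Nat.card (Subgroup.centralizer ({v} : Set G)) : ℂ) * pFn P F v := by
    rw [Finset.mul_sum]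
    refine Finset.sum_congr rfl fun u _ => ?_
    have h3 : ∑ g : G, pFn P F (g⁻¹ * (u : G) * g) = (Nat.card G : ℂ) * F u := by
      rw [Finset.sum_congr rfl (g := fun _ => F u), Finset.sum_const, Finset.card_univ,
        nsmul_eq_mul, Nat.card_eq_fintype_card]
      intro g _
      exact pFn_of_conj hF (isConj_iff.mpr ⟨g, by group⟩)
    rw [← h3, sum_conj_eq (pFn P F) (u : G), nsmul_eq_mul, Finset.mul_sum]
    refine Finset.sum_congr rfl fun v hv => ?_
    rw [Finset.mem_filter] at hv
    congr 2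
    have h4 := card_isConj_mul_card_centralizer (u : G)
    have h5 := card_isConj_mul_card_centralizer v
    have h6 : Nat.card {x : G // IsConj (u : G) x} = Nat.card {x : G // IsConj v x} := by
      apply Nat.card_congr
      exact Equiv.subtypeEquivRight fun x => ⟨fun h => hv.2.symm.trans h, fun h => hv.2.trans h⟩
    rw [h6] at h4
    have h7 : 0 < Nat.card {x : G // IsConj v x} := by
      haveI : Nonempty {x : G // IsConj v x} := ⟨⟨v, IsConj.refl v⟩⟩
      exact Nat.card_pos
    exact Nat.eq_of_mul_eq_mul_left h7 (h4.trans h5.symm)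
  rw [hL, mul_assoc, hR, Finset.mul_sum]
  have h8 : ∑ u : (P : Subgroup G), ∑ v ∈ Finset.univ.filter (fun v : G => IsConj (u : G) v),
      (Nat.card (Subgroup.centralizer ({v} : Set G)) : ℂ) * pFn P F v =
      ∑ v : G, ∑ u : (P : Subgroup G), if IsConj (u : G) v then
        (Nat.card (Subgroup.centralizer ({v} : Set G)) : ℂ) * pFn P F v else 0 := by
    rw [Finset.sum_comm]
    refine Finset.sum_congr rfl fun u _ => ?_
    rw [Finset.sum_filter]
  rw [h8, ← Finset.sum_subset (Finset.subset_univ E)]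
  · refine Finset.sum_congr rfl fun v hv => ?_
    replace hv := (Finset.mem_filter.1 hv).2
    rw [← Finset.sum_filter, Finset.sum_const, nsmul_eq_mul]
    by_cases hv1 : v = 1
    · subst hv1
      have : pFn P F 1 = 0 := by
        have := pFn_coe hF 1
        rw [h1] at this
        simpa using this
      rw [this]; simp
    · rw [hr v hv1 hv]
  · intro v _ hv
    refine Finset.sum_eq_zero fun u _ => ?_
    rw [if_neg]
    intro h
    apply hv
    rw [hE, Finset.mem_filter]
    refine ⟨Finset.mem_univ _, ?_⟩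
    obtain ⟨x, hx⟩ := isConj_iff.mp h
    obtain ⟨k, hk⟩ := exists_order u
    refine ⟨k, ?_⟩
    have := orderOf_injective (MulAut.conj x).toMonoidHom (MulAut.conj x).injective (u : G)
    rw [← hk, ← this, ← hx]
    simp

end Avg

end Cfsg.Agent.BlkInd
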