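import Mathlib
import Cfsg.Agent.BlkInd.PFn
import Cfsg.Agent.BlkInd.SecOrb

set_option autoImplicit false
set_option linter.style.haveILetI false
set_option linter.unusedSimpArgs false
set_option linter.unusedSectionVars false
set_option linter.unusedVariables false

/-!
# Abelian Sylow subgroups with an inertial quotient of order three acting freely
-/

namespace Cfsg.Agent.BlkInd

open scoped BigOperators ComplexConjugate
open Cfsg Cfsg.Agent.CharBase Cfsg.Agent.Star

universe u v w

section

variable {G : Type u} [Group G] [Fintype G]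

theorem exists_sigma {p : ℕ} [hp : Fact p.Prime] (P : Sylow p G)
    (hcomm : ∀ a ∈ (P : Subgroup G), ∀ b ∈ (P : Subgroup G), a * b = b * a)
    (h3 : (Subgroup.centralizer ((P : Subgroup G) : Set G)).relIndex
      (Subgroup.normalizer ((P : Subgroup G) : Set G)) = 3)
    (hfree : ∀ z ∈ (P : Subgroup G), z ≠ 1 → Subgroup.centralizer ({z} : Set G) ⊓
      Subgroup.normalizer ((P : Subgroup G) : Set G) =
        Subgroup.centralizer ((P : Subgroup G) : Set G)) :
    ∃ σ : ↥(P : Subgroup G) ≃* ↥(P : Subgroup G), (∀ u, σ (σ (σ u)) = u) ∧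
      (∀ u, u ≠ 1 → σ u ≠ u) ∧
      ∀ u v : ↥(P : Subgroup G), IsConj (u : G) (v : G) ↔ v = u ∨ v = σ u ∨ v = σ (σ u) := by
  classical
  set φ := (P : Subgroup G).normalizerMonoidHom with hφ
  have hact : ∀ (n : (Subgroup.normalizer ((P : Subgroup G) : Set G) : Subgroup G))
      (u : ↥(P : Subgroup G)), ((φ n u : ↥(P : Subgroup G)) : G) = (n : G) * (u : G) * (n : G)⁻¹ :=
    fun n u => rfl
  have hker : φ.ker = (Subgroup.centralizer ((P : Subgroup G) : Set G)).subgroupOf
      (Subgroup.normalizer ((P : Subgroup G) : Set G)) := Subgroup.normalizerMonoidHom_ker _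
  have hcard : Nat.card φ.range = 3 := by
    rw [← Subgroup.index_ker, hker]
    exact h3
  haveI : Fact (Nat.Prime 3) := ⟨Nat.prime_three⟩
  haveI : Finite φ.range := Nat.finite_of_card_ne_zero (by rw [hcard]; norm_num)
  obtain ⟨s, hs⟩ := exists_prime_orderOf_dvd_card' (G := φ.range) 3 (by rw [hcard])
  have hall : ∀ α : φ.range, α = 1 ∨ α = s ∨ α = s ^ 2 := by
    intro α
    have h1 : Subgroup.zpowers s = ⊤ := by
      apply Subgroup.eq_top_of_card_eq
      rw [Nat.card_zpowers, hs, hcard]
    have h2 : α ∈ Subgroup.zpowers s := by rw [h1]; exact Subgroup.mem_top _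
    rw [← mem_powers_iff_mem_zpowers, mem_powers_iff_mem_range_orderOf, hs] at h2
    rw [Finset.mem_image] at h2
    obtain ⟨k, hk, rfl⟩ := h2
    rw [Finset.mem_range] at hk
    interval_cases k
    · left; exact pow_zero s
    · right; left; exact pow_one s
    · right; right; rfl
  have hs3 : s ^ 3 = 1 := by rw [← hs, pow_orderOf_eq_one]
  refine ⟨(s : MulAut ↥(P : Subgroup G)), ?_, ?_, ?_⟩
  · intro u
    have h1 : ((s : MulAut ↥(P : Subgroup G)) ^ 3) u = u := by
      have : ((s ^ 3 : φ.range) : MulAut ↥(P : Subgroup G)) = 1 := by rw [hs3]; rfl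
      rw [Subgroup.coe_pow] at this
      rw [this]; rfl
    exact h1
  · intro u hu1 hfix
    obtain ⟨n, hn⟩ := s.2
    have h1 : (n : G) * (u : G) * (n : G)⁻¹ = u := by
      rw [← hact, hn, hfix]
    have h2 : (n : G) ∈ Subgroup.centralizer ({(u : G)} : Set G) := by
      rw [Subgroup.mem_centralizer_singleton_iff]
      calc (n : G) * u = (n : G) * u * (n : G)⁻¹ * n := by group
        _ = u * n := by rw [h1]
    have h3' : (n : G) ∈ Subgroup.centralizer ((P : Subgroup G) : Set G) := by
      rw [← hfree u u.2 (fun h => hu1 (Subtype.ext h))]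
      exact ⟨h2, n.2⟩
    have h4 : n ∈ φ.ker := by
      rw [hker, Subgroup.mem_subgroupOf]; exact h3'
    rw [MonoidHom.mem_ker, hn] at h4
    have h5 : s = 1 := Subtype.ext h4
    rw [h5, orderOf_one] at hs
    norm_num at hs
  · intro u v
    haveI : IsMulCommutative ↥(P : Subgroup G) := ⟨⟨fun a b => Subtype.ext (hcomm a a.2 b b.2)⟩⟩
    constructor
    · intro h
      obtain ⟨g, hg⟩ := isConj_iff.mp h
      obtain ⟨n, hn, h1⟩ := P.conj_eq_normalizer_conj_of_mem (u : G) g⁻¹ u.2 (by
        rw [inv_inv, hg]; exact v.2)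
      rw [inv_inv, hg] at h1
      have h2 : v = φ ⟨n⁻¹, Subgroup.inv_mem _ hn⟩ u := by
        apply Subtype.ext
        rw [hact, h1]; simp
      have h3 := hall ⟨φ ⟨n⁻¹, Subgroup.inv_mem _ hn⟩, ⟨_, rfl⟩⟩
      rcases h3 with h3 | h3 | h3
      · left
        have h4 := congrArg Subtype.val h3
        change φ ⟨n⁻¹, Subgroup.inv_mem _ hn⟩ = 1 at h4
        rw [h2, h4]; rfl
      · right; left
        have h4 := congrArg Subtype.val h3
        change φ ⟨n⁻¹, Subgroup.inv_mem _ hn⟩ = _ at h4
        rw [h2, h4]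
      · right; right
        have h4 := congrArg Subtype.val h3
        change φ ⟨n⁻¹, Subgroup.inv_mem _ hn⟩ = _ at h4
        rw [h2, h4]
        rfl
    · obtain ⟨n, hn⟩ := s.2
      have h1 : ∀ u : ↥(P : Subgroup G), IsConj (u : G)
          (((s : MulAut ↥(P : Subgroup G)) u : ↥(P : Subgroup G)) : G) := by
        intro u
        rw [← hn, hact]
        exact isConj_iff.mpr ⟨n, rfl⟩
      rintro (rfl | rfl | rfl)
      · exact IsConj.refl _
      · exact h1 u
      · exact (h1 u).trans (h1 _)

theorem nReg_conj {p : ℕ} [hp : Fact p.Prime] (x g : G) : nReg p (g * x * g⁻¹) = nReg p x := by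
  classical
  have h := sum_section_conj (p := p) (F := fun _ : G => (1 : ℂ)) (fun _ _ => rfl) x g
  rw [Finset.sum_const, Finset.sum_const, nsmul_eq_mul, nsmul_eq_mul, mul_one, mul_one] at h
  exact_mod_cast h

theorem card_centralizer_conj (x g : G) :
    Nat.card (Subgroup.centralizer ({g * x * g⁻¹} : Set G)) =
      Nat.card (Subgroup.centralizer ({x} : Set G)) := by
  have h4 := card_isConj_mul_card_centralizer x
  have h5 := card_isConj_mul_card_centralizer (g * x * g⁻¹)
  have h0 : IsConj x (g * x * g⁻¹) := isConj_iff.mpr ⟨g, rfl⟩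
  have h6 : Nat.card {y : G // IsConj x y} = Nat.card {y : G // IsConj (g * x * g⁻¹) y} := by
    apply Nat.card_congr
    exact Equiv.subtypeEquivRight fun y => ⟨fun h => h0.symm.trans h, fun h => h0.trans h⟩
  rw [h6] at h4
  have h7 : 0 < Nat.card {y : G // IsConj (g * x * g⁻¹) y} := by
    haveI : Nonempty {y : G // IsConj (g * x * g⁻¹) y} := ⟨⟨_, IsConj.refl _⟩⟩
    exact Nat.card_pos
  exact Nat.eq_of_mul_eq_mul_left h7 (h5.trans h4.symm)

/-- centralizers of elements of an abelian Sylow subgroup, free action: Burnside's theorem -/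
theorem centralizer_complement {p : ℕ} [hp : Fact p.Prime] (P : Sylow p G)
    (hcomm : ∀ a ∈ (P : Subgroup G), ∀ b ∈ (P : Subgroup G), a * b = b * a)
    {z : G} (hz : z ∈ (P : Subgroup G))
    (hfree : Subgroup.centralizer ({z} : Set G) ⊓
      Subgroup.normalizer ((P : Subgroup G) : Set G) =
        Subgroup.centralizer ((P : Subgroup G) : Set G)) :
    ∃ (Q : Sylow p (Subgroup.centralizer ({z} : Set G)))
      (K : Subgroup (Subgroup.centralizer ({z} : Set G))),
      Nat.card (Q : Subgroup (Subgroup.centralizer ({z} : Set G))) = Nat.card (P : Subgroup G) ∧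
      K.Normal ∧ K.IsComplement' (Q : Subgroup (Subgroup.centralizer ({z} : Set G))) ∧
      ¬ p ∣ Nat.card K := by
  have hPC : (P : Subgroup G) ≤ Subgroup.centralizer ({z} : Set G) := by
    intro x hx
    rw [Subgroup.mem_centralizer_singleton_iff]
    exact hcomm x hx z hz
  let Q : Sylow p (Subgroup.centralizer ({z} : Set G)) := P.subtype hPC
  have hQ : (Q : Subgroup (Subgroup.centralizer ({z} : Set G))) =
      (P : Subgroup G).subgroupOf (Subgroup.centralizer ({z} : Set G)) := rfl
  have hNC : Subgroup.normalizer ((Q : Subgroup (Subgroup.centralizer ({z} : Set G))) :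
      Set (Subgroup.centralizer ({z} : Set G))) ≤
      Subgroup.centralizer ((Q : Subgroup (Subgroup.centralizer ({z} : Set G))) :
        Set (Subgroup.centralizer ({z} : Set G))) := by
    intro x hx
    have h1 : (x : G) ∈ Subgroup.normalizer ((P : Subgroup G) : Set G) := by
      rw [Subgroup.mem_normalizer_iff] at hx ⊢
      intro h
      constructor
      · intro hh
        have := (hx ⟨h, hPC hh⟩).mp hh
        exact this
      · intro hh
        have h3 : h ∈ Subgroup.centralizer ({z} : Set G) := by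
          have h4 := hPC hh
          have h5 : h = (x : G)⁻¹ * ((x : G) * h * (x : G)⁻¹) * x := by group
          rw [h5]
          exact Subgroup.mul_mem _ (Subgroup.mul_mem _ (Subgroup.inv_mem _ x.2) h4) x.2
        exact (hx ⟨h, h3⟩).mpr hh
    have h2 : (x : G) ∈ Subgroup.centralizer ((P : Subgroup G) : Set G) := by
      rw [← hfree]; exact ⟨x.2, h1⟩
    rw [Subgroup.mem_centralizer_iff]
    intro y hy
    exact Subtype.ext (Subgroup.mem_centralizer_iff.mp h2 (y : G) hy)
  refine ⟨Q, (MonoidHom.transferSylow Q hNC).ker, ?_, inferInstance,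
    MonoidHom.ker_transferSylow_isComplement' Q hNC,
    MonoidHom.not_dvd_card_ker_transferSylow Q hNC⟩
  rw [hQ]
  exact Nat.card_congr (Subgroup.subgroupOfEquivOfLe hPC).toEquiv

theorem card_filter_regular_of_complement {H : Type v} [Group H] [Fintype H] {p : ℕ}
    [hp : Fact p.Prime] (Q : Sylow p H) (K : Subgroup H) [hK : K.Normal]
    (hc : K.IsComplement' (Q : Subgroup H)) (hKp : ¬ p ∣ Nat.card K) (s : H) :
    ¬ p ∣ orderOf s ↔ s ∈ K := by
  constructor
  · intro hs
    have h1 : K.index = Nat.card (Q : Subgroup H) := hc.symm.index_eq_card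
    obtain ⟨a, ha⟩ := IsPGroup.iff_card.mp Q.isPGroup'
    have h2 : (QuotientGroup.mk s : H ⧸ K) = 1 := by
      have h3 : orderOf (QuotientGroup.mk s : H ⧸ K) ∣ orderOf s :=
        orderOf_map_dvd (QuotientGroup.mk' K) s
      have h4 : orderOf (QuotientGroup.mk s : H ⧸ K) ∣ p ^ a := by
        rw [← ha, ← h1]
        exact orderOf_dvd_natCard _
      have h5 : orderOf (QuotientGroup.mk s : H ⧸ K) = 1 := by
        obtain ⟨b, -, hb⟩ := (Nat.dvd_prime_pow hp.out).mp h4
        rcases Nat.eq_zero_or_pos b with h0 | h0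
        · rw [hb, h0, pow_zero]
        · exfalso
          apply hs
          rw [hb] at h3
          exact (dvd_pow_self p h0.ne').trans h3
      exact orderOf_eq_one_iff.mp h5
    exact (QuotientGroup.eq_one_iff s).mp h2
  · intro hs h
    apply hKp
    have := orderOf_dvd_natCard (⟨s, hs⟩ : K)
    rw [Subgroup.orderOf_mk] at this
    exact h.trans this

/-- the count of regular elements -/
theorem card_mul_nReg {p : ℕ} [hp : Fact p.Prime] (P : Sylow p G)
    (hcomm : ∀ a ∈ (P : Subgroup G), ∀ b ∈ (P : Subgroup G), a * b = b * a)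
    (hfree : ∀ z ∈ (P : Subgroup G), z ≠ 1 → Subgroup.centralizer ({z} : Set G) ⊓
      Subgroup.normalizer ((P : Subgroup G) : Set G) =
        Subgroup.centralizer ((P : Subgroup G) : Set G))
    (v : G) (hv1 : v ≠ 1) (hv : ∃ k : ℕ, orderOf v = p ^ k) :
    Nat.card (P : Subgroup G) * nReg p v = Nat.card (Subgroup.centralizer ({v} : Set G)) := by
  classical
  obtain ⟨x, hx⟩ := exists_conj_mem P (Subgroup.zpowers v) (by
    obtain ⟨k, hk⟩ := hv
    exact IsPGroup.of_card (n := k) (by rw [Nat.card_zpowers, hk]))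
  have hz := hx v (Subgroup.mem_zpowers v)
  rw [← nReg_conj v x, ← card_centralizer_conj v x]
  have hz1 : x * v * x⁻¹ ≠ 1 := by
    intro h
    apply hv1
    have : v = x⁻¹ * (x * v * x⁻¹) * x := by group
    rw [this, h]; group
  generalize x * v * x⁻¹ = z at hz hz1
  obtain ⟨Q, K, h1, hK, hc, hKp⟩ := centralizer_complement P hcomm hz (hfree z hz hz1)
  have h2 : nReg p z = Nat.card K := by
    unfold nReg
    rw [Nat.card_eq_fintype_card, ← Finset.card_univ]
    symm
    refine Finset.card_bij (fun k _ => ((k : Subgroup.centralizer ({z} : Set G)) : G)) ?_ ?_ ?_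
    · intro k _
      rw [Finset.mem_filter]
      refine ⟨Finset.mem_univ _, ?_, ?_⟩
      · rw [BlkC.centralizer_zpowers_eq]; exact (k : Subgroup.centralizer ({z} : Set G)).2
      · have := (card_filter_regular_of_complement Q K hc hKp k).mpr k.2
        rwa [← Subgroup.orderOf_coe] at this
    · intro a _ b _ h
      exact Subtype.ext (Subtype.ext h)
    · intro s hs
      rw [Finset.mem_filter] at hs
      have h3 : s ∈ Subgroup.centralizer ({z} : Set G) := by
        rw [← BlkC.centralizer_zpowers_eq]; exact hs.2.1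
      refine ⟨⟨⟨s, h3⟩, ?_⟩, Finset.mem_univ _, rfl⟩
      rw [← card_filter_regular_of_complement Q K hc hKp, Subgroup.orderOf_mk]
      exact hs.2.2
  rw [h2, ← h1, mul_comm]
  exact hc.card_mul_card

end

end Cfsg.Agent.BlkInd
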