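import Mathlib
import Cfsg.Agent.BlkInd.HomoGrp
import Cfsg.Agent.BlkInd.SecMajor

set_option autoImplicit false
set_option linter.style.haveILetI false
set_option linter.unusedSimpArgs false
set_option linter.unusedSectionVars false
set_option linter.unusedVariables false

/-!
# Orbit sums of linear characters
-/

namespace Cfsg.Agent.BlkInd

open scoped BigOperators ComplexConjugate
open Cfsg Cfsg.Agent.CharBase Cfsg.Agent.Star

universe u v w

section Lin

variable {A : Type u} [Group A] [Fintype A]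

/-- the irreducible character of a linear character with values in the units -/
def linIrr (l : A →* ℂˣ) : IrrCharacter A :=
  ⟨fun u => ((l u : ℂˣ) : ℂ), by
    have := Cfsg.Agent.Char.isIrrCharacter_of_hom ((Units.coeHom ℂ).comp l)
    exact this⟩

theorem linIrr_apply (l : A →* ℂˣ) (u : A) : (linIrr l : A → ℂ) u = (l u : ℂ) := rfl

theorem linIrr_injective : Function.Injective (linIrr : (A →* ℂˣ) → IrrCharacter A) := by
  intro l m h
  ext u
  have := congrFun (congrArg Subtype.val h) u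
  exact this

theorem sum_lin_mul_conj (l m : A →* ℂˣ) [Decidable (l = m)] :
    ∑ u : A, (l u : ℂ) * conj (m u : ℂ) = if l = m then (Nat.card A : ℂ) else 0 := by
  classical
  have h := classInner_irr (linIrr l) (linIrr m)
  unfold classInner at h
  have hA : (Nat.card A : ℂ) ≠ 0 := by exact_mod_cast Nat.card_pos.ne'
  have h1 : ∑ u : A, (l u : ℂ) * conj (m u : ℂ) =
      (Nat.card A : ℂ) * ((Nat.card A : ℂ)⁻¹ * ∑ u : A, (linIrr l : A → ℂ) u *
        conj ((linIrr m : A → ℂ) u)) := by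
    rw [← mul_assoc, mul_inv_cancel₀ hA, one_mul]
    rfl
  rw [h1, h]
  by_cases hlm : l = m
  · rw [if_pos (by rw [hlm]), if_pos hlm, mul_one]
  · rw [if_neg (fun h => hlm (linIrr_injective h)), if_neg hlm, mul_zero]

theorem sum_lin {l : A →* ℂˣ} (hl : l ≠ 1) : ∑ u : A, (l u : ℂ) = 0 := by
  classical
  have := sum_lin_mul_conj l 1
  rw [if_neg hl] at this
  simpa using this

variable (σ : A ≃* A)

/-- orbit sum -/
noncomputable def orbSum (l : A →* ℂˣ) (u : A) : ℂ := (l u : ℂ) + (l (σ u) : ℂ) + (l (σ (σ u)) : ℂ)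

/-- twist -/
def tw (l : A →* ℂˣ) : A →* ℂˣ := l.comp σ.toMonoidHom

theorem tw_apply (l : A →* ℂˣ) (u : A) : tw σ l u = l (σ u) := rfl

variable {σ}

theorem tw_tw_tw (h3 : ∀ u, σ (σ (σ u)) = u) (l : A →* ℂˣ) : tw σ (tw σ (tw σ l)) = l := by
  ext u
  rw [tw_apply, tw_apply, tw_apply, h3]

theorem tw_ne_one {l : A →* ℂˣ} (h3 : ∀ u, σ (σ (σ u)) = u) (hl : l ≠ 1) : tw σ l ≠ 1 := by
  intro h
  apply hl
  rw [← tw_tw_tw h3 l, h]
  rfl

theorem tw_injective (h3 : ∀ u, σ (σ (σ u)) = u) {l m : A →* ℂˣ} (h : tw σ l = tw σ m) : l = m := by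
  rw [← tw_tw_tw h3 l, h, tw_tw_tw h3]

/-- free action on the characters -/
theorem tw_ne_self (hcomm : ∀ a b : A, a * b = b * a) (hfree : ∀ u, u ≠ 1 → σ u ≠ u)
    {l : A →* ℂˣ} (hl : l ≠ 1) : tw σ l ≠ l := by
  intro h
  apply hl
  let φ : A →* A :=
    { toFun := fun u => u⁻¹ * σ u
      map_one' := by simp
      map_mul' := fun a b => by
        rw [map_mul, mul_inv_rev]
        calc b⁻¹ * a⁻¹ * (σ a * σ b) = b⁻¹ * (a⁻¹ * σ a) * σ b := by group
          _ = (a⁻¹ * σ a) * b⁻¹ * σ b := by rw [hcomm b⁻¹]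
          _ = _ := by group }
  have hinj : Function.Injective φ := by
    rw [injective_iff_map_eq_one]
    intro u hu
    by_contra hu1
    exact hfree u hu1 (inv_mul_eq_one.mp hu).symm
  have hsurj := Finite.surjective_of_injective hinj
  ext v
  obtain ⟨u, rfl⟩ := hsurj v
  change ((l (u⁻¹ * σ u) : ℂˣ) : ℂ) = _
  rw [map_mul, map_inv, ← tw_apply, h, inv_mul_cancel]
  rfl

theorem tw_tw_ne_self (hcomm : ∀ a b : A, a * b = b * a) (h3 : ∀ u, σ (σ (σ u)) = u)
    (hfree : ∀ u, u ≠ 1 → σ u ≠ u) {l : A →* ℂˣ} (hl : l ≠ 1) : tw σ (tw σ l) ≠ l := by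
  intro h
  apply tw_ne_self hcomm hfree hl
  rw [← h, tw_tw_tw h3, h]

theorem orbSum_eq (l : A →* ℂˣ) (u : A) :
    orbSum σ l u = (l u : ℂ) + (tw σ l u : ℂ) + (tw σ (tw σ l) u : ℂ) := rfl

theorem orbSum_one (l : A →* ℂˣ) : orbSum σ l 1 = 3 := by
  unfold orbSum
  simp only [map_one, Units.val_one]
  norm_num

theorem orbSum_sigma (h3 : ∀ u, σ (σ (σ u)) = u) (l : A →* ℂˣ) (u : A) :
    orbSum σ l (σ u) = orbSum σ l u := by
  unfold orbSum
  rw [h3]; ring

theorem orbSum_tw (h3 : ∀ u, σ (σ (σ u)) = u) (l : A →* ℂˣ) : orbSum σ (tw σ l) = orbSum σ l := by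
  funext u
  rw [orbSum_eq, orbSum_eq, tw_tw_tw h3]
  ring

theorem sum_orbSum (h3 : ∀ u, σ (σ (σ u)) = u) {l : A →* ℂˣ} (hl : l ≠ 1) :
    ∑ u : A, orbSum σ l u = 0 := by
  have h1 := sum_lin hl
  have h2 := sum_lin (tw_ne_one h3 hl)
  have h4 := sum_lin (tw_ne_one h3 (tw_ne_one h3 hl))
  simp only [orbSum_eq, Finset.sum_add_distrib]
  rw [h1, h2, h4]; ring

theorem sum_conj_orbSum (h3 : ∀ u, σ (σ (σ u)) = u) {l : A →* ℂˣ} (hl : l ≠ 1) :
    ∑ u : A, conj (orbSum σ l u) = 0 := by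
  rw [← map_sum, sum_orbSum h3 hl, map_zero]

theorem sum_orbSum_mul_conj (l m : A →* ℂˣ) [DecidableEq (A →* ℂˣ)] :
    ∑ u : A, orbSum σ l u * conj (orbSum σ m u) = (Nat.card A : ℂ) *
      (((if l = m then 1 else 0) + (if l = tw σ m then 1 else 0) +
        (if l = tw σ (tw σ m) then 1 else 0)) +
       ((if tw σ l = m then 1 else 0) + (if tw σ l = tw σ m then 1 else 0) +
        (if tw σ l = tw σ (tw σ m) then 1 else 0)) +
       ((if tw σ (tw σ l) = m then 1 else 0) + (if tw σ (tw σ l) = tw σ m then 1 else 0) +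
        (if tw σ (tw σ l) = tw σ (tw σ m) then 1 else 0))) := by
  have key : ∀ a b : A →* ℂˣ, ∑ u : A, (a u : ℂ) * conj (b u : ℂ) =
      (Nat.card A : ℂ) * (if a = b then 1 else 0) := by
    intro a b
    rw [sum_lin_mul_conj]
    split_ifs <;> simp
  have h1 : ∀ u : A, orbSum σ l u * conj (orbSum σ m u) =
      (((l u : ℂ) * conj (m u : ℂ) + (l u : ℂ) * conj (tw σ m u : ℂ) +
        (l u : ℂ) * conj (tw σ (tw σ m) u : ℂ)) +
       ((tw σ l u : ℂ) * conj (m u : ℂ) + (tw σ l u : ℂ) * conj (tw σ m u : ℂ) +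
        (tw σ l u : ℂ) * conj (tw σ (tw σ m) u : ℂ))) +
       ((tw σ (tw σ l) u : ℂ) * conj (m u : ℂ) + (tw σ (tw σ l) u : ℂ) * conj (tw σ m u : ℂ) +
        (tw σ (tw σ l) u : ℂ) * conj (tw σ (tw σ m) u : ℂ)) := by
    intro u
    rw [orbSum_eq, orbSum_eq, map_add, map_add]
    ring
  rw [Finset.sum_congr rfl fun u _ => h1 u]
  simp only [Finset.sum_add_distrib, key]
  ring

theorem sum_orbSum_self (hcomm : ∀ a b : A, a * b = b * a) (h3 : ∀ u, σ (σ (σ u)) = u)
    (hfree : ∀ u, u ≠ 1 → σ u ≠ u) {l : A →* ℂˣ} (hl : l ≠ 1) :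
    ∑ u : A, orbSum σ l u * conj (orbSum σ l u) = 3 * (Nat.card A : ℂ) := by
  classical
  have h1 := tw_ne_self hcomm hfree hl
  have h2 := tw_tw_ne_self hcomm h3 hfree hl
  have h4 := tw_ne_self hcomm hfree (tw_ne_one h3 hl)
  rw [sum_orbSum_mul_conj, if_pos rfl, if_neg h1.symm, if_neg h2.symm, if_neg h1, if_pos rfl,
    if_neg h4.symm, if_neg h2, if_neg h4, if_pos rfl]
  ring

theorem sum_orbSum_ne (h3 : ∀ u, σ (σ (σ u)) = u) {l m : A →* ℂˣ}
    (hne : orbSum σ l ≠ orbSum σ m) : ∑ u : A, orbSum σ l u * conj (orbSum σ m u) = 0 := by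
  classical
  have a1 : l ≠ m := fun h => hne (by rw [h])
  have a2 : l ≠ tw σ m := fun h => hne (by rw [h, orbSum_tw h3])
  have a3 : l ≠ tw σ (tw σ m) := fun h => hne (by rw [h, orbSum_tw h3, orbSum_tw h3])
  have a4 : tw σ l ≠ m := fun h => hne (by rw [← h, orbSum_tw h3])
  have a5 : tw σ l ≠ tw σ m := fun h => a1 (tw_injective h3 h)
  have a6 : tw σ l ≠ tw σ (tw σ m) := fun h => a2 (tw_injective h3 h)
  have a7 : tw σ (tw σ l) ≠ m := fun h => hne (by rw [← h, orbSum_tw h3, orbSum_tw h3])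
  have a8 : tw σ (tw σ l) ≠ tw σ m := fun h => a4 (tw_injective h3 h)
  have a9 : tw σ (tw σ l) ≠ tw σ (tw σ m) := fun h => a5 (tw_injective h3 h)
  rw [sum_orbSum_mul_conj, if_neg a1, if_neg a2, if_neg a3, if_neg a4, if_neg a5, if_neg a6,
    if_neg a7, if_neg a8, if_neg a9]
  ring

/-- the fibres of the orbit sum -/
theorem orbSum_eq_iff (hcomm : ∀ a b : A, a * b = b * a) (h3 : ∀ u, σ (σ (σ u)) = u)
    (hfree : ∀ u, u ≠ 1 → σ u ≠ u) {l m : A →* ℂˣ} (hl : l ≠ 1) :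
    orbSum σ m = orbSum σ l ↔ m = l ∨ m = tw σ l ∨ m = tw σ (tw σ l) := by
  classical
  constructor
  · intro h
    by_contra hne
    push Not at hne
    obtain ⟨a1, a2, a3⟩ := hne
    have a4 : tw σ m ≠ l := fun h => a3 (by rw [← h, tw_tw_tw h3])
    have a5 : tw σ m ≠ tw σ l := fun h => a1 (tw_injective h3 h)
    have a6 : tw σ m ≠ tw σ (tw σ l) := fun h => a2 (tw_injective h3 h)
    have a7 : tw σ (tw σ m) ≠ l := fun h => a2 (by rw [← h, tw_tw_tw h3])
    have a8 : tw σ (tw σ m) ≠ tw σ l := fun h => a4 (tw_injective h3 h)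
    have a9 : tw σ (tw σ m) ≠ tw σ (tw σ l) := fun h => a5 (tw_injective h3 h)
    have h1 := sum_orbSum_mul_conj (σ := σ) m l
    rw [if_neg a1, if_neg a2, if_neg a3, if_neg a4, if_neg a5, if_neg a6,
      if_neg a7, if_neg a8, if_neg a9, h, sum_orbSum_self hcomm h3 hfree hl] at h1
    have hA : (Nat.card A : ℂ) ≠ 0 := by exact_mod_cast Nat.card_pos.ne'
    apply hA
    linear_combination h1 / 3
  · rintro (rfl | rfl | rfl)
    · rfl
    · exact orbSum_tw h3 l
    · rw [orbSum_tw h3, orbSum_tw h3]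

/-- the orbit function `orbSum - 3` is a generalized character -/
theorem orbSum_sub_gen (l : A →* ℂˣ) : IsGeneralizedCharacter A (fun u => orbSum σ l u - 3) := by
  have h1 : ∀ m : A →* ℂˣ, IsGeneralizedCharacter A (fun u => (m u : ℂ)) := fun m =>
    Cfsg.Agent.Char.BI.isGeneralizedCharacter_of_isCharacter (isCharacter_of_isIrr (linIrr m).2)
  have h2 := Cfsg.Agent.Char.BI.isGeneralizedCharacter_add
    (Cfsg.Agent.Char.BI.isGeneralizedCharacter_add (h1 l) (h1 (tw σ l))) (h1 (tw σ (tw σ l)))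
  have h3 := Cfsg.Agent.Char.BI.isGeneralizedCharacter_neg
    (Cfsg.Agent.Char.BI.isGeneralizedCharacter_add
      (Cfsg.Agent.Char.BI.isGeneralizedCharacter_add (h1 1) (h1 1)) (h1 1))
  have h4 := Cfsg.Agent.Char.BI.isGeneralizedCharacter_add h2 h3
  convert h4 using 1
  funext u
  simp only [Pi.add_apply, Pi.neg_apply, MonoidHom.one_apply, Units.val_one]
  rw [orbSum_eq]
  ring

end Lin

end Cfsg.Agent.BlkInd
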