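import Mathlib
import Cfsg.Agent.BlkInd.HomoChar
import Cfsg.Agent.Star.Irr

set_option autoImplicit false
set_option linter.style.haveILetI false
set_option linter.unusedSimpArgs false
set_option linter.unusedSectionVars false
set_option linter.unusedVariables false

/-!
# Generalized characters from orbit sums of linear characters of an abelian Sylow subgroup
-/

namespace Cfsg.Agent.BlkInd

open scoped BigOperators ComplexConjugate
open Cfsg Cfsg.Agent.CharBase Cfsg.Agent.Blk Cfsg.Agent.BlkC Cfsg.Agent.Star MonoidAlgebra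

universe u v w

section Sec

variable {G : Type u} [Group G] [Fintype G] {M : Ideal AlgInt} [hMp : M.IsPrime] {p : ℕ}
  [hp : Fact p.Prime]

/-- the constituents of a generalized character which only depends on the `p`-part lie in the
principal block -/
theorem classInner_section_eq_zero (hM : IsPModular p M) {F : G → ℂ}
    (hF : IsGeneralizedCharacter G F) (hFc : IsClassFunction G F) (hsec : ∀ g, F (pp p g) = F g)
    {ψ : IrrCharacter G} (hψ : ψ ∉ principalBlock M G) : classInner F (ψ : G → ℂ) = 0 := by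
  have hw : IsWt p (fun (v : G) (_ : MonoidAlgebra (kM M) G) => F v) :=
    ⟨fun x v f => hFc v x, fun Q g hQ => ⟨fun v => F (v : G),
      isGeneralizedCharacter_comp hF Q.subtype, fun v f _ => rfl⟩⟩
  have h1 : wstar p (fun (v : G) (_ : MonoidAlgebra (kM M) G) => F v) (oneIrr G : G → ℂ) = F := by
    funext g
    have h2 := congrFun (wstar_one (p := p) (M := M) (irr_isClassFunction (oneIrr G))) g
    unfold wstar at h2 ⊢
    simp only [one_mul] at h2
    rw [← Finset.mul_sum, h2, oneIrr_apply, mul_one, hsec]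
  rw [← h1]
  exact classInner_wstar_eq_zero hM isPBlock_principalBlock hw oneIrr_mem_principalBlock hψ

end Sec

section Free

variable {G : Type u} [Group G] [Fintype G] {p : ℕ} [hp : Fact p.Prime] {P : Sylow p G}
  {σ : ↥(P : Subgroup G) ≃* ↥(P : Subgroup G)}

/-- abelian Sylow subgroup whose fusion is given by a fixed point free automorphism of order 3 -/
structure FreeThree (P : Sylow p G) (σ : ↥(P : Subgroup G) ≃* ↥(P : Subgroup G)) : Prop where
  comm : ∀ a b : ↥(P : Subgroup G), a * b = b * a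
  cube : ∀ u, σ (σ (σ u)) = u
  free : ∀ u, u ≠ 1 → σ u ≠ u
  fus : ∀ u v : ↥(P : Subgroup G), IsConj (u : G) (v : G) ↔ v = u ∨ v = σ u ∨ v = σ (σ u)
  reg : ∀ v : G, v ≠ 1 → (∃ k : ℕ, orderOf v = p ^ k) →
    Nat.card (P : Subgroup G) * nReg p v = Nat.card (Subgroup.centralizer ({v} : Set G))

theorem exists_freeThree (P : Sylow p G)
    (hcomm : ∀ a ∈ (P : Subgroup G), ∀ b ∈ (P : Subgroup G), a * b = b * a)
    (h3 : (Subgroup.centralizer ((P : Subgroup G) : Set G)).relIndex
      (Subgroup.normalizer ((P : Subgroup G) : Set G)) = 3)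
    (hfree : ∀ z ∈ (P : Subgroup G), z ≠ 1 → Subgroup.centralizer ({z} : Set G) ⊓
      Subgroup.normalizer ((P : Subgroup G) : Set G) =
        Subgroup.centralizer ((P : Subgroup G) : Set G)) : ∃ σ, FreeThree P σ := by
  obtain ⟨σ, h1, h2, h4⟩ := exists_sigma P hcomm h3 hfree
  exact ⟨σ, ⟨fun a b => Subtype.ext (hcomm a a.2 b b.2), h1, h2, h4,
    card_mul_nReg P hcomm hfree⟩⟩

variable (h : FreeThree P σ)

include h

theorem FreeThree.fusInv (l : ↥(P : Subgroup G) →* ℂˣ) : FusInv P (orbSum σ l) := by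
  haveI := Fintype.ofFinite ↥(P : Subgroup G)
  intro u v huv
  rcases (h.fus u v).mp huv with rfl | rfl | rfl
  · rfl
  · rw [orbSum_sigma h.cube]
  · rw [orbSum_sigma h.cube, orbSum_sigma h.cube]

theorem FreeThree.fusInv' (l : ↥(P : Subgroup G) →* ℂˣ) :
    FusInv P (fun u => orbSum σ l u - 3) := by
  intro u v huv
  change orbSum σ l u - 3 = orbSum σ l v - 3
  rw [h.fusInv l u v huv]

omit h in
variable (σ) in
/-- the generalized character of an orbit -/
noncomputable def fF (P : Sylow p G) (σ : ↥(P : Subgroup G) ≃* ↥(P : Subgroup G))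
    (l : ↥(P : Subgroup G) →* ℂˣ) : G → ℂ := pFn P (fun u => orbSum σ l u - 3)

theorem FreeThree.card_fibre [Fintype (P : Subgroup G)] {v : G} (hv1 : v ≠ 1)
    (hv : ∃ k : ℕ, orderOf v = p ^ k) [DecidablePred fun u : ↥(P : Subgroup G) => IsConj (u : G) v] :
    (Finset.univ.filter (fun u : ↥(P : Subgroup G) => IsConj (u : G) v)).card = 3 := by
  classical
  obtain ⟨x, hx⟩ := exists_conj_mem P (Subgroup.zpowers v) (by
    obtain ⟨k, hk⟩ := hv
    exact IsPGroup.of_card (n := k) (by rw [Nat.card_zpowers, hk]))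
  have hz := hx v (Subgroup.mem_zpowers v)
  set w : ↥(P : Subgroup G) := ⟨x * v * x⁻¹, hz⟩ with hw
  have hw1 : w ≠ 1 := by
    intro h0
    apply hv1
    have h2 : x * v * x⁻¹ = 1 := congrArg Subtype.val h0
    have : v = x⁻¹ * (x * v * x⁻¹) * x := by group
    rw [this, h2]; group
  have hvw : IsConj v (w : G) := isConj_iff.mpr ⟨x, rfl⟩
  have h1 : Finset.univ.filter (fun u : ↥(P : Subgroup G) => IsConj (u : G) v) =
      {w, σ w, σ (σ w)} := by
    ext u
    simp only [Finset.mem_filter, Finset.mem_univ, true_and, Finset.mem_insert,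
      Finset.mem_singleton]
    rw [← h.fus w u]
    exact ⟨fun h2 => (h2.trans hvw).symm, fun h2 => h2.symm.trans hvw.symm⟩
  have h2 : σ w ≠ 1 := fun h0 => hw1 (by simpa using h0)
  have a1 : w ≠ σ w := (h.free w hw1).symm
  have a2 : σ w ≠ σ (σ w) := (h.free _ h2).symm
  have a3 : w ≠ σ (σ w) := by
    intro h0
    have := congrArg σ h0
    rw [h.cube] at this
    exact a1 this.symm
  rw [h1, Finset.card_insert_of_notMem, Finset.card_insert_of_notMem, Finset.card_singleton]
  · simpa using a2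
  · simp only [Finset.mem_insert, Finset.mem_singleton, not_or]
    exact ⟨a1, a3⟩

theorem FreeThree.classInner_eq [Fintype (P : Subgroup G)] {F E : ↥(P : Subgroup G) → ℂ}
    (hF : FusInv P F) (hE : FusInv P E) (h1 : F 1 = 0) :
    classInner (pFn P F) (pFn P E) =
      (3 * (Nat.card (P : Subgroup G) : ℂ))⁻¹ * ∑ u : ↥(P : Subgroup G), F u * conj (E u) := by
  classical
  have h2 : FusInv P (fun u => F u * conj (E u)) := by
    intro u v huv
    change F u * conj (E u) = F v * conj (E v)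
    rw [hF u v huv, hE u v huv]
  have h3 := sum_pFn (P := P) h2 (by change F 1 * conj (E 1) = 0; rw [h1, zero_mul]) h.reg
    (r := 3) (fun v hv1 hv => h.card_fibre hv1 hv)
  have h4 : ∀ g : G, pFn P (fun u => F u * conj (E u)) g = pFn P F g * conj (pFn P E g) :=
    fun g => rfl
  simp only [h4] at h3
  have hG : (Nat.card G : ℂ) ≠ 0 := by exact_mod_cast Nat.card_pos.ne'
  have hP : (Nat.card (P : Subgroup G) : ℂ) ≠ 0 := by exact_mod_cast Nat.card_pos.ne'
  unfold classInner
  have h5 : ∑ g : G, pFn P F g * conj (pFn P E g) = (3 * (Nat.card (P : Subgroup G) : ℂ))⁻¹ *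
      ((Nat.card G : ℂ) * ∑ u : ↥(P : Subgroup G), F u * conj (E u)) := by
    rw [h3]
    push_cast
    rw [← mul_assoc, inv_mul_cancel₀ (mul_ne_zero (by norm_num) hP), one_mul]
  rw [h5]
  field_simp

omit h in
theorem pFn_one_fun : pFn P (fun _ => (1 : ℂ)) = (fun _ => 1 : G → ℂ) := rfl

theorem FreeThree.classInner_fF_one {l : ↥(P : Subgroup G) →* ℂˣ} (hl : l ≠ 1) :
    classInner (fF P σ l) (oneIrr G : G → ℂ) = -1 := by
  classical
  haveI := Fintype.ofFinite (P : Subgroup G)
  have h1 : FusInv P (fun _ => (1 : ℂ)) := fun _ _ _ => rfl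
  have h2 := h.classInner_eq (h.fusInv' l) h1 (by
    change orbSum σ l 1 - 3 = 0
    rw [orbSum_one]; ring)
  have h3 : (oneIrr G : G → ℂ) = pFn P (fun _ => (1 : ℂ)) := rfl
  rw [h3]
  unfold fF
  rw [h2]
  have hP : (Nat.card (P : Subgroup G) : ℂ) ≠ 0 := by exact_mod_cast Nat.card_pos.ne'
  have h4 : ∑ u : ↥(P : Subgroup G), (orbSum σ l u - 3) * conj (1 : ℂ) =
      -3 * (Nat.card (P : Subgroup G) : ℂ) := by
    simp only [map_one, mul_one]
    rw [Finset.sum_sub_distrib, sum_orbSum h.cube hl, Finset.sum_const, Finset.card_univ,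
      nsmul_eq_mul, Nat.card_eq_fintype_card]
    ring
  rw [h4]
  field_simp

theorem FreeThree.sum_aux [Fintype (P : Subgroup G)] {l m : ↥(P : Subgroup G) →* ℂˣ}
    (hl : l ≠ 1) (hm : m ≠ 1) :
    ∑ u : ↥(P : Subgroup G), (orbSum σ l u - 3) * conj (orbSum σ m u - 3) =
      ∑ u : ↥(P : Subgroup G), orbSum σ l u * conj (orbSum σ m u) +
        9 * (Nat.card (P : Subgroup G) : ℂ) := by
  have h1 : ∀ u : ↥(P : Subgroup G), (orbSum σ l u - 3) * conj (orbSum σ m u - 3) =
      orbSum σ l u * conj (orbSum σ m u) - 3 * orbSum σ l u - 3 * conj (orbSum σ m u) + 9 := by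
    intro u
    have h3 : conj (3 : ℂ) = 3 := Complex.conj_ofNat 3
    rw [map_sub, h3]
    ring
  rw [Finset.sum_congr rfl fun u _ => h1 u, Finset.sum_add_distrib, Finset.sum_sub_distrib,
    Finset.sum_sub_distrib, ← Finset.mul_sum, ← Finset.mul_sum, sum_orbSum h.cube hl,
    sum_conj_orbSum h.cube hm, Finset.sum_const, Finset.card_univ, nsmul_eq_mul,
    Nat.card_eq_fintype_card]
  ring

theorem FreeThree.classInner_fF_self {l : ↥(P : Subgroup G) →* ℂˣ} (hl : l ≠ 1) :
    classInner (fF P σ l) (fF P σ l) = 4 := by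
  classical
  haveI := Fintype.ofFinite (P : Subgroup G)
  unfold fF
  rw [h.classInner_eq (h.fusInv' l) (h.fusInv' l) (by
    change orbSum σ l 1 - 3 = 0
    rw [orbSum_one]; ring), h.sum_aux hl hl, sum_orbSum_self h.comm h.cube h.free hl]
  have hP : (Nat.card (P : Subgroup G) : ℂ) ≠ 0 := by exact_mod_cast Nat.card_pos.ne'
  field_simp
  ring

theorem FreeThree.classInner_fF_ne {l m : ↥(P : Subgroup G) →* ℂˣ} (hl : l ≠ 1) (hm : m ≠ 1)
    (hne : orbSum σ l ≠ orbSum σ m) : classInner (fF P σ l) (fF P σ m) = 3 := by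
  classical
  haveI := Fintype.ofFinite (P : Subgroup G)
  unfold fF
  rw [h.classInner_eq (h.fusInv' l) (h.fusInv' m) (by
    change orbSum σ l 1 - 3 = 0
    rw [orbSum_one]; ring), h.sum_aux hl hm, sum_orbSum_ne h.cube hne]
  have hP : (Nat.card (P : Subgroup G) : ℂ) ≠ 0 := by exact_mod_cast Nat.card_pos.ne'
  field_simp
  ring

theorem FreeThree.fF_gen (l : ↥(P : Subgroup G) →* ℂˣ) :
    IsGeneralizedCharacter G (fF P σ l) := by
  classical
  haveI := Fintype.ofFinite (P : Subgroup G)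
  exact pFn_gen (h.fusInv' l) (orbSum_sub_gen l)

theorem FreeThree.fF_class (l : ↥(P : Subgroup G) →* ℂˣ) : IsClassFunction G (fF P σ l) :=
  pFn_class (h.fusInv' l)

theorem FreeThree.fF_one (l : ↥(P : Subgroup G) →* ℂˣ) : fF P σ l 1 = 0 := by
  haveI := Fintype.ofFinite ↥(P : Subgroup G)
  unfold fF
  have := pFn_coe (h.fusInv' l) 1
  rw [Subgroup.coe_one] at this
  rw [this, orbSum_one]; ring

theorem FreeThree.fF_conj (l : ↥(P : Subgroup G) →* ℂˣ) {g : G} {u : ↥(P : Subgroup G)}
    (hg : IsConj (ppart p g) (u : G)) : fF P σ l g = orbSum σ l u - 3 :=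
  pFn_eq (h.fusInv' l) hg

theorem FreeThree.fF_pp (l : ↥(P : Subgroup G) →* ℂˣ) (g : G) :
    fF P σ l (pp p g) = fF P σ l g := by
  apply pFn_congr (h.fusInv' l)
  have h1 : ppart p g = pp p g := ppart_eq (isPPart_pp p g)
  rw [h1]
  have h2 : ppart p (pp p g) = pp p g := by
    obtain ⟨s, h1, h2, h3, h4⟩ := isPPart_pp p g
    exact ppart_of_pow h3
  rw [h2]

theorem FreeThree.classInner_fF_notMem {M : Ideal AlgInt} [hMp : M.IsPrime]
    (hM : IsPModular p M) (l : ↥(P : Subgroup G) →* ℂˣ) {ψ : IrrCharacter G}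
    (hψ : ψ ∉ principalBlock M G) : classInner (fF P σ l) (ψ : G → ℂ) = 0 :=
  classInner_section_eq_zero hM (h.fF_gen l) (h.fF_class l) (h.fF_pp l) hψ

end Free

end Cfsg.Agent.BlkInd
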