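import Mathlib

set_option autoImplicit false
set_option linter.style.haveILetI false
set_option linter.unusedSimpArgs false
set_option linter.unusedSectionVars false
set_option linter.unusedVariables false

/-!
# Families of 3-sets pairwise meeting in 2 points, and families of vectors of norm 4
-/

namespace Cfsg.Agent.BlkInd

open scoped BigOperators

universe u v w

theorem sunflower {α : Type u} {ι : Type v} [DecidableEq α] [DecidableEq ι] (s : Finset ι)
    (X : ι → Finset α) (h3 : ∀ i ∈ s, (X i).card = 3)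
    (h2 : ∀ i ∈ s, ∀ j ∈ s, i ≠ j → (X i ∩ X j).card = 2) (h5 : 5 ≤ s.card) :
    ∃ S : Finset α, S.card = 2 ∧ ∀ i ∈ s, S ⊆ X i := by
  obtain ⟨i0, hi0, i1, hi1, h01⟩ := Finset.one_lt_card.mp (lt_of_lt_of_le (by norm_num) h5)
  refine ⟨X i0 ∩ X i1, h2 i0 hi0 i1 hi1 h01, ?_⟩
  by_contra hcon
  push Not at hcon
  obtain ⟨i2, hi2, hi2'⟩ := hcon
  have h20 : i2 ≠ i0 := by rintro rfl; exact hi2' Finset.inter_subset_left
  have h21 : i2 ≠ i1 := by rintro rfl; exact hi2' Finset.inter_subset_right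
  have hS := h2 i0 hi0 i1 hi1 h01
  have hU : (X i0 ∪ X i1).card = 4 := by
    have := Finset.card_union_add_card_inter (X i0) (X i1)
    rw [h3 i0 hi0, h3 i1 hi1, hS] at this
    omega
  -- counts
  have hcount : ∀ i ∈ s, i ≠ i0 → i ≠ i1 →
      (X i ∩ (X i0 ∪ X i1)).card + (X i ∩ (X i0 ∩ X i1)).card = 4 := by
    intro i hi hn0 hn1
    have e1 : X i ∩ (X i0 ∪ X i1) = (X i ∩ X i0) ∪ (X i ∩ X i1) := Finset.inter_union_distrib_left ..
    have e2 : X i ∩ (X i0 ∩ X i1) = (X i ∩ X i0) ∩ (X i ∩ X i1) := by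
      ext x; simp only [Finset.mem_inter]; tauto
    rw [e1, e2, Finset.card_union_add_card_inter, h2 i hi i0 hi0 hn0, h2 i hi i1 hi1 hn1]
  have hlt : (X i2 ∩ (X i0 ∩ X i1)).card < 2 := by
    by_contra hge
    push Not at hge
    apply hi2'
    have h1 : X i2 ∩ (X i0 ∩ X i1) = X i0 ∩ X i1 :=
      Finset.eq_of_subset_of_card_le Finset.inter_subset_right (by rw [hS]; exact hge)
    rw [← h1]
    exact Finset.inter_subset_left
  have hX2 : X i2 ⊆ X i0 ∪ X i1 := by
    have h1 := hcount i2 hi2 h20 h21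
    have h4 : X i2 ∩ (X i0 ∪ X i1) = X i2 :=
      Finset.eq_of_subset_of_card_le Finset.inter_subset_left (by rw [h3 i2 hi2]; omega)
    rw [← h4]
    exact Finset.inter_subset_right
  have hall : ∀ i ∈ s, X i ⊆ X i0 ∪ X i1 := by
    intro i hi
    by_cases hn0 : i = i0
    · rw [hn0]; exact Finset.subset_union_left
    by_cases hn1 : i = i1
    · rw [hn1]; exact Finset.subset_union_right
    by_cases hn2 : i = i2
    · rw [hn2]; exact hX2
    by_contra hnot
    have h1 := hcount i hi hn0 hn1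
    have h4 : (X i ∩ (X i0 ∪ X i1)).card < 3 := by
      by_contra hge
      push Not at hge
      apply hnot
      have h5 : X i ∩ (X i0 ∪ X i1) = X i :=
        Finset.eq_of_subset_of_card_le Finset.inter_subset_left (by rw [h3 i hi]; exact hge)
      rw [← h5]
      exact Finset.inter_subset_right
    have h6 : (X i ∩ (X i0 ∩ X i1)).card ≤ 2 := by
      rw [← hS]; exact Finset.card_le_card Finset.inter_subset_right
    have h7 : X i ∩ (X i0 ∩ X i1) = X i ∩ (X i0 ∪ X i1) := by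
      apply Finset.eq_of_subset_of_card_le
      · intro x hx
        simp only [Finset.mem_inter, Finset.mem_union] at hx ⊢
        tauto
      · omega
    have h8 : X i ∩ X i2 ⊆ X i2 ∩ (X i0 ∩ X i1) := by
      intro x hx
      rw [Finset.mem_inter] at hx
      have h9 : x ∈ X i ∩ (X i0 ∪ X i1) := Finset.mem_inter.mpr ⟨hx.1, hX2 hx.2⟩
      rw [← h7, Finset.mem_inter] at h9
      exact Finset.mem_inter.mpr ⟨hx.2, h9.2⟩
    have h10 := Finset.card_le_card h8
    rw [h2 i hi i2 hi2 hn2] at h10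
    omega
  have hinj : Set.InjOn X s := by
    intro i hi j hj hij
    by_contra hne
    have h1 := h2 i hi j hj hne
    rw [hij, Finset.inter_self, h3 j hj] at h1
    omega
  have h6 : (s.image X).card ≤ ((X i0 ∪ X i1).powersetCard 3).card := by
    apply Finset.card_le_card
    intro Y hY
    rw [Finset.mem_image] at hY
    obtain ⟨i, hi, rfl⟩ := hY
    rw [Finset.mem_powersetCard]
    exact ⟨hall i hi, h3 i hi⟩
  rw [Finset.card_image_of_injOn hinj, Finset.card_powersetCard, hU] at h6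
  have : Nat.choose 4 3 = 4 := by decide
  omega

section Vec

variable {κ : Type u} [Fintype κ] [DecidableEq κ] {ι : Type v} [DecidableEq ι]

theorem norm_three (c : κ → ℤ) (k0 : κ) (h0 : c k0 = -1) (h : ∑ k, c k * c k = 4) :
    (∀ k, c k = 0 ∨ c k = 1 ∨ c k = -1) ∧
      (Finset.univ.filter (fun k => k ≠ k0 ∧ c k ≠ 0)).card = 3 := by
  have h1 : ∑ k ∈ Finset.univ.erase k0, c k * c k = 3 := by
    rw [← Finset.add_sum_erase Finset.univ _ (Finset.mem_univ k0), h0] at h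
    linarith
  have h2 : ∀ k, c k = 0 ∨ c k = 1 ∨ c k = -1 := by
    intro k
    by_cases hk : k = k0
    · right; right; rw [hk, h0]
    · have h4 : c k * c k ≤ 3 := by
        rw [← h1]
        exact Finset.single_le_sum (f := fun k => c k * c k) (fun i _ => mul_self_nonneg (c i))
          (Finset.mem_erase.mpr ⟨hk, Finset.mem_univ _⟩)
      have h5 : -2 < c k := by nlinarith
      have h6 : c k < 2 := by nlinarith
      omega
  refine ⟨h2, ?_⟩
  have h3 : ∑ k ∈ Finset.univ.erase k0, c k * c k =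
      ∑ k ∈ Finset.univ.erase k0, if c k ≠ 0 then (1 : ℤ) else 0 := by
    refine Finset.sum_congr rfl fun k _ => ?_
    rcases h2 k with h | h | h <;> simp [h]
  rw [h3, ← Finset.sum_filter, Finset.sum_const, nsmul_eq_mul, mul_one] at h1
  have h4 : Finset.univ.filter (fun k => k ≠ k0 ∧ c k ≠ 0) =
      (Finset.univ.erase k0).filter (fun k => c k ≠ 0) := by
    ext k
    simp
  rw [h4]
  exact_mod_cast h1

theorem inner_two (c d : κ → ℤ) (k0 : κ) (hc0 : c k0 = -1) (hd0 : d k0 = -1)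
    (hc : ∑ k, c k * c k = 4) (hd : ∑ k, d k * d k = 4) (hcd : ∑ k, c k * d k = 3) :
    (Finset.univ.filter (fun k => k ≠ k0 ∧ c k ≠ 0 ∧ c k = d k)).card = 2 := by
  obtain ⟨h1, h2⟩ := norm_three c k0 hc0 hc
  obtain ⟨h3, h4⟩ := norm_three d k0 hd0 hd
  have h5 : ∑ k ∈ Finset.univ.erase k0, c k * d k = 2 := by
    rw [← Finset.add_sum_erase Finset.univ _ (Finset.mem_univ k0), hc0, hd0] at hcd
    linarith
  have h6 : ∑ k ∈ Finset.univ.erase k0, c k * d k =
      ∑ k ∈ Finset.univ.erase k0, ((if c k ≠ 0 ∧ c k = d k then (1 : ℤ) else 0) -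
        (if c k ≠ 0 ∧ c k = - d k then (1 : ℤ) else 0)) := by
    refine Finset.sum_congr rfl fun k _ => ?_
    rcases h1 k with h | h | h <;> rcases h3 k with h' | h' | h' <;> simp [h, h']
  rw [h6, Finset.sum_sub_distrib, ← Finset.sum_filter, ← Finset.sum_filter, Finset.sum_const,
    Finset.sum_const, nsmul_eq_mul, nsmul_eq_mul, mul_one, mul_one] at h5
  have h7 : Finset.univ.filter (fun k => k ≠ k0 ∧ c k ≠ 0 ∧ c k = d k) =
      (Finset.univ.erase k0).filter (fun k => c k ≠ 0 ∧ c k = d k) := by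
    ext k; simp
  have h8 : Finset.univ.filter (fun k => k ≠ k0 ∧ c k ≠ 0) =
      (Finset.univ.erase k0).filter (fun k => c k ≠ 0) := by
    ext k; simp
  rw [h7]
  rw [h8] at h2
  have h9 : ((Finset.univ.erase k0).filter (fun k => c k ≠ 0 ∧ c k = d k)).card +
      ((Finset.univ.erase k0).filter (fun k => c k ≠ 0 ∧ c k = - d k)).card ≤ 3 := by
    rw [← h2, ← Finset.card_union_of_disjoint]
    · apply Finset.card_le_card
      intro k hk
      rw [Finset.mem_union, Finset.mem_filter, Finset.mem_filter] at hk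
      rw [Finset.mem_filter]
      rcases hk with ⟨h, h', -⟩ | ⟨h, h', -⟩ <;> exact ⟨h, h'⟩
    · rw [Finset.disjoint_left]
      intro k hk hk'
      rw [Finset.mem_filter] at hk hk'
      obtain ⟨-, a, b⟩ := hk
      obtain ⟨-, -, b'⟩ := hk'
      omega
  omega

/-- a family of at least five integral vectors of norm 4 with mutual inner products 3, all with
the same coordinate `-1`: they agree except for one coordinate -/
theorem exists_common (s : Finset ι) (a : ι → κ → ℤ) (k0 : κ) (h0 : ∀ i ∈ s, a i k0 = -1)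
    (h4 : ∀ i ∈ s, ∑ k, a i k * a i k = 4)
    (h3 : ∀ i ∈ s, ∀ j ∈ s, i ≠ j → ∑ k, a i k * a j k = 3) (h5 : 5 ≤ s.card) :
    ∃ (k1 k2 : κ) (d1 d2 : ℤ) (K : ι → κ) (ε : ι → ℤ), k1 ≠ k0 ∧ k2 ≠ k0 ∧ k1 ≠ k2 ∧
      (d1 = 1 ∨ d1 = -1) ∧ (d2 = 1 ∨ d2 = -1) ∧
      ∀ i ∈ s, (ε i = 1 ∨ ε i = -1) ∧ K i ≠ k0 ∧ K i ≠ k1 ∧ K i ≠ k2 ∧
        (∀ j ∈ s, i ≠ j → K i ≠ K j) ∧
        ∀ f : κ → ℂ, ∑ k, (a i k : ℂ) * f k =
          - f k0 + (d1 : ℂ) * f k1 + (d2 : ℂ) * f k2 + (ε i : ℂ) * f (K i) := by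
  classical
  let T : ι → Finset κ := fun i => Finset.univ.filter (fun k => k ≠ k0 ∧ a i k ≠ 0)
  let X : ι → Finset (κ × ℤ) := fun i => (T i).image (fun k => (k, a i k))
  have hinj : ∀ i, Function.Injective (fun k => (k, a i k)) := fun i k k' h =>
    congrArg Prod.fst h
  have hX3 : ∀ i ∈ s, (X i).card = 3 := by
    intro i hi
    rw [Finset.card_image_of_injective _ (hinj i)]
    exact (norm_three (a i) k0 (h0 i hi) (h4 i hi)).2
  have hX2 : ∀ i ∈ s, ∀ j ∈ s, i ≠ j → (X i ∩ X j).card = 2 := by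
    intro i hi j hj hij
    rw [← inner_two (a i) (a j) k0 (h0 i hi) (h0 j hj) (h4 i hi) (h4 j hj) (h3 i hi j hj hij),
      ← Finset.card_image_of_injective _ (hinj i)]
    congr 1
    ext ⟨k, c⟩
    simp only [X, T, Finset.mem_inter, Finset.mem_image, Finset.mem_filter, Finset.mem_univ,
      true_and, Prod.mk.injEq]
    constructor
    · rintro ⟨⟨k', ⟨h1, h2⟩, rfl, rfl⟩, ⟨k'', ⟨h3, h4⟩, rfl, h5⟩⟩
      exact ⟨k'', ⟨h1, h2, h5.symm⟩, rfl, rfl⟩
    · rintro ⟨k', ⟨h1, h2, h3⟩, rfl, rfl⟩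
      exact ⟨⟨k', ⟨h1, h2⟩, rfl, rfl⟩, ⟨k', ⟨h1, by rw [← h3]; exact h2⟩, rfl, h3.symm⟩⟩
  obtain ⟨S, hS, hSX⟩ := sunflower s X hX3 hX2 h5
  obtain ⟨⟨k1, d1⟩, ⟨k2, d2⟩, hne, rfl⟩ := Finset.card_eq_two.mp hS
  -- membership
  have hmem : ∀ i ∈ s, ∀ k d, (k, d) ∈ X i → k ≠ k0 ∧ a i k = d ∧ (d = 1 ∨ d = -1) := by
    intro i hi k d hkd
    simp only [X, T, Finset.mem_image, Finset.mem_filter, Finset.mem_univ, true_and,
      Prod.mk.injEq] at hkd
    obtain ⟨k', ⟨h1, h2⟩, rfl, rfl⟩ := hkd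
    refine ⟨h1, rfl, ?_⟩
    rcases (norm_three (a i) k0 (h0 i hi) (h4 i hi)).1 k' with h | h | h
    · exact absurd h h2
    · exact Or.inl h
    · exact Or.inr h
  have hex : ∀ i ∈ s, ∃ x : κ × ℤ, x ∉ ({(k1, d1), (k2, d2)} : Finset (κ × ℤ)) ∧
      X i = insert x {(k1, d1), (k2, d2)} := by
    intro i hi
    have h6 : (X i \ {(k1, d1), (k2, d2)}).card = 1 := by
      rw [Finset.card_sdiff_of_subset (hSX i hi), hX3 i hi, hS]
    obtain ⟨x, hx⟩ := Finset.card_eq_one.mp h6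
    refine ⟨x, ?_, ?_⟩
    · have : x ∈ X i \ {(k1, d1), (k2, d2)} := by rw [hx]; exact Finset.mem_singleton_self x
      exact (Finset.mem_sdiff.mp this).2
    · rw [Finset.insert_eq, ← hx, Finset.sdiff_union_of_subset (hSX i hi)]
  obtain ⟨i0, hi0⟩ := Finset.card_pos.mp (lt_of_lt_of_le (by norm_num : 0 < 5) h5)
  have m1 : ∀ i ∈ s, (k1, d1) ∈ X i := fun i hi => hSX i hi (by simp)
  have m2 : ∀ i ∈ s, (k2, d2) ∈ X i := fun i hi => hSX i hi (by simp)
  have hk12 : k1 ≠ k2 := by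
    rintro rfl
    have e1 := (hmem i0 hi0 _ _ (m1 i0 hi0)).2.1
    have e2 := (hmem i0 hi0 _ _ (m2 i0 hi0)).2.1
    apply hne
    rw [← e1, ← e2]
  haveI : Nonempty (κ × ℤ) := ⟨(k1, d1)⟩
  choose! x hx1 hx2 using hex
  refine ⟨k1, k2, d1, d2, fun i => (x i).1, fun i => (x i).2, (hmem i0 hi0 _ _ (m1 i0 hi0)).1,
    (hmem i0 hi0 _ _ (m2 i0 hi0)).1, hk12, (hmem i0 hi0 _ _ (m1 i0 hi0)).2.2,
    (hmem i0 hi0 _ _ (m2 i0 hi0)).2.2, ?_⟩
  have mx : ∀ i ∈ s, ((x i).1, (x i).2) ∈ X i := by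
    intro i hi
    rw [hx2 i hi]
    exact Finset.mem_insert_self _ _
  have hxk1 : ∀ i ∈ s, (x i).1 ≠ k1 := by
    intro i hi h
    apply hx1 i hi
    have e1 := (hmem i hi _ _ (mx i hi)).2.1
    have e2 := (hmem i hi _ _ (m1 i hi)).2.1
    rw [h, e2] at e1
    rw [Finset.mem_insert]
    left
    exact Prod.ext h e1.symm
  have hxk2 : ∀ i ∈ s, (x i).1 ≠ k2 := by
    intro i hi h
    apply hx1 i hi
    have e1 := (hmem i hi _ _ (mx i hi)).2.1
    have e2 := (hmem i hi _ _ (m2 i hi)).2.1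
    rw [h, e2] at e1
    rw [Finset.mem_insert, Finset.mem_singleton]
    right
    exact Prod.ext h e1.symm
  -- expansion
  have hexp : ∀ i ∈ s, ∀ f : κ → ℂ, ∑ k, (a i k : ℂ) * f k =
      - f k0 + (d1 : ℂ) * f k1 + (d2 : ℂ) * f k2 + ((x i).2 : ℂ) * f (x i).1 := by
    intro i hi f
    have e0 := h0 i hi
    have e1 := (hmem i hi _ _ (m1 i hi))
    have e2 := (hmem i hi _ _ (m2 i hi))
    have e3 := (hmem i hi _ _ (mx i hi))
    have hT : T i = {(x i).1, k1, k2} := by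
      have h6 : T i = (X i).image Prod.fst := by
        ext k
        simp only [X, Finset.mem_image]
        constructor
        · intro hk
          exact ⟨(k, a i k), ⟨k, hk, rfl⟩, rfl⟩
        · rintro ⟨y, ⟨k', hk', rfl⟩, rfl⟩
          exact hk'
      rw [h6, hx2 i hi]
      simp [Finset.image_insert]
    have h7 : ∑ k, (a i k : ℂ) * f k = ∑ k ∈ insert k0 (T i), (a i k : ℂ) * f k := by
      symm
      apply Finset.sum_subset (Finset.subset_univ _)
      intro k _ hk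
      rw [Finset.mem_insert, not_or] at hk
      have : a i k = 0 := by
        by_contra hne
        exact hk.2 (by simp only [T, Finset.mem_filter, Finset.mem_univ, true_and]; exact ⟨hk.1, hne⟩)
      rw [this]; simp
    rw [h7, hT, Finset.sum_insert, Finset.sum_insert, Finset.sum_insert, Finset.sum_singleton,
      e0, e1.2.1, e2.2.1, e3.2.1]
    · push_cast; ring
    · rw [Finset.mem_singleton]; exact hk12
    · simp only [Finset.mem_insert, Finset.mem_singleton, not_or]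
      exact ⟨hxk1 i hi, hxk2 i hi⟩
    · simp only [Finset.mem_insert, Finset.mem_singleton, not_or]
      exact ⟨e3.1.symm, e1.1.symm, e2.1.symm⟩
  intro i hi
  refine ⟨(hmem i hi _ _ (mx i hi)).2.2, (hmem i hi _ _ (mx i hi)).1, hxk1 i hi, hxk2 i hi, ?_,
    hexp i hi⟩
  intro j hj hij hK
  have h6 := h3 i hi j hj hij
  have h7 := hexp i hi (fun k => (a j k : ℂ))
  have h8 : ∑ k, (a i k : ℂ) * (a j k : ℂ) = 3 := by exact_mod_cast h6
  rw [h8] at h7
  simp only at hK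
  rw [hK, h0 j hj, (hmem j hj _ _ (m1 j hj)).2.1, (hmem j hj _ _ (m2 j hj)).2.1,
    (hmem j hj _ _ (mx j hj)).2.1] at h7
  have h9 : (3 : ℤ) = -(-1) + d1 * d1 + d2 * d2 + (x i).2 * (x j).2 := by exact_mod_cast h7
  rcases (hmem i hi _ _ (m1 i hi)).2.2 with r1 | r1 <;>
    rcases (hmem i hi _ _ (m2 i hi)).2.2 with r2 | r2 <;>
    rcases (hmem i hi _ _ (mx i hi)).2.2 with r3 | r3 <;>
    rcases (hmem j hj _ _ (mx j hj)).2.2 with r4 | r4 <;>
    rw [r1, r2, r3, r4] at h9 <;> norm_num at h9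

end Vec

end Cfsg.Agent.BlkInd
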