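import Mathlib
import Cfsg.Agent.BlkInd.HomoF
import Cfsg.Agent.BlkInd.FocAct
import Cfsg.Agent.BlkInd.Sunflower

set_option autoImplicit false
set_option linter.style.haveILetI false
set_option linter.unusedSimpArgs false
set_option linter.unusedSectionVars false
set_option linter.unusedVariables false

/-!
# Counting orbits of linear characters
-/

namespace Cfsg.Agent.BlkInd

open scoped BigOperators ComplexConjugate
open Cfsg Cfsg.Agent.CharBase

universe u v w

theorem card_of_mem_iff {A : Type u} [Group A] [Fintype A] (H : Subgroup A) (p : A → Prop)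
    [DecidablePred p] (h : ∀ x, x ∈ H ↔ p x) : Nat.card H = (Finset.univ.filter p).card := by
  have h1 : Nat.card H = Nat.card {x : A // p x} :=
    Nat.card_congr (Equiv.subtypeEquivRight h)
  rw [h1, Nat.card_eq_fintype_card, Fintype.card_subtype]

section Idx

variable {A : Type u} [Group A] [Fintype A] {σ : A ≃* A}

open Classical in
variable (σ) in
/-- the orbit sums of the nontrivial linear characters -/
noncomputable def orbIdx [Fintype (A →* ℂˣ)] : Finset (A → ℂ) :=
  (Finset.univ.filter (fun l : A →* ℂˣ => l ≠ 1)).image (orbSum σ)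

theorem mem_orbIdx [Fintype (A →* ℂˣ)] {L : A → ℂ} :
    L ∈ orbIdx σ ↔ ∃ l : A →* ℂˣ, l ≠ 1 ∧ orbSum σ l = L := by
  classical
  unfold orbIdx
  simp only [Finset.mem_image, Finset.mem_filter, Finset.mem_univ, true_and]

theorem card_orbIdx_filter [Fintype (A →* ℂˣ)] (hcomm : ∀ a b : A, a * b = b * a)
    (h3 : ∀ u, σ (σ (σ u)) = u) (hfree : ∀ u, u ≠ 1 → σ u ≠ u) (p : (A → ℂ) → Prop)
    [DecidablePred p] [DecidablePred fun l : A →* ℂˣ => l ≠ 1 ∧ p (orbSum σ l)] :
    (Finset.univ.filter (fun l : A →* ℂˣ => l ≠ 1 ∧ p (orbSum σ l))).card =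
      3 * ((orbIdx σ).filter p).card := by
  classical
  rw [Finset.card_eq_sum_card_fiberwise (f := orbSum σ) (t := (orbIdx σ).filter p)]
  · rw [Finset.sum_const_nat (m := 3), mul_comm]
    intro L hL
    rw [Finset.mem_filter, mem_orbIdx] at hL
    obtain ⟨⟨l, hl, rfl⟩, hp⟩ := hL
    have h1 : ({l' ∈ Finset.univ.filter (fun l : A →* ℂˣ => l ≠ 1 ∧ p (orbSum σ l)) |
        orbSum σ l' = orbSum σ l} : Finset (A →* ℂˣ)) = {l, tw σ l, tw σ (tw σ l)} := by
      ext m
      simp only [Finset.mem_filter, Finset.mem_univ, true_and, Finset.mem_insert,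
        Finset.mem_singleton]
      rw [orbSum_eq_iff hcomm h3 hfree hl]
      constructor
      · exact fun h => h.2
      · intro h
        refine ⟨⟨?_, ?_⟩, h⟩
        · rcases h with rfl | rfl | rfl
          · exact hl
          · exact tw_ne_one h3 hl
          · exact tw_ne_one h3 (tw_ne_one h3 hl)
        · rw [(orbSum_eq_iff hcomm h3 hfree hl).mpr h]
          exact hp
    rw [h1, Finset.card_insert_of_notMem, Finset.card_insert_of_notMem, Finset.card_singleton]
    · rw [Finset.mem_singleton]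
      exact (tw_ne_self hcomm hfree (tw_ne_one h3 hl)).symm
    · simp only [Finset.mem_insert, Finset.mem_singleton, not_or]
      exact ⟨(tw_ne_self hcomm hfree hl).symm, (tw_tw_ne_self hcomm h3 hfree hl).symm⟩
  · intro l hl
    simp only [Finset.coe_filter, Finset.mem_univ, true_and, Set.mem_ofPred_eq] at hl ⊢
    exact ⟨mem_orbIdx.mpr ⟨l, hl.1, rfl⟩, hl.2⟩

theorem commutator_le_of_comm (hcomm : ∀ a b : A, a * b = b * a) (N : Subgroup A) :
    commutator A ≤ N := by
  rw [commutator_def, Subgroup.commutator_le]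
  intro a _ b _
  rw [commutatorElement_def]
  have : a * b * a⁻¹ * b⁻¹ = 1 := by rw [hcomm a b]; group
  rw [this]
  exact N.one_mem

theorem card_orbIdx [Fintype (A →* ℂˣ)] (hcomm : ∀ a b : A, a * b = b * a)
    (h3 : ∀ u, σ (σ (σ u)) = u) (hfree : ∀ u, u ≠ 1 → σ u ≠ u) :
    3 * (orbIdx σ).card + 1 = Nat.card A := by
  classical
  have h1 := card_orbIdx_filter hcomm h3 hfree (fun _ => True)
  have e1 : (orbIdx σ).filter (fun _ => True) = orbIdx σ := by simp
  have e2 : Finset.univ.filter (fun l : A →* ℂˣ => l ≠ 1 ∧ True) = Finset.univ.erase 1 := by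
    ext l; simp
  rw [e1, e2, Finset.card_erase_of_mem (Finset.mem_univ _), Finset.card_univ] at h1
  have h2 : Fintype.card (A →* ℂˣ) = Nat.card A := by
    have h4 := card_linN (⊥ : Subgroup A) (commutator_le_of_comm hcomm ⊥)
    rw [Subgroup.index_bot] at h4
    rw [← h4, ← Nat.card_eq_fintype_card]
    apply Nat.card_congr
    exact ⟨fun l => ⟨l, fun x hx => by rw [Subgroup.mem_bot.mp hx, map_one]⟩, fun l => l.1,
      fun _ => rfl, fun _ => rfl⟩
  have h5 : 0 < Fintype.card (A →* ℂˣ) := Fintype.card_pos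
  omega

/-- the four-group of the involutions -/
def omTwo (A : Type u) [Group A] (hcomm : ∀ a b : A, a * b = b * a) : Subgroup A where
  carrier := {u | u * u = 1}
  one_mem' := by simp
  mul_mem' := fun {a b} ha hb => by
    change a * b * (a * b) = 1
    calc a * b * (a * b) = a * (b * a) * b := by group
      _ = (a * a) * (b * b) := by rw [hcomm b a]; group
      _ = 1 := by rw [ha, hb, one_mul]
  inv_mem' := fun {a} ha => by
    change a⁻¹ * a⁻¹ = 1
    rw [← mul_inv_rev, ha, inv_one]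

theorem sq_of_sigma {z : A} (hz2 : z * z = 1) : σ z * σ z = 1 := by rw [← map_mul, hz2, map_one]

theorem card_om (hcomm : ∀ a b : A, a * b = b * a) (h3 : ∀ u, σ (σ (σ u)) = u)
    (hfree : ∀ u, u ≠ 1 → σ u ≠ u) {z : A} (hz1 : z ≠ 1) (hz2 : z * z = 1)
    (hall : ∀ u : A, u * u = 1 → u = 1 ∨ u = z ∨ u = σ z ∨ u = σ (σ z)) :
    Nat.card (omTwo A hcomm) = 4 := by
  classical
  have h1 : Nat.card (omTwo A hcomm) = (Finset.univ.filter (fun u : A => u * u = 1)).card := by
    exact card_of_mem_iff (omTwo A hcomm) (fun u => u * u = 1) (fun u => Iff.rfl)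
  have h2 : Finset.univ.filter (fun u : A => u * u = 1) = {1, z, σ z, σ (σ z)} := by
    ext u
    simp only [Finset.mem_filter, Finset.mem_univ, true_and, Finset.mem_insert,
      Finset.mem_singleton]
    constructor
    · exact hall u
    · rintro (rfl | rfl | rfl | rfl)
      · simp
      · exact hz2
      · exact sq_of_sigma hz2
      · exact sq_of_sigma (sq_of_sigma hz2)
  have b1 : σ z ≠ 1 := fun h0 => hz1 (by simpa using h0)
  have b2 : σ (σ z) ≠ 1 := fun h0 => b1 (by simpa using h0)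
  have a1 : z ≠ σ z := (hfree z hz1).symm
  have a2 : σ z ≠ σ (σ z) := (hfree _ b1).symm
  have a3 : z ≠ σ (σ z) := by
    intro h0
    have := congrArg σ h0
    rw [h3] at this
    exact a1 this.symm
  rw [h1, h2, Finset.card_insert_of_notMem, Finset.card_insert_of_notMem,
    Finset.card_insert_of_notMem, Finset.card_singleton]
  · simpa using a2
  · simp only [Finset.mem_insert, Finset.mem_singleton, not_or]
    exact ⟨a1, a3⟩
  · simp only [Finset.mem_insert, Finset.mem_singleton, not_or]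
    exact ⟨hz1.symm, b1.symm, b2.symm⟩

theorem val_sq {l : A →* ℂˣ} {z : A} (hz2 : z * z = 1) : (l z : ℂ) = 1 ∨ (l z : ℂ) = -1 := by
  have h1 : (l z : ℂ) * (l z : ℂ) = 1 := by
    rw [← Units.val_mul, ← map_mul, hz2, map_one, Units.val_one]
  exact mul_self_eq_one_iff.mp h1

theorem prod_orb (hcomm : ∀ a b : A, a * b = b * a) (h3 : ∀ u, σ (σ (σ u)) = u)
    (hfree : ∀ u, u ≠ 1 → σ u ≠ u) (z : A) : z * σ z * σ (σ z) = 1 := by
  by_contra h
  apply hfree _ h
  rw [map_mul, map_mul, h3]
  calc σ z * σ (σ z) * z = z * (σ z * σ (σ z)) := by rw [hcomm]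
    _ = _ := by group

theorem orbSum_val (hcomm : ∀ a b : A, a * b = b * a) (h3 : ∀ u, σ (σ (σ u)) = u)
    (hfree : ∀ u, u ≠ 1 → σ u ≠ u) {z : A} (hz2 : z * z = 1) (l : A →* ℂˣ) :
    ((l z : ℂ) = 1 ∧ (l (σ z) : ℂ) = 1 ∧ (l (σ (σ z)) : ℂ) = 1 ∧ orbSum σ l z = 3) ∨
      (¬ ((l z : ℂ) = 1 ∧ (l (σ z) : ℂ) = 1 ∧ (l (σ (σ z)) : ℂ) = 1) ∧ orbSum σ l z = -1) := by
  have h1 : (l z : ℂ) * (l (σ z) : ℂ) * (l (σ (σ z)) : ℂ) = 1 := by
    rw [← Units.val_mul, ← Units.val_mul, ← map_mul, ← map_mul, prod_orb hcomm h3 hfree, map_one,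
      Units.val_one]
  unfold orbSum
  have hne : (1 : ℂ) ≠ -1 := by norm_num
  rcases val_sq (l := l) hz2 with e1 | e1 <;>
    rcases val_sq (l := l) (sq_of_sigma (σ := σ) hz2) with e2 | e2 <;>
    rcases val_sq (l := l) (sq_of_sigma (σ := σ) (sq_of_sigma (σ := σ) hz2)) with e3 | e3 <;>
    rw [e1, e2, e3] at h1 ⊢ <;> first | (norm_num at h1; done) | norm_num

theorem card_orbIdx_three [Fintype (A →* ℂˣ)] (hcomm : ∀ a b : A, a * b = b * a)
    (h3 : ∀ u, σ (σ (σ u)) = u) (hfree : ∀ u, u ≠ 1 → σ u ≠ u) {z : A} (hz1 : z ≠ 1)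
    (hz2 : z * z = 1)
    (hall : ∀ u : A, u * u = 1 → u = 1 ∨ u = z ∨ u = σ z ∨ u = σ (σ z))
    [DecidablePred fun L : A → ℂ => L z = 3] :
    4 * (3 * ((orbIdx σ).filter (fun L => L z = 3)).card + 1) = Nat.card A := by
  classical
  have h1 := card_orbIdx_filter hcomm h3 hfree (fun L => L z = 3)
  have hN : (omTwo A hcomm).Normal := ⟨fun n hn g => by
    have : g * n * g⁻¹ = n := by rw [hcomm g n]; group
    rw [this]; exact hn⟩
  have h4 := card_linN (omTwo A hcomm) (commutator_le_of_comm hcomm _)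
  have h5 : Nat.card (linN (omTwo A hcomm)) =
      (Finset.univ.filter (fun l : A →* ℂˣ => orbSum σ l z = 3)).card := by
    have h6 : ∀ l : A →* ℂˣ, l ∈ linN (omTwo A hcomm) ↔ orbSum σ l z = 3 := by
      intro l
      rw [mem_linN]
      constructor
      · intro hl
        unfold orbSum
        rw [hl z hz2, hl (σ z) (sq_of_sigma hz2), hl _ (sq_of_sigma (sq_of_sigma hz2))]
        norm_num
      · intro hl
        rcases orbSum_val hcomm h3 hfree hz2 l with ⟨e1, e2, e3, -⟩ | ⟨-, e⟩
        · intro x hx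
          rcases hall x hx with rfl | rfl | rfl | rfl
          · exact map_one l
          · exact Units.val_eq_one.mp e1
          · exact Units.val_eq_one.mp e2
          · exact Units.val_eq_one.mp e3
        · rw [hl] at e; norm_num at e
    exact card_of_mem_iff (linN (omTwo A hcomm)) (fun l => orbSum σ l z = 3) h6
  have h7 : (Finset.univ.filter (fun l : A →* ℂˣ => orbSum σ l z = 3)).card =
      (Finset.univ.filter (fun l : A →* ℂˣ => l ≠ 1 ∧ orbSum σ l z = 3)).card + 1 := by
    have h8 : Finset.univ.filter (fun l : A →* ℂˣ => l ≠ 1 ∧ orbSum σ l z = 3) =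
        (Finset.univ.filter (fun l : A →* ℂˣ => orbSum σ l z = 3)).erase 1 := by
      ext l; simp
    have h9 : (1 : A →* ℂˣ) ∈ Finset.univ.filter (fun l : A →* ℂˣ => orbSum σ l z = 3) := by
      rw [Finset.mem_filter]
      refine ⟨Finset.mem_univ _, ?_⟩
      unfold orbSum
      simp only [MonoidHom.one_apply, Units.val_one]
      norm_num
    rw [h8, Finset.card_erase_add_one h9]
  have h10 := (omTwo A hcomm).card_mul_index
  rw [card_om hcomm h3 hfree hz1 hz2 hall, ← h4, h5, h7, h1] at h10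
  exact h10

theorem card_orbIdx_neg [Fintype (A →* ℂˣ)] (hcomm : ∀ a b : A, a * b = b * a)
    (h3 : ∀ u, σ (σ (σ u)) = u) (hfree : ∀ u, u ≠ 1 → σ u ≠ u) {z : A} (hz1 : z ≠ 1)
    (hz2 : z * z = 1)
    (hall : ∀ u : A, u * u = 1 → u = 1 ∨ u = z ∨ u = σ z ∨ u = σ (σ z))
    [DecidablePred fun L : A → ℂ => L z = 3] [DecidablePred fun L : A → ℂ => ¬ L z = 3] :
    ((orbIdx σ).filter (fun L => ¬ L z = 3)).card =
      3 * ((orbIdx σ).filter (fun L => L z = 3)).card + 1 := by
  have h1 := card_orbIdx hcomm h3 hfree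
  have h2 := card_orbIdx_three hcomm h3 hfree hz1 hz2 hall
  have h4 := Finset.card_filter_add_card_filter_not (s := orbIdx σ) (fun L => L z = 3)
  omega

end Idx

end Cfsg.Agent.BlkInd
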