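import Mathlib
import Cfsg.Agent.BlkInd.HomoCnt
import Cfsg.Agent.BlkInd.HomoArith
import Cfsg.Agent.S0944
import Cfsg.Agent.S0947

set_option autoImplicit false
set_option linter.style.haveILetI false
set_option linter.unusedSimpArgs false
set_option linter.unusedSectionVars false
set_option linter.unusedVariables false

/-!
# Existence of a nontrivial linear character in the homocyclic case
-/

namespace Cfsg.Agent.BlkInd

open scoped BigOperators ComplexConjugate
open Cfsg Cfsg.Agent.CharBase Cfsg.Agent.Blk Cfsg.Agent.BlkC Cfsg.Agent.Star MonoidAlgebra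

universe u v w

section Inv

variable {G : Type u} [Group G] [Fintype G] {P : Sylow 2 G}
  {σ : ↥(P : Subgroup G) ≃* ↥(P : Subgroup G)}

theorem ppart_mem_zpowers {p : ℕ} [hp : Fact p.Prime] (g : G) : ppart p g ∈ Subgroup.zpowers g := by
  obtain ⟨s, h1, h2, h3, h4⟩ := ppart_spec (p := p) g
  obtain ⟨k, hk⟩ := h3
  have hcop : Nat.Coprime (orderOf (ppart p g)) (orderOf s) := by
    rw [hk]
    exact Nat.Coprime.pow_left k ((Nat.Prime.coprime_iff_not_dvd hp.out).mpr h4)
  have e1 : g ^ (orderOf s) = ppart p g ^ (orderOf s) := by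
    conv_lhs => rw [← h1]
    rw [h2.mul_pow, pow_orderOf_eq_one, mul_one]
  have hcop' : Nat.Coprime (orderOf s) (orderOf (ppart p g)) := hcop.symm
  obtain ⟨n, hn⟩ := exists_pow_eq_self_of_coprime hcop'
  rw [← hn, ← e1]
  exact Subgroup.pow_mem _ (Subgroup.pow_mem _ (Subgroup.mem_zpowers g) _) _

/-- the 2-part of a product of two involutions has square one, if the Sylow subgroups are abelian -/
theorem ppart_sq_of_inv (hcomm : ∀ a b : ↥(P : Subgroup G), a * b = b * a) {x y : G}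
    (hx : x * x = 1) (hy : y * y = 1) : ppart 2 (x * y) * ppart 2 (x * y) = 1 := by
  set t := x * y with ht
  set v := ppart 2 t with hv
  have hxinv : x⁻¹ = x := inv_eq_of_mul_eq_one_right hx
  have hyinv : y⁻¹ = y := inv_eq_of_mul_eq_one_right hy
  have h1 : x * t * x⁻¹ = t⁻¹ := by
    rw [ht, mul_inv_rev, hxinv, hyinv]
    calc x * (x * y) * x = (x * x) * y * x := by group
      _ = y * x := by rw [hx, one_mul]
  have hvt : v ∈ Subgroup.zpowers t := ppart_mem_zpowers t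
  have h2 : x * v * x⁻¹ = v⁻¹ := by
    obtain ⟨k, hk⟩ := Subgroup.mem_zpowers_iff.mp hvt
    rw [← hk]
    have : x * t ^ k * x⁻¹ = (x * t * x⁻¹) ^ k := by
      have := map_zpow (MulAut.conj x) t k
      simpa using this
    rw [this, h1, inv_zpow]
  -- the subgroup generated by `x` and `v` is a 2-group
  have hV : IsPGroup 2 (Subgroup.zpowers v) := isPGroup_zpowers_ppart t
  have hX : IsPGroup 2 (Subgroup.zpowers x) := by
    rw [IsPGroup.iff_orderOf]
    intro g
    have hdvd : orderOf (g : G) ∣ orderOf x := orderOf_dvd_of_mem_zpowers g.2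
    have h3 : orderOf x ∣ 2 ^ 1 := by
      rw [pow_one]
      exact orderOf_dvd_of_pow_eq_one (by rw [pow_two, hx])
    obtain ⟨k, -, hk⟩ := (Nat.dvd_prime_pow Nat.prime_two).mp (hdvd.trans h3)
    exact ⟨k, by rw [← hk, Subgroup.orderOf_coe]⟩
  have hnorm : Subgroup.zpowers x ≤ Subgroup.normalizer (Subgroup.zpowers v : Set G) := by
    rw [Subgroup.zpowers_le, Subgroup.mem_normalizer_iff]
    have key : ∀ h : G, h ∈ Subgroup.zpowers v → x * h * x⁻¹ ∈ Subgroup.zpowers v := by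
      intro h hh
      obtain ⟨k, hk⟩ := Subgroup.mem_zpowers_iff.mp hh
      rw [← hk]
      have : x * v ^ k * x⁻¹ = (x * v * x⁻¹) ^ k := by
        have := map_zpow (MulAut.conj x) v k
        simpa using this
      rw [this, h2]
      exact Subgroup.zpow_mem _ (Subgroup.inv_mem _ (Subgroup.mem_zpowers v)) k
    intro h
    refine ⟨key h, fun hh => ?_⟩
    have h3 := key _ hh
    have h4 : x * (x * h * x⁻¹) * x⁻¹ = h := by
      calc x * (x * h * x⁻¹) * x⁻¹ = (x * x) * h * (x * x)⁻¹ := by group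
        _ = h := by rw [hx]; group
    rwa [h4] at h3
  have hQ : IsPGroup 2 (Subgroup.zpowers v ⊔ Subgroup.zpowers x : Subgroup G) := by
    rw [sup_comm]
    exact IsPGroup.to_sup_of_normal_right' hX hV hnorm
  obtain ⟨g, hg⟩ := exists_conj_mem P _ hQ
  have hv' := hg v (Subgroup.mem_sup_left (Subgroup.mem_zpowers v))
  have hx' := hg x (Subgroup.mem_sup_right (Subgroup.mem_zpowers x))
  have h3 := congrArg Subtype.val (hcomm ⟨_, hx'⟩ ⟨_, hv'⟩)
  change g * x * g⁻¹ * (g * v * g⁻¹) = g * v * g⁻¹ * (g * x * g⁻¹) at h3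
  have h4 : x * v = v * x := by
    have e1 : g * (x * v) * g⁻¹ = g * (v * x) * g⁻¹ := by
      calc g * (x * v) * g⁻¹ = g * x * g⁻¹ * (g * v * g⁻¹) := by group
        _ = g * v * g⁻¹ * (g * x * g⁻¹) := h3
        _ = _ := by group
    exact mul_left_cancel (mul_right_cancel e1)
  have h5 : v = v⁻¹ := by
    rw [← h2, h4]; group
  calc v * v = v * v⁻¹ := by rw [← h5]
    _ = 1 := mul_inv_cancel v

theorem FreeThree.fF_prod_inv (h : FreeThree P σ) {z : ↥(P : Subgroup G)} (hz2 : z * z = 1)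
    (hall : ∀ u : ↥(P : Subgroup G), u * u = 1 → u = 1 ∨ u = z ∨ u = σ z ∨ u = σ (σ z))
    {l : ↥(P : Subgroup G) →* ℂˣ} (hl : orbSum σ l z = 3) {x y : G} (hx : x * x = 1)
    (hy : y * y = 1) : fF P σ l (x * y) = 0 := by
  haveI := Fintype.ofFinite ↥(P : Subgroup G)
  obtain ⟨u, hu⟩ := exists_pRep P (x * y)
  rw [h.fF_conj l hu]
  have h1 := ppart_sq_of_inv (P := P) h.comm hx hy
  have h2 : u * u = 1 := by
    obtain ⟨g, hg⟩ := isConj_iff.mp hu
    apply Subtype.ext
    rw [Subgroup.coe_mul, ← hg]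
    calc g * ppart 2 (x * y) * g⁻¹ * (g * ppart 2 (x * y) * g⁻¹) =
        g * (ppart 2 (x * y) * ppart 2 (x * y)) * g⁻¹ := by group
      _ = 1 := by rw [h1]; group
  rcases hall u h2 with rfl | rfl | rfl | rfl
  · rw [orbSum_one]; ring
  · rw [hl]; ring
  · rw [orbSum_sigma h.cube, hl]; ring
  · rw [orbSum_sigma h.cube, orbSum_sigma h.cube, hl]; ring

end Inv

section Main

variable {G : Type u} [Group G] [Fintype G] {P : Sylow 2 G}
  {σ : ↥(P : Subgroup G) ≃* ↥(P : Subgroup G)} {M : Ideal AlgInt} [hMp : M.IsPrime]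

theorem degree_pos (χ : IrrCharacter G) : ∃ n : ℕ, 0 < n ∧ (χ : G → ℂ) 1 = n := by
  obtain ⟨n, hn⟩ := exists_nat_degree (irr_isCharacter χ)
  refine ⟨n, ?_, hn⟩
  rcases Nat.eq_zero_or_pos n with h | h
  · exfalso
    rw [h, Nat.cast_zero] at hn
    exact irr_one_ne_zero χ.2 hn
  · exact h

theorem FreeThree.exists_linear (h : FreeThree P σ) (h16 : 16 ≤ Nat.card (P : Subgroup G))
    {z : ↥(P : Subgroup G)} (hz1 : z ≠ 1) (hz2 : z * z = 1)
    (hall : ∀ u : ↥(P : Subgroup G), u * u = 1 → u = 1 ∨ u = z ∨ u = σ z ∨ u = σ (σ z))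
    (hM : IsPModular 2 M)
    (hbound : ∑ᶠ ζ ∈ principalBlock M G, ‖(ζ : G → ℂ) (z : G)‖ ^ 2 =
      (Nat.card (P : Subgroup G) : ℝ)) :
    ∃ θ : IrrCharacter G, θ ≠ oneIrr G ∧ (θ : G → ℂ) 1 = 1 := by
  classical
  haveI := Fintype.ofFinite ↥(P : Subgroup G)
  haveI : Fintype (↥(P : Subgroup G) →* ℂˣ) := Fintype.ofFinite _
  haveI : Fintype (IrrCharacter G) := Fintype.ofFinite _
  set s := orbIdx σ with hs
  let F : (↥(P : Subgroup G) → ℂ) → G → ℂ := fun L => pFn P (fun u => L u - 3)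
  have hF : ∀ l, F (orbSum σ l) = fF P σ l := fun l => rfl
  have hzG : (z : G) * (z : G) = 1 := congrArg Subtype.val hz2
  have hz1G : (z : G) ≠ 1 := fun h0 => hz1 (Subtype.ext h0)
  have hord : orderOf (z : G) = 2 := orderOf_eq_prime (by rw [pow_two, hzG]) hz1G
  -- coefficients
  have hcoef : ∀ L, ∃ c : IrrCharacter G → ℤ, L ∈ s →
      ∀ χ : IrrCharacter G, classInner (F L) (χ : G → ℂ) = c χ := by
    intro L
    by_cases hL : L ∈ s
    · obtain ⟨l, hl, rfl⟩ := mem_orbIdx.mp hL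
      have h1 : ∀ χ : IrrCharacter G, ∃ n : ℤ, classInner (F (orbSum σ l)) (χ : G → ℂ) = n :=
        fun χ => classInner_intCast (h.fF_gen l) (Cfsg.Agent.Char.BI.isGeneralizedCharacter_of_isCharacter (irr_isCharacter χ))
      choose c hc using h1
      exact ⟨c, fun _ => hc⟩
    · exact ⟨0, fun h0 => absurd h0 hL⟩
  choose a ha using hcoef
  have hcl : ∀ L ∈ s, IsClassFunction G (F L) := by
    intro L hL
    obtain ⟨l, hl, rfl⟩ := mem_orbIdx.mp hL
    exact h.fF_class l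
  have hin : ∀ L ∈ s, ∀ L' ∈ s, classInner (F L) (F L') = ((∑ χ, a L χ * a L' χ : ℤ) : ℂ) := by
    intro L hL L' hL'
    rw [classInner_eq_sum (hcl L hL)]
    push_cast
    refine Finset.sum_congr rfl fun χ _ => ?_
    rw [ha L hL χ, ← classInner_conj_symm (F L') (χ : G → ℂ), ha L' hL' χ]
    simp
  have h0 : ∀ L ∈ s, a L (oneIrr G) = -1 := by
    intro L hL
    obtain ⟨l, hl, rfl⟩ := mem_orbIdx.mp hL
    have h1 := ha _ hL (oneIrr G)
    rw [hF, h.classInner_fF_one hl] at h1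
    exact_mod_cast h1.symm
  have h4 : ∀ L ∈ s, ∑ χ, a L χ * a L χ = 4 := by
    intro L hL
    have h1 := hin L hL L hL
    obtain ⟨l, hl, rfl⟩ := mem_orbIdx.mp hL
    rw [hF, h.classInner_fF_self hl] at h1
    exact_mod_cast h1.symm
  have h3 : ∀ L ∈ s, ∀ L' ∈ s, L ≠ L' → ∑ χ, a L χ * a L' χ = 3 := by
    intro L hL L' hL' hne
    have h1 := hin L hL L' hL'
    obtain ⟨l, hl, rfl⟩ := mem_orbIdx.mp hL
    obtain ⟨l', hl', rfl⟩ := mem_orbIdx.mp hL'
    rw [hF, hF, h.classInner_fF_ne hl hl' hne] at h1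
    exact_mod_cast h1.symm
  have h5 : 5 ≤ s.card := by
    have := card_orbIdx h.comm h.cube h.free
    rw [← hs] at this
    omega
  obtain ⟨k1, k2, d1, d2, K, ε, hk1, hk2, hk12, hd1, hd2, hK⟩ :=
    exists_common s a (oneIrr G) h0 h4 h3 h5
  -- values at `z`
  choose v hv hvpar using fun χ : IrrCharacter G => Cfsg.Agent.S0944.result χ (z : G) hord
  have hv1 : v (oneIrr G) = 1 := by
    have := hv (oneIrr G)
    rw [oneIrr_apply] at this
    exact_mod_cast this.symm
  have hval : ∀ L ∈ s, (L z = 3 ∧ (-1 + d1 * v k1 + d2 * v k2 + ε L * v (K L) : ℤ) = 0) ∨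
      (¬ L z = 3 ∧ (-1 + d1 * v k1 + d2 * v k2 + ε L * v (K L) : ℤ) = -4) := by
    intro L hL
    have h1 := (hK L hL).2.2.2.2.2 (fun χ => (χ : G → ℂ) (z : G))
    have h2 : ∑ χ : IrrCharacter G, (a L χ : ℂ) * (χ : G → ℂ) (z : G) = L z - 3 := by
      have h6 := classFun_apply_eq_sum (hcl L hL) (z : G)
      rw [Finset.sum_congr rfl (g := fun χ : IrrCharacter G => (a L χ : ℂ) * (χ : G → ℂ) (z : G))
        (fun χ _ => by rw [ha L hL χ])] at h6
      rw [← h6]
      obtain ⟨l, hl, rfl⟩ := mem_orbIdx.mp hL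
      exact pFn_coe (h.fusInv' l) z
    rw [h2] at h1
    simp only [hv, oneIrr_apply] at h1
    obtain ⟨l, hl, rfl⟩ := mem_orbIdx.mp hL
    rcases orbSum_val h.comm h.cube h.free hz2 l with ⟨-, -, -, e⟩ | ⟨-, e⟩
    · left
      refine ⟨e, ?_⟩
      rw [e] at h1
      have h7 : ((-1 + d1 * v k1 + d2 * v k2 + ε (orbSum σ l) * v (K (orbSum σ l)) : ℤ) : ℂ) = 0 := by
        push_cast
        rw [hv1, Int.cast_one] at h1
        rw [← h1]; ring
      exact_mod_cast h7
    · right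
      refine ⟨by rw [e]; norm_num, ?_⟩
      rw [e] at h1
      have h7 : ((-1 + d1 * v k1 + d2 * v k2 + ε (orbSum σ l) * v (K (orbSum σ l)) : ℤ) : ℂ) =
          ((-4 : ℤ) : ℂ) := by
        push_cast
        rw [hv1, Int.cast_one] at h1
        rw [← h1]; ring
      exact_mod_cast h7
  -- the bound
  have hblk : ∀ L ∈ s, ∀ χ : IrrCharacter G, a L χ ≠ 0 → χ ∈ principalBlock M G := by
    intro L hL χ hne
    by_contra hχ
    apply hne
    have h1 := ha L hL χ
    obtain ⟨l, hl, rfl⟩ := mem_orbIdx.mp hL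
    rw [hF, h.classInner_fF_notMem hM l hχ] at h1
    exact_mod_cast h1.symm
  have hcoefK : ∀ L ∈ s, a L k1 = d1 ∧ a L k2 = d2 ∧ a L (K L) = ε L := by
    intro L hL
    obtain ⟨he, hn0, hn1, hn2, -, hf⟩ := hK L hL
    refine ⟨?_, ?_, ?_⟩
    · have h1 := hf (fun χ => if χ = k1 then 1 else 0)
      simp only [mul_ite, mul_one, mul_zero, Finset.sum_ite_eq', Finset.mem_univ, if_true,
        if_neg hk1.symm, if_neg hk12.symm, if_neg hn1, neg_zero, zero_add, add_zero] at h1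
      exact_mod_cast h1
    · have h1 := hf (fun χ => if χ = k2 then 1 else 0)
      simp only [mul_ite, mul_one, mul_zero, Finset.sum_ite_eq', Finset.mem_univ, if_true,
        if_neg hk2.symm, if_neg hk12, if_neg hn2, neg_zero, zero_add, add_zero] at h1
      exact_mod_cast h1
    · have h1 := hf (fun χ => if χ = K L then 1 else 0)
      simp only [mul_ite, mul_one, mul_zero, Finset.sum_ite_eq', Finset.mem_univ, if_true,
        if_neg hn0.symm, if_neg hn1.symm, if_neg hn2.symm, neg_zero, zero_add, add_zero] at h1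
      exact_mod_cast h1
  obtain ⟨L0, hL0⟩ := Finset.card_pos.mp (lt_of_lt_of_le (by norm_num : 0 < 5) h5)
  have hd1' : d1 ≠ 0 := by rcases hd1 with h | h <;> rw [h] <;> norm_num
  have hd2' : d2 ≠ 0 := by rcases hd2 with h | h <;> rw [h] <;> norm_num
  have hd1s : d1 * d1 = 1 := by rcases hd1 with h | h <;> rw [h] <;> norm_num
  have hd2s : d2 * d2 = 1 := by rcases hd2 with h | h <;> rw [h] <;> norm_num
  have hεs : ∀ L ∈ s, ε L * ε L = 1 := by
    intro L hL
    rcases (hK L hL).1 with h | h <;> rw [h] <;> norm_num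
  have hε' : ∀ L ∈ s, ε L ≠ 0 := by
    intro L hL h0
    have := hεs L hL
    rw [h0] at this; norm_num at this
  have hsum : (1 + v k1 * v k1 + v k2 * v k2 + ∑ L ∈ s, v (K L) * v (K L) : ℤ) ≤
      (Nat.card (P : Subgroup G) : ℤ) := by
    have hKinj : Set.InjOn K s := by
      intro L hL L' hL' heq
      by_contra hne
      exact (hK L hL).2.2.2.2.1 L' hL' hne heq
    set T : Finset (IrrCharacter G) := insert (oneIrr G) (insert k1 (insert k2 (s.image K))) with hT
    have hTsub : T ⊆ Bfin (principalBlock M G) := by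
      intro χ hχ
      rw [mem_Bfin]
      rw [hT, Finset.mem_insert, Finset.mem_insert, Finset.mem_insert, Finset.mem_image] at hχ
      rcases hχ with rfl | rfl | rfl | ⟨L, hL, rfl⟩
      · exact oneIrr_mem_principalBlock
      · exact hblk L0 hL0 _ (by rw [(hcoefK L0 hL0).1]; exact hd1')
      · exact hblk L0 hL0 _ (by rw [(hcoefK L0 hL0).2.1]; exact hd2')
      · exact hblk L hL _ (by rw [(hcoefK L hL).2.2]; exact hε' L hL)
    have h1 : ∑ ζ ∈ T, ‖(ζ : G → ℂ) (z : G)‖ ^ 2 ≤ (Nat.card (P : Subgroup G) : ℝ) := by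
      rw [← hbound, finsum_mem_eq_Bfin]
      exact Finset.sum_le_sum_of_subset_of_nonneg hTsub (fun _ _ _ => by positivity)
    have h2 : ∀ χ : IrrCharacter G, ‖(χ : G → ℂ) (z : G)‖ ^ 2 = ((v χ * v χ : ℤ) : ℝ) := by
      intro χ
      rw [hv χ, Complex.norm_intCast, sq_abs]
      push_cast; ring
    rw [Finset.sum_congr rfl (fun χ _ => h2 χ)] at h1
    have n2 : k2 ∉ s.image K := by
      intro hmem
      obtain ⟨L, hL, he⟩ := Finset.mem_image.mp hmem
      exact (hK L hL).2.2.2.1 he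
    have n1 : k1 ∉ insert k2 (s.image K) := by
      rw [Finset.mem_insert, not_or]
      refine ⟨hk12, ?_⟩
      intro hmem
      obtain ⟨L, hL, he⟩ := Finset.mem_image.mp hmem
      exact (hK L hL).2.2.1 he
    have n0 : oneIrr G ∉ insert k1 (insert k2 (s.image K)) := by
      rw [Finset.mem_insert, Finset.mem_insert, not_or, not_or]
      refine ⟨hk1.symm, hk2.symm, ?_⟩
      intro hmem
      obtain ⟨L, hL, he⟩ := Finset.mem_image.mp hmem
      exact (hK L hL).2.1 he
    rw [hT, Finset.sum_insert n0, Finset.sum_insert n1, Finset.sum_insert n2,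
      Finset.sum_image hKinj] at h1
    rw [hv1] at h1
    have h6 : ((1 + v k1 * v k1 + v k2 * v k2 + ∑ L ∈ s, v (K L) * v (K L) : ℤ) : ℝ) ≤
        ((Nat.card (P : Subgroup G) : ℤ) : ℝ) := by
      push_cast at h1 ⊢
      linarith
    exact_mod_cast h6
  -- the split sum
  set y : ℤ := 1 - d1 * v k1 - d2 * v k2 with hy
  set N1 := ((orbIdx σ).filter (fun L => L z = 3)).card with hN1
  have hN2 := card_orbIdx_neg h.comm h.cube h.free hz1 hz2 hall
  have hN3 := card_orbIdx_three h.comm h.cube h.free hz1 hz2 hall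
  rw [← hN1] at hN2 hN3
  have hsplit : ∑ L ∈ s, v (K L) * v (K L) = (N1 : ℤ) * (y * y) +
      (3 * (N1 : ℤ) + 1) * ((y - 4) * (y - 4)) := by
    rw [← Finset.sum_filter_add_sum_filter_not s (fun L => L z = 3)]
    congr 1
    · rw [Finset.sum_congr rfl (g := fun _ => y * y), Finset.sum_const, nsmul_eq_mul]
      intro L hL
      rw [Finset.mem_filter] at hL
      rcases hval L hL.1 with ⟨-, e⟩ | ⟨hn, -⟩
      · have e1 : ε L * v (K L) = y := by rw [hy]; linarith
        calc v (K L) * v (K L) = (ε L * ε L) * (v (K L) * v (K L)) := by rw [hεs L hL.1, one_mul]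
          _ = (ε L * v (K L)) * (ε L * v (K L)) := by ring
          _ = y * y := by rw [e1]
      · exact absurd hL.2 hn
    · rw [Finset.sum_congr rfl (g := fun _ => (y - 4) * (y - 4)), Finset.sum_const, nsmul_eq_mul]
      · rw [hs, hN2]; push_cast; ring
      · intro L hL
        rw [Finset.mem_filter] at hL
        rcases hval L hL.1 with ⟨hn, -⟩ | ⟨-, e⟩
        · exact absurd hn hL.2
        · have e1 : ε L * v (K L) = y - 4 := by rw [hy]; linarith
          calc v (K L) * v (K L) = (ε L * ε L) * (v (K L) * v (K L)) := by rw [hεs L hL.1, one_mul]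
            _ = (ε L * v (K L)) * (ε L * v (K L)) := by ring
            _ = _ := by rw [e1]
  have hN1pos : 1 ≤ N1 := by omega
  have hcardZ : (Nat.card (P : Subgroup G) : ℤ) = 4 * (3 * (N1 : ℤ) + 1) := by exact_mod_cast hN3.symm
  have hsq1 : (d1 * v k1) * (d1 * v k1) = v k1 * v k1 := by
    calc (d1 * v k1) * (d1 * v k1) = (d1 * d1) * (v k1 * v k1) := by ring
      _ = _ := by rw [hd1s, one_mul]
  have hsq2 : (d2 * v k2) * (d2 * v k2) = v k2 * v k2 := by
    calc (d2 * v k2) * (d2 * v k2) = (d2 * d2) * (v k2 * v k2) := by ring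
      _ = _ := by rw [hd2s, one_mul]
  obtain ⟨he1, he2, hy3⟩ := arith_bound (N1 := (N1 : ℤ)) (by exact_mod_cast hN1pos) hy (by
    rw [hsq1, hsq2, ← hsplit, ← hcardZ]; exact hsum)
  -- a function trivial on the involutions
  obtain ⟨L, hL⟩ := Finset.card_pos.mp (lt_of_lt_of_le Nat.zero_lt_one hN1pos)
  rw [Finset.mem_filter, ← hs] at hL
  obtain ⟨hL, hLz⟩ := hL
  have he3 : ε L * v (K L) = 3 := by
    rcases hval L hL with ⟨-, e⟩ | ⟨hn, -⟩
    · linarith
    · exact absurd hLz hn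
  obtain ⟨hεL, -, -, -, -, hf⟩ := hK L hL
  obtain ⟨n1, hn1, hn1'⟩ := degree_pos k1
  obtain ⟨n2, hn2, hn2'⟩ := degree_pos k2
  obtain ⟨n3, hn3, hn3'⟩ := degree_pos (K L)
  have hexp : ∀ g : G, F L g = ∑ χ : IrrCharacter G, (a L χ : ℂ) * (χ : G → ℂ) g := by
    intro g
    rw [classFun_apply_eq_sum (hcl L hL) g]
    exact Finset.sum_congr rfl fun χ _ => by rw [ha L hL χ]
  have hdeg : d1 * (n1 : ℤ) + d2 * (n2 : ℤ) + ε L * (n3 : ℤ) = 1 := by
    have h1 := hf (fun χ => (χ : G → ℂ) 1)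
    rw [← hexp 1] at h1
    have h2 : F L 1 = 0 := by
      obtain ⟨l, hl, rfl⟩ := mem_orbIdx.mp hL
      exact h.fF_one l
    rw [h2] at h1
    simp only [hn1', hn2', hn3', oneIrr_apply] at h1
    have h6 : ((d1 * (n1 : ℤ) + d2 * (n2 : ℤ) + ε L * (n3 : ℤ) : ℤ) : ℂ) = ((1 : ℤ) : ℂ) := by
      push_cast
      linear_combination -h1
    exact_mod_cast h6
  have hcls : (-1 : ℂ) + d1 * ((v k1 : ℂ) * (v k1 : ℂ) / (n1 : ℂ)) +
      d2 * ((v k2 : ℂ) * (v k2 : ℂ) / (n2 : ℂ)) +
      ε L * ((v (K L) : ℂ) * (v (K L) : ℂ) / (n3 : ℂ)) = 0 := by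
    have h1 := hf (fun χ => (χ : G → ℂ) (z : G) * (χ : G → ℂ) (z : G) / (χ : G → ℂ) 1)
    have h2 : ∑ χ : IrrCharacter G, (a L χ : ℂ) *
        ((χ : G → ℂ) (z : G) * (χ : G → ℂ) (z : G) / (χ : G → ℂ) 1) = 0 := by
      have hG : (Nat.card G : ℂ) ≠ 0 := by exact_mod_cast Nat.card_pos.ne'
      apply mul_left_cancel₀ hG
      rw [mul_zero, Finset.mul_sum]
      have h6 : ∀ χ : IrrCharacter G, (Nat.card G : ℂ) * ((a L χ : ℂ) *
          ((χ : G → ℂ) (z : G) * (χ : G → ℂ) (z : G) / (χ : G → ℂ) 1)) =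
          ∑ x : G, (a L χ : ℂ) * (χ : G → ℂ) ((z : G) * (x * z * x⁻¹)) := by
        intro χ
        rw [← Finset.mul_sum, sum_conj_mul χ.2]
        ring
      rw [Finset.sum_congr rfl fun χ _ => h6 χ, Finset.sum_comm]
      refine Finset.sum_eq_zero fun x _ => ?_
      rw [← hexp]
      obtain ⟨l, hl, rfl⟩ := mem_orbIdx.mp hL
      refine h.fF_prod_inv hz2 hall hLz hzG ?_
      calc x * (z : G) * x⁻¹ * (x * z * x⁻¹) = x * ((z : G) * z) * x⁻¹ := by group
        _ = 1 := by rw [hzG]; group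
    rw [h2] at h1
    simp only [hv, hn1', hn2', hn3', oneIrr_apply] at h1
    rw [h1, hv1]
    push_cast
    ring
  have hn1c : (n1 : ℂ) ≠ 0 := by exact_mod_cast hn1.ne'
  have hn2c : (n2 : ℂ) ≠ 0 := by exact_mod_cast hn2.ne'
  have hn3c : (n3 : ℂ) ≠ 0 := by exact_mod_cast hn3.ne'
  have v1s : v k1 * v k1 = 1 := by
    rw [← hsq1, he1]; norm_num
  have v2s : v k2 * v k2 = 1 := by
    rw [← hsq2, he2]; norm_num
  have v3s : v (K L) * v (K L) = 9 := by
    calc v (K L) * v (K L) = (ε L * ε L) * (v (K L) * v (K L)) := by rw [hεs L hL, one_mul]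
      _ = (ε L * v (K L)) * (ε L * v (K L)) := by ring
      _ = 9 := by rw [he3]; norm_num
  have v1c : (v k1 : ℂ) * (v k1 : ℂ) = 1 := by exact_mod_cast v1s
  have v2c : (v k2 : ℂ) * (v k2 : ℂ) = 1 := by exact_mod_cast v2s
  have v3c : (v (K L) : ℂ) * (v (K L) : ℂ) = 9 := by exact_mod_cast v3s
  rw [v1c, v2c, v3c] at hcls
  have hcls2 : (-(n1 * n2 * n3) + d1 * (n2 * n3) + d2 * (n1 * n3) + 9 * ε L * (n1 * n2) : ℤ) = 0 := by
    have h6 : ((-(n1 * n2 * n3) + d1 * (n2 * n3) + d2 * (n1 * n3) + 9 * ε L * (n1 * n2) : ℤ) : ℂ) =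
        ((0 : ℤ) : ℂ) := by
      push_cast
      have h7 : (-((n1 : ℂ) * n2 * n3) + d1 * (n2 * n3) + d2 * (n1 * n3) + 9 * ε L * (n1 * n2) : ℂ) =
          (n1 * n2 * n3) * ((-1 : ℂ) + d1 * (1 / (n1 : ℂ)) + d2 * (1 / (n2 : ℂ)) +
            ε L * (9 / (n3 : ℂ))) := by
        field_simp
      rw [h7, hcls, mul_zero]
    exact_mod_cast h6
  have hodd1 : Odd (d1 * (n1 : ℤ)) := by
    have hp1 := hvpar k1
    have e : ((charDegree (k1 : G → ℂ) : ℕ) : ℤ) = n1 := by
      have h6 := charDegree_spec k1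
      rw [hn1'] at h6
      exact_mod_cast h6.symm
    rw [e] at hp1
    rcases hd1 with h6 | h6 <;> rw [h6] at he1 ⊢
    · rw [Int.odd_iff]; omega
    · rw [Int.odd_iff]; omega
  have hodd2 : Odd (d2 * (n2 : ℤ)) := by
    have hp1 := hvpar k2
    have e : ((charDegree (k2 : G → ℂ) : ℕ) : ℤ) = n2 := by
      have h6 := charDegree_spec k2
      rw [hn2'] at h6
      exact_mod_cast h6.symm
    rw [e] at hp1
    rcases hd2 with h6 | h6 <;> rw [h6] at he2 ⊢
    · rw [Int.odd_iff]; omega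
    · rw [Int.odd_iff]; omega
  have hfin := arith_deg hodd1 hodd2 hdeg (by
    have hεε := hεs L hL
    linear_combination (d1 * d2 * ε L) * hcls2 - (d2 * ε L * (n2 * n3)) * hd1s -
      (d1 * ε L * (n1 * n3)) * hd2s - (9 * d1 * d2 * (n1 * n2)) * hεε)
  refine ⟨k1, hk1, ?_⟩
  rw [hn1']
  have h6 := hfin.1
  rcases hd1 with h7 | h7 <;> rw [h7] at h6
  · exfalso
    have : (0 : ℤ) < n1 := by exact_mod_cast hn1
    linarith
  · have : (n1 : ℤ) = 1 := by linarith
    have h8 : n1 = 1 := by exact_mod_cast this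
    rw [h8]; norm_num

end Main

end Cfsg.Agent.BlkInd
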