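import Mathlib
import Cfsg.Agent.BlkInd.HomoMain
import Cfsg.Agent.S0945
import Cfsg.Agent.Solv.Core
import Cfsg.Agent.Char.Linear
import Cfsg.Agent.H4.CharKer

set_option autoImplicit false
set_option linter.style.haveILetI false
set_option linter.unusedSimpArgs false
set_option linter.unusedSectionVars false
set_option linter.unusedVariables false

/-!
# Brauer's theorem on homocyclic Sylow 2-subgroups of rank two
-/

namespace Cfsg.Agent.BlkInd

open scoped BigOperators ComplexConjugate
open Cfsg Cfsg.Agent.CharBase Cfsg.Agent.Solv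

universe u v w

theorem eq_top_of_complement {H : Type u} [Group H] [Finite H] (Q : Sylow 2 H)
    (hNC : Subgroup.normalizer ((Q : Subgroup H) : Set H) ≤
      Subgroup.centralizer ((Q : Subgroup H) : Set H)) (hO : pPrimeCore 2 H = ⊥) :
    (Q : Subgroup H) = ⊤ := by
  have h1 := MonoidHom.ker_transferSylow_isComplement' Q hNC
  have h2 := MonoidHom.not_dvd_card_ker_transferSylow Q hNC
  have h3 : (MonoidHom.transferSylow Q hNC).ker ≤ pPrimeCore 2 H :=
    le_pPrimeCore inferInstance
      (((Nat.Prime.coprime_iff_not_dvd Nat.prime_two).mpr h2).symm)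
  rw [hO, le_bot_iff] at h3
  rw [h3] at h1
  exact Subgroup.isComplement'_bot_left.mp h1

theorem pPrimeCore_sub {G : Type u} [Group G] [Finite G] (hO : pPrimeCore 2 G = ⊥)
    (N : Subgroup G) [N.Normal] : pPrimeCore 2 N = ⊥ := by
  have h1 := map_subtype_pPrimeCore_le 2 N
  rw [hO, le_bot_iff, Subgroup.map_eq_bot_iff_of_injective _ N.subtype_injective] at h1
  exact h1

theorem exists_normal_sub {G : Type u} [Group G] [Fintype G] {P : Sylow 2 G}
    {σ : ↥(P : Subgroup G) ≃* ↥(P : Subgroup G)} (h : FreeThree P σ) {θ : IrrCharacter G}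
    (hθ : θ ≠ oneIrr G) (hθ1 : (θ : G → ℂ) 1 = 1) :
    ∃ N : Subgroup G, N.Normal ∧ N ≠ ⊤ ∧ (P : Subgroup G) ≤ N := by
  haveI := Fintype.ofFinite ↥(P : Subgroup G)
  let Θ : G →* ℂˣ := (Cfsg.Agent.Char.linHom (irr_isCharacter θ) hθ1).toHomUnits
  have hΘ : ∀ g, ((Θ g : ℂˣ) : ℂ) = (θ : G → ℂ) g := fun g => rfl
  refine ⟨Θ.ker, inferInstance, ?_, ?_⟩
  · intro htop
    apply hθ
    apply Subtype.ext
    funext g
    have h1 : g ∈ Θ.ker := by rw [htop]; exact Subgroup.mem_top g
    have h2 := hΘ g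
    rw [MonoidHom.mem_ker.mp h1, Units.val_one] at h2
    exact h2.symm
  · let l : ↥(P : Subgroup G) →* ℂˣ := Θ.comp (P : Subgroup G).subtype
    have hl : tw σ l = l := by
      ext u
      have h1 : IsConj (u : G) ((σ u : ↥(P : Subgroup G)) : G) := (h.fus u (σ u)).mpr (Or.inr (Or.inl rfl))
      have h2 := isConj_iff_eq.mp (Θ.map_isConj h1)
      change ((Θ ((σ u : ↥(P : Subgroup G)) : G) : ℂˣ) : ℂ) = ((Θ (u : G) : ℂˣ) : ℂ)
      rw [← h2]
    have hl1 : l = 1 := by
      by_contra hne
      exact tw_ne_self h.comm h.free hne hl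
    intro u hu
    rw [MonoidHom.mem_ker]
    exact DFunLike.congr_fun hl1 ⟨u, hu⟩

theorem hbound_aux {G : Type u} [Group G] [Fintype G] (P : Sylow 2 G)
    (hcomm : ∀ a ∈ (P : Subgroup G), ∀ b ∈ (P : Subgroup G), a * b = b * a)
    {z : G} (hz : z ∈ (P : Subgroup G)) (hz1 : z ≠ 1)
    (hfree : Subgroup.centralizer ({z} : Set G) ⊓
      Subgroup.normalizer ((P : Subgroup G) : Set G) =
        Subgroup.centralizer ((P : Subgroup G) : Set G)) {M : Ideal AlgInt} (hM : IsPModular 2 M) :
    ∑ᶠ ζ ∈ principalBlock M G, ‖(ζ : G → ℂ) z‖ ^ 2 = (Nat.card (P : Subgroup G) : ℝ) := by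
  obtain ⟨Q, K, h1, hK, hc, hKp⟩ := centralizer_complement P hcomm hz hfree
  have hord : ∃ k : ℕ, orderOf z = 2 ^ k := by
    obtain ⟨k, hk⟩ := IsPGroup.iff_orderOf.mp P.isPGroup' ⟨z, hz⟩
    exact ⟨k, by rw [← hk, Subgroup.orderOf_mk]⟩
  have h2 := (Cfsg.Agent.S0947.result 2 M hM z hord hz1 1 (by rw [orderOf_one]; norm_num)).2 (by
    have h3 : K ≤ pPrimeCore 2 (Subgroup.centralizer ({z} : Set G)) :=
      le_pPrimeCore hK (((Nat.Prime.coprime_iff_not_dvd Nat.prime_two).mpr hKp).symm)
    have h4 : (pPrimeCore 2 (Subgroup.centralizer ({z} : Set G))).index ∣ K.index :=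
      Subgroup.index_dvd_of_le h3
    rw [hc.symm.index_eq_card] at h4
    obtain ⟨a, ha⟩ := IsPGroup.iff_card.mp Q.isPGroup'
    rw [ha] at h4
    obtain ⟨b, -, hb⟩ := (Nat.dvd_prime_pow Nat.prime_two).mp h4
    exact ⟨b, hb⟩)
  simp only [Subgroup.coe_one, mul_one] at h2
  rw [h2, ← Sylow.card_eq_multiplicity Q, h1]

theorem homocyclic_normal (n : ℕ) : ∀ (G : Type u) [Group G] [Finite G], Nat.card G = n →
    ∀ (P : Sylow 2 G) (m : ℕ) (hm : 2 ≤ m)
      (e : (P : Subgroup G) ≃* Multiplicative (ZMod (2 ^ m) × ZMod (2 ^ m)))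
      (hO : pPrimeCore 2 G = ⊥), (P : Subgroup G).Normal := by
  induction n using Nat.strong_induction_on with
  | _ n ih =>
    intro G _ _ hn P m hm e hO
    classical
    haveI := Fintype.ofFinite G
    haveI := Fintype.ofFinite ↥(P : Subgroup G)
    rcases Cfsg.Agent.H51.relIndex_one_or_three P (by omega : 1 ≤ m) e with h1 | ⟨h3, hconj⟩
    · have hle : Subgroup.normalizer ((P : Subgroup G) : Set G) ≤
          Subgroup.centralizer ((P : Subgroup G) : Set G) := Subgroup.relIndex_eq_one.mp h1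
      rw [eq_top_of_complement P hle hO]
      infer_instance
    · have hcomm := Cfsg.Agent.H51.comm_of_equiv e
      have hfree : ∀ z ∈ (P : Subgroup G), z ≠ 1 → Subgroup.centralizer ({z} : Set G) ⊓
          Subgroup.normalizer ((P : Subgroup G) : Set G) =
            Subgroup.centralizer ((P : Subgroup G) : Set G) :=
        (Cfsg.Agent.S0945.result P m (by omega) e).2 (fun h0 => by
          have := h3.symm.trans h0
          norm_num at this)
      obtain ⟨σ, h⟩ := exists_freeThree P hcomm h3 hfree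
      obtain ⟨α, β, hα, hβ, hα1, hβ1, hαβ, hα2, hβ2, -⟩ :=
        Cfsg.Agent.H51.exists_three (by omega : 1 ≤ m) e
      have hz1 : (⟨α, hα⟩ : ↥(P : Subgroup G)) ≠ 1 := fun h0 => hα1 (congrArg Subtype.val h0)
      have hz2 : (⟨α, hα⟩ : ↥(P : Subgroup G)) * ⟨α, hα⟩ = 1 := Subtype.ext (by
        change α * α = 1
        rw [← pow_two, hα2])
      have hall : ∀ u : ↥(P : Subgroup G), u * u = 1 → u = 1 ∨ u = ⟨α, hα⟩ ∨ u = σ ⟨α, hα⟩ ∨
          u = σ (σ ⟨α, hα⟩) := by
        intro u hu
        by_cases hu1 : u = 1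
        · exact Or.inl hu1
        · right
          rw [← h.fus]
          obtain ⟨g, hg⟩ := hconj α hα u u.2 hα1 hα2 (fun h0 => hu1 (Subtype.ext h0)) (by
            have := congrArg Subtype.val hu
            rw [pow_two]; exact this)
          exact isConj_iff.mpr ⟨g, hg⟩
      have hcardP : Nat.card (P : Subgroup G) = 2 ^ m * 2 ^ m := by
        rw [Nat.card_congr e.toEquiv, Nat.card_congr Multiplicative.toAdd, Nat.card_prod,
          Nat.card_zmod]
      have h16 : 16 ≤ Nat.card (P : Subgroup G) := by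
        rw [hcardP]
        have : 2 ^ 2 ≤ 2 ^ m := Nat.pow_le_pow_right (by norm_num) hm
        nlinarith
      obtain ⟨M, hM⟩ := Cfsg.Agent.H4.exists_isPModular 2
      haveI : M.IsPrime := hM.2.1.isPrime
      obtain ⟨θ, hθ, hθ1⟩ := h.exists_linear h16 hz1 hz2 hall hM
        (hbound_aux P hcomm hα hα1 (hfree α hα hα1) hM)
      obtain ⟨N, hN, hNtop, hPN⟩ := exists_normal_sub h hθ hθ1
      -- induction
      let P' : Sylow 2 N := P.subtype hPN
      have hP' : (P' : Subgroup N) = (P : Subgroup G).subgroupOf N := rfl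
      have hlt : Nat.card N < n := by
        rw [← hn]
        apply lt_of_le_of_ne (Nat.le_of_dvd Nat.card_pos (Subgroup.card_subgroup_dvd_card N))
        intro h0
        exact hNtop (Subgroup.eq_top_of_card_eq N h0)
      have hnorm := ih (Nat.card N) hlt N rfl P' m hm
        ((Subgroup.subgroupOfEquivOfLe hPN).trans e) (pPrimeCore_sub hO N)
      haveI : (P' : Subgroup N).Characteristic := P'.characteristic_of_normal hnorm
      have h5 : ((P' : Subgroup N).map N.subtype).Normal := inferInstance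
      rwa [hP', Subgroup.subgroupOf_map_subtype, inf_eq_left.mpr hPN] at h5

theorem homocyclic_main {G : Type u} [Group G] [Finite G] (P : Sylow 2 G) (m : ℕ) (hm : 2 ≤ m)
    (e : (P : Subgroup G) ≃* Multiplicative (ZMod (2 ^ m) × ZMod (2 ^ m)))
    (hO : pPrimeCore 2 G = ⊥) : (P : Subgroup G).Normal ∧
      Subgroup.centralizer ((P : Subgroup G) : Set G) = (P : Subgroup G) ∧
      ((P : Subgroup G).index = 1 ∨ (P : Subgroup G).index = 3) := by
  have hn := homocyclic_normal _ G rfl P m hm e hO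
  have hcomm := Cfsg.Agent.H51.comm_of_equiv e
  have hPC : (P : Subgroup G) ≤ Subgroup.centralizer ((P : Subgroup G) : Set G) := by
    intro x hx
    rw [Subgroup.mem_centralizer_iff]
    intro y hy
    exact hcomm y hy x hx
  have hC : Subgroup.centralizer ((P : Subgroup G) : Set G) = (P : Subgroup G) := by
    haveI : (Subgroup.centralizer ((P : Subgroup G) : Set G)).Normal := Subgroup.normal_centralizer
    let Q : Sylow 2 (Subgroup.centralizer ((P : Subgroup G) : Set G)) := P.subtype hPC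
    have hQ : (Q : Subgroup (Subgroup.centralizer ((P : Subgroup G) : Set G))) =
      (P : Subgroup G).subgroupOf (Subgroup.centralizer ((P : Subgroup G) : Set G)) := rfl
    have h1 := eq_top_of_complement Q (by
      intro x _
      rw [Subgroup.mem_centralizer_iff]
      intro y hy
      exact Subtype.ext (Subgroup.mem_centralizer_iff.mp x.2 (y : G) hy))
      (pPrimeCore_sub hO _)
    rw [hQ, Subgroup.subgroupOf_eq_top] at h1
    exact le_antisymm h1 hPC
  refine ⟨hn, hC, ?_⟩
  have h2 := Cfsg.Agent.H51.relIndex_one_or_three P (by omega : 1 ≤ m) e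
  have h3 : Subgroup.normalizer ((P : Subgroup G) : Set G) = ⊤ := Subgroup.normalizer_eq_top_iff.mpr hn
  rw [hC, h3, Subgroup.relIndex_top_right] at h2
  rcases h2 with h2 | h2
  · exact Or.inl h2
  · exact Or.inr h2.1

end Cfsg.Agent.BlkInd
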