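import Mathlib
import Cfsg.Agent.BlkInd.ModInd

set_option autoImplicit false
set_option linter.style.haveILetI false
set_option linter.unusedSimpArgs false
set_option linter.unusedSectionVars false
set_option linter.unusedVariables false

/-!
# Brauer pairs and induced blocks
-/

namespace Cfsg.Agent.BlkInd

open scoped BigOperators ComplexConjugate
open Cfsg Cfsg.Agent.CharBase MonoidAlgebra

universe u v w

section Pair

variable {k : Type*} [Field k] {G : Type*} [Group G] [Finite G] {p : ℕ} [Fact p.Prime] [CharP k p]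

/-- A defect group is the subgroup of a maximal pair. -/
theorem exists_max_pair {b : MonoidAlgebra k G} (hb : Blk.IsBlk ⊤ b) {D : Subgroup G}
    (hD : Blk.IsDef p ⊤ b D) : ∃ e, Blk.MPairOf p b D e ∧ Blk.MMax p D e := by
  obtain ⟨R, g, hR, hle⟩ := Blk.exists_max_ge (Blk.mpair_bot (p := p) hb)
  have h0 : Blk.MPairOf p b (⊥ : Subgroup G) b := by
    refine ⟨Blk.mpair_bot hb, hb, ?_⟩
    rw [Blk.br, Blk.centralizer_bot']
    have : Blk.trunc ⊤ b = b := by
      apply Blk.ga_ext
      intro g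
      rw [Blk.trunc_coeff_of_mem _ (Subgroup.mem_top g)]
    rw [this, hb.idem]
  have hg : Blk.MPairOf p b R g := (hle.pairOf_iff hR.1).2 h0
  obtain ⟨u, -, hu⟩ := (hR.isDef hg).conj hD
  rw [hu]
  exact ⟨Blk.cj u g, hg.cj u, hR.cj u⟩

/-- The block of a maximal pair has the centre as its defect group. -/
theorem isDef_center_of_max {P : Subgroup G} {e : MonoidAlgebra k G} (h : Blk.MMax p P e) :
    Blk.IsDef p (Subgroup.centralizer (P : Set G)) e (P ⊓ Subgroup.centralizer (P : Set G)) := by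
  obtain ⟨-, u, hu1, hu2⟩ := h.centralizer_defect (Blk.MLe.refl P e)
  have h1 : P.map (MulAut.conj u).toMonoidHom = P := by
    apply Subgroup.eq_of_le_of_card_ge hu1.le
    rw [Blk.card_map_conj]
  rw [h1] at hu1 hu2
  have h2 := hu1.eq_of_eq h.1
  rw [h2] at hu2
  exact hu2

theorem centralizer_conj_inf {P : Subgroup G} {u : G} (hu : u ∈ Subgroup.centralizer (P : Set G)) :
    (P ⊓ Subgroup.centralizer (P : Set G)).map (MulAut.conj u).toMonoidHom =
      P ⊓ Subgroup.centralizer (P : Set G) := by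
  apply Blk.map_conj_of_mem_normalizer
  rw [Subgroup.mem_normalizer_iff]
  have h1 : ∀ x, x ∈ P → u * x * u⁻¹ = x := by
    intro x hx
    rw [← Subgroup.mem_centralizer_iff.mp hu x hx, mul_assoc, mul_inv_cancel, mul_one]
  intro x
  constructor
  · intro hx
    rw [h1 x hx.1]
    exact hx
  · intro hx
    have h2 : u⁻¹ * (u * x * u⁻¹) * u⁻¹⁻¹ = u * x * u⁻¹ := by
      have h3 := Subgroup.mem_centralizer_iff.mp ((Subgroup.centralizer (P : Set G)).inv_mem hu) _ hx.1
      rw [← h3, mul_assoc, mul_inv_cancel, mul_one]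
    have h4 : u⁻¹ * (u * x * u⁻¹) * u⁻¹⁻¹ = x := by group
    rw [h4] at h2
    rw [h2]
    exact hx

end Pair

section Ind

variable {G : Type u} [Group G] [Fintype G] {M : Ideal AlgInt} [hM : M.IsPrime] {H : Subgroup G} [Fintype H]
  {p : ℕ} [hp : Fact p.Prime]

/-- A pair of `b` whose centralizer lies in `H` is a pair of the induced block. -/
theorem mpairOf_of_induced (hMod : IsPModular p M) {b : Set (IrrCharacter H)} {B : Set (IrrCharacter G)}
    (hind : IsInducedBlock M H b B) {D : Subgroup H} {e : MonoidAlgebra (Blk.kM M) H}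
    (he : Blk.MPairOf p (Blk.eB M b) D e)
    (hC : Subgroup.centralizer ((D.map H.subtype : Subgroup G) : Set G) ≤ H) :
    Blk.MPairOf p (Blk.eB M B) (D.map H.subtype) (Blk.incl H e) := by
  haveI := Blk.charP_kM hMod
  have hEB := Blk.isBlk_eB hind.2.1
  have hEb := Blk.isBlk_eB hind.1
  obtain ⟨ξ, hξ⟩ := Blk.isPBlock_nonempty hind.1
  obtain ⟨χ, hχ⟩ := Blk.isPBlock_nonempty hind.2.1
  have hpG := (BlkF.mpair_incl_iff_of_le hC).mp he.1
  refine ⟨hpG, hEB, ?_⟩
  set a := Blk.res H (Blk.eB M B) with ha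
  have haF : Blk.Fixed ⊤ a := fixed_res (hEB.fixed.mono le_top)
  set z := Blk.br D a with hz
  have hzi : Blk.incl H z = Blk.br (D.map H.subtype) (Blk.eB M B) := br_incl_res hC _
  have hzz : z * z = z := by
    apply Blk.incl_injective (H := H)
    rw [Blk.incl_mul, hzi, Blk.br_idem hEB hpG.isPGroup]
  have hzF : Blk.Fixed (Subgroup.centralizer (D : Set H)) z := haF.mono le_top |>.br (Blk.centralizer_le_normalizer D)
  have hcase := he.1.blk.prim z (Blk.supp_br D a) hzF hzz
  have hcomm : z * e = e * z :=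
    Blk.mul_comm_of_fixed hzF he.1.blk.supp
  rcases hcase with h1 | h1
  · rw [← hzi, ← Blk.incl_mul, hcomm, h1]
  · exfalso
    rcases hEb.nilpotent_or_unit ⟨Blk.supp_top a, haF⟩ with h2 | ⟨w, hw, haw⟩
    · rw [Blk.isNilpotent_mul_eB_iff hind.1 hξ haF, ha, lam_res hind hξ hχ hEB.fixed,
        Blk.lam_eB hind.2.1, if_pos hχ] at h2
      exact one_ne_zero h2
    · have h3 := he.2.2
      rw [← haw, Blk.br_mul he.1.isPGroup (haF.mono le_top) (hw.2.mono le_top), ← hz] at h3
      have h4 : Blk.br D w * e = e * Blk.br D w :=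
        Blk.mul_comm_of_fixed ((hw.2.mono le_top).br (Blk.centralizer_le_normalizer D)) he.1.blk.supp
      rw [mul_assoc, h4, ← mul_assoc, hcomm, h1, zero_mul] at h3
      exact he.1.blk.ne_zero h3.symm

/-- If `b` induces `B`, `D₀` is a defect group of `b` and `C_G(D₀) ≤ H` then some defect group `D` of
`B` contains `D₀` and `C_D(D₀) ≤ Z(D₀)`. -/
theorem exists_defect_centric (hMod : IsPModular p M) {b : Set (IrrCharacter H)} {B : Set (IrrCharacter G)}
    (hind : IsInducedBlock M H b B) {D₀ : Subgroup H} (hD₀ : IsDefectGroup p M b D₀)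
    (hC : Subgroup.centralizer ((D₀.map H.subtype : Subgroup G) : Set G) ≤ H) :
    ∃ D : Subgroup G, IsDefectGroup p M B D ∧ D₀.map H.subtype ≤ D ∧
      D ⊓ Subgroup.centralizer ((D₀.map H.subtype : Subgroup G) : Set G) ≤
        (D₀ ⊓ Subgroup.centralizer (D₀ : Set H)).map H.subtype := by
  haveI := Blk.charP_kM hMod
  rw [Blk.isDefectGroup_iff hMod hind.1] at hD₀
  have hEb := Blk.isBlk_eB hind.1
  obtain ⟨e, he, hmax⟩ := exists_max_pair hEb hD₀
  have hpG := mpairOf_of_induced hMod hind he hC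
  have hdef := isDef_center_of_max hmax
  rw [← BlkF.isDef_incl_iff, BlkF.map_subtype_centralizer, inf_eq_left.mpr hC] at hdef
  obtain ⟨D, g, hDmax, hle⟩ := Blk.exists_max_ge hpG.1
  have hg : Blk.MPairOf p (Blk.eB M B) D g := (hle.pairOf_iff hDmax.1).2 hpG
  refine ⟨D, (Blk.isDefectGroup_iff hMod hind.2.1 D).mpr (hDmax.isDef hg), hle.le, ?_⟩
  have h1 := Blk.MLe.br_inf_centralizer_ne hDmax.1 hle
  obtain ⟨u, hu, h2⟩ := hdef.le_of_br_ne inf_le_right (hDmax.1.isPGroup.to_le inf_le_left) h1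
  have h3 : (D₀ ⊓ Subgroup.centralizer (D₀ : Set H)).map H.subtype =
      D₀.map H.subtype ⊓ Subgroup.centralizer ((D₀.map H.subtype : Subgroup G) : Set G) := by
    rw [Subgroup.map_inf_eq _ _ _ H.subtype_injective, BlkF.map_subtype_centralizer, inf_eq_left.mpr hC]
  rw [h3, centralizer_conj_inf hu] at h2
  rw [h3]
  exact h2

end Ind


section CenterMap

variable {G : Type u} [Group G]

theorem center_map_subtype (D : Subgroup G) :
    (Subgroup.center D).map D.subtype = D ⊓ Subgroup.centralizer (D : Set G) := by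
  ext x
  constructor
  · rintro ⟨y, hy, rfl⟩
    refine ⟨y.2, ?_⟩
    show (y : G) ∈ Subgroup.centralizer (D : Set G)
    rw [Subgroup.mem_centralizer_iff]
    intro z hz
    have := Subgroup.mem_center_iff.mp hy ⟨z, hz⟩
    exact congrArg Subtype.val this
  · rintro ⟨hx1, hx2⟩
    refine ⟨⟨x, hx1⟩, ?_, rfl⟩
    show (⟨x, hx1⟩ : D) ∈ Subgroup.center D
    rw [Subgroup.mem_center_iff]
    intro z
    exact Subtype.ext (Subgroup.mem_centralizer_iff.mp hx2 z z.2)

end CenterMap

end Cfsg.Agent.BlkInd
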