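import Mathlib
import Cfsg.Agent.H76.AlperinDade2
import Cfsg.Agent.H76.CoverAll
import Cfsg.Agent.Char.ClassSum
import Cfsg.Agent.Char.CentralChar

set_option autoImplicit false
set_option linter.style.haveILetI false
set_option linter.unusedSimpArgs false
set_option linter.unusedSectionVars false
set_option linter.unusedVariables false

/-!
# Extensions of characters of the principal block, `G = N C_G(P)`
-/

namespace Cfsg.Agent.BlkInd

open scoped BigOperators ComplexConjugate commutatorElement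
open Cfsg Cfsg.Agent.CharBase Cfsg.Agent.Char Cfsg.Agent.Blk Cfsg.Agent.H76

universe u v w

section SumN

variable {G : Type u} [Group G] [Fintype G]

/-- product formula over a subgroup on which the character stays irreducible -/
theorem sum_conj_mul_sub (N : Subgroup G) [Fintype N] {χ : G → ℂ} (hχ : IsIrrCharacter G χ)
    (hN : IsIrrCharacter N (fun n => χ n)) (u v : G) :
    ∑ n : N, χ (u * ((n : G) * v * (n : G)⁻¹)) = (Nat.card N : ℂ) * χ u * χ v / χ 1 := by
  classical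
  obtain ⟨k, ρ, hρ, rfl⟩ := hχ
  let σ : Representation ℂ N (Fin k → ℂ) := MonoidHom.comp ρ N.subtype
  have hσ : σ.IsIrreducible := isIrreducible_of_character σ hN
  let T : (Fin k → ℂ) →ₗ[ℂ] (Fin k → ℂ) := ∑ n : N, ρ ((n : G) * v * (n : G)⁻¹)
  have hT : ∀ (g : N) (x : Fin k → ℂ), T (σ g x) = σ g (T x) := by
    intro g x
    have h1 : T * ρ (g : G) = ρ (g : G) * T := by
      simp only [T, Finset.sum_mul, Finset.mul_sum, ← map_mul]
      refine Fintype.sum_equiv (Equiv.mulLeft g⁻¹) _ _ fun n => ?_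
      congr 1
      simp only [Equiv.coe_mulLeft, Subgroup.coe_mul, Subgroup.coe_inv]
      group
    exact congrArg (fun f : Module.End ℂ (Fin k → ℂ) => f x) h1
  have h2 := schur_scalar_trace σ T hT
  have h3 : LinearMap.trace ℂ _ T = (Nat.card N : ℂ) * ρ.character v := by
    simp only [T, map_sum]
    rw [Finset.sum_congr rfl (g := fun _ => ρ.character v), Finset.sum_const, Finset.card_univ,
      nsmul_eq_mul, Nat.card_eq_fintype_card]
    intro n _
    exact Representation.char_conj ρ v n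
  have h4 : ∑ n : N, ρ.character (u * ((n : G) * v * (n : G)⁻¹)) =
      LinearMap.trace ℂ _ (ρ u * T) := by
    simp only [T, Finset.mul_sum, map_sum, ← map_mul]
    rfl
  rw [h4, h2, h3, mul_smul_comm, map_smul, smul_eq_mul]
  have h5 : (LinearMap.id : (Fin k → ℂ) →ₗ[ℂ] (Fin k → ℂ)) = 1 := rfl
  rw [h5, mul_one]
  have h6 : ρ.character 1 = (Module.finrank ℂ (Fin k → ℂ) : ℂ) := Representation.char_one ρ
  rw [h6]
  change _ * ρ.character u = _
  ring

end SumN

section Index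

variable {G : Type u} [Group G] [Finite G]

/-- size of the `N`-class -/
noncomputable def mN (N : Subgroup G) (g : G) : ℕ := (Subgroup.centralizer ({g} : Set G)).relIndex N

theorem relIndex_eq_of_sup {C N : Subgroup G} [hN : N.Normal] (h : N ⊔ C = ⊤) :
    C.relIndex N = C.index := by
  have h1 : N.relIndex C = N.index := by
    rw [← Subgroup.relIndex_sup_right, sup_comm, h, Subgroup.relIndex_top_right]
  have h2 : C.relIndex N * N.index = (C ⊓ N).index := by
    rw [← Subgroup.inf_relIndex_right, Subgroup.relIndex_mul_index inf_le_right]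
  have h3 : N.relIndex C * C.index = (C ⊓ N).index := by
    rw [← Subgroup.inf_relIndex_right, Subgroup.relIndex_mul_index inf_le_right, inf_comm]
  rw [h1, mul_comm] at h3
  rw [← h3] at h2
  exact Nat.eq_of_mul_eq_mul_right (Nat.pos_of_ne_zero N.index_ne_zero_of_finite) h2

/-- the class sizes in `Y = N⟨x⟩` and in `N` agree on the coset `Nx` -/
theorem index_centralizer_eq_mN (N Y : Subgroup G) [hN : N.Normal] (hNY : N ≤ Y) (z : Y)
    (hY : Y ≤ N ⊔ Subgroup.zpowers (z : G)) :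
    (Subgroup.centralizer ({z} : Set Y)).index = mN N (z : G) := by
  have h1 : Subgroup.centralizer ({z} : Set Y) =
      (Subgroup.centralizer ({(z : G)} : Set G)).subgroupOf Y := by
    ext y
    rw [Subgroup.mem_subgroupOf, Subgroup.mem_centralizer_singleton_iff,
      Subgroup.mem_centralizer_singleton_iff]
    exact ⟨fun h => congrArg Subtype.val h, fun h => Subtype.ext h⟩
  haveI : (N.subgroupOf Y).Normal := inferInstance
  have h2 : N.subgroupOf Y ⊔ Subgroup.centralizer ({z} : Set Y) = ⊤ := by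
    rw [eq_top_iff]
    intro y _
    have h3 := hY y.2
    rw [Subgroup.mem_sup_of_normal_left] at h3
    obtain ⟨n, hn, c, hc, hnc⟩ := h3
    have hcY : c ∈ Y := by
      have : c = n⁻¹ * (y : G) := by rw [← hnc]; group
      rw [this]
      exact Y.mul_mem (Y.inv_mem (hNY hn)) y.2
    have h4 : y = ⟨n, hNY hn⟩ * ⟨c, hcY⟩ := Subtype.ext hnc.symm
    rw [h4]
    apply Subgroup.mul_mem
    · exact Subgroup.mem_sup_left (Subgroup.mem_subgroupOf.mpr hn)
    · apply Subgroup.mem_sup_right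
      rw [Subgroup.mem_centralizer_singleton_iff]
      apply Subtype.ext
      change c * (z : G) = z * c
      obtain ⟨k, hk⟩ := Subgroup.mem_zpowers_iff.mp hc
      rw [← hk]
      exact ((Commute.refl (z : G)).zpow_left k).eq
  rw [← relIndex_eq_of_sup h2, h1]
  unfold mN
  rw [Subgroup.relIndex_subgroupOf hNY]

end Index

section Irr

variable {G : Type u} [Group G] [Fintype G]

theorem irr_restrict_of_le (N Y : Subgroup G) (hNY : N ≤ Y) {χ : G → ℂ} (hχ : IsCharacter G χ)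
    (hN : IsIrrCharacter N (fun n => χ n)) : IsIrrCharacter Y (fun y => χ y) := by
  obtain ⟨k, ρ, rfl⟩ := hχ
  refine ⟨k, MonoidHom.comp ρ Y.subtype, ?_, rfl⟩
  apply isIrreducible_of_comp (MonoidHom.comp ρ Y.subtype) (Subgroup.inclusion hNY)
  exact isIrreducible_of_character _ hN

theorem commutator_mem_of_sup_zpowers (N : Subgroup G) [hN : N.Normal] (x : G) {a b : G}
    (ha : a ∈ N ⊔ Subgroup.zpowers x) (hb : b ∈ N ⊔ Subgroup.zpowers x) : ⁅a, b⁆ ∈ N := by
  have key : ∀ a ∈ N ⊔ Subgroup.zpowers x, ∃ k : ℤ, (QuotientGroup.mk a : G ⧸ N) =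
      (QuotientGroup.mk x : G ⧸ N) ^ k := by
    intro a ha
    rw [Subgroup.mem_sup_of_normal_left] at ha
    obtain ⟨n, hn, c, hc, rfl⟩ := ha
    obtain ⟨k, rfl⟩ := Subgroup.mem_zpowers_iff.mp hc
    refine ⟨k, ?_⟩
    rw [QuotientGroup.mk_mul, (QuotientGroup.eq_one_iff n).mpr hn, one_mul, QuotientGroup.mk_zpow]
  obtain ⟨i, hi⟩ := key a ha
  obtain ⟨j, hj⟩ := key b hb
  rw [← QuotientGroup.eq_one_iff, commutatorElement_def]
  rw [QuotientGroup.mk_mul, QuotientGroup.mk_mul, QuotientGroup.mk_mul, QuotientGroup.mk_inv,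
    QuotientGroup.mk_inv, hi, hj]
  group

end Irr

section Zeta

variable {G : Type u} [Group G] [Fintype G] {M : Ideal AlgInt} [hMp : M.IsPrime] {p : ℕ}
  [hp : Fact p.Prime]

/-- on each coset of `N` the central characters of an extension of `θ ∈ B₀(N)` are a root of unity
times the augmentation -/
theorem exists_zetaN (hM : IsPModular p M) (N : Subgroup G) [hNn : N.Normal] [Fintype N]
    {θ : IrrCharacter N} (hθ : θ ∈ principalBlock M N) {χ0 : IrrCharacter G}
    (hext : ∀ n : N, (χ0 : G → ℂ) n = (θ : N → ℂ) n) (x : G) :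
    ∃ ζ : ℂ, (∃ k : ℕ, 0 < k ∧ ζ ^ k = 1) ∧ ∀ z : G, z * x⁻¹ ∈ N →
      IsIntegral ℤ ((mN N z : ℂ) * ((χ0 : G → ℂ) z / (χ0 : G → ℂ) 1)) ∧
        rd M ((mN N z : ℂ) * ((χ0 : G → ℂ) z / (χ0 : G → ℂ) 1)) = rd M ζ * (mN N z : kM M) := by
  classical
  set Y := N ⊔ Subgroup.zpowers x with hYdef
  have hNY : N ≤ Y := le_sup_left
  haveI : Fintype Y := Fintype.ofFinite _
  haveI : Fintype (N.subgroupOf Y) := Fintype.ofFinite _
  haveI : (N.subgroupOf Y).Normal := inferInstance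
  let e : N.subgroupOf Y ≃* N := Subgroup.subgroupOfEquivOfLe hNY
  let θ' : IrrCharacter (N.subgroupOf Y) := ⟨fun x => (θ : N → ℂ) (e x),
    isIrrCharacter_comp_surjective θ.2 e.toMonoidHom e.surjective⟩
  have hθ' : θ' ∈ principalBlock M (N.subgroupOf Y) :=
    comp_equiv_mem_principalBlock e hθ fun x => rfl
  have hχ1 : (χ0 : G → ℂ) 1 ≠ 0 := irr_one_ne_zero χ0.2
  have hχN : IsIrrCharacter N (fun n => (χ0 : G → ℂ) n) := by
    have : (fun n : N => (χ0 : G → ℂ) n) = (θ : N → ℂ) := funext hext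
    rw [this]; exact θ.2
  let η : IrrCharacter Y := ⟨fun y => (χ0 : G → ℂ) y,
    irr_restrict_of_le N Y hNY (irr_isCharacter χ0) hχN⟩
  have hη : ∀ n : N.subgroupOf Y, (η : Y → ℂ) n = (θ' : N.subgroupOf Y → ℂ) n := fun n =>
    hext (e n)
  -- a character of `B₀(Y)` over `θ'`
  obtain ⟨ψ, hψ, hψθ⟩ := exists_over_of_covers (N := N.subgroupOf Y) hM
    (isPBlock_principalBlock (M := M) (G := Y))
    (isPBlock_principalBlock (M := M) (G := N.subgroupOf Y))
    ⟨oneIrr Y, oneIrr_mem_principalBlock, oneIrr (N.subgroupOf Y), oneIrr_mem_principalBlock, by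
      have h1 := classInner_irr_self (oneIrr (N.subgroupOf Y))
      change classInner (oneIrr (N.subgroupOf Y) : N.subgroupOf Y → ℂ)
        (oneIrr (N.subgroupOf Y) : N.subgroupOf Y → ℂ) ≠ 0
      rw [h1]; exact one_ne_zero⟩ hθ'
  obtain ⟨β, hβN, hβη⟩ := exists_gallagher (N.subgroupOf Y) θ'.2 η.2 hη ψ.2 hψθ
  have hβ1 : (β : Y → ℂ) 1 = 1 := by
    refine Cfsg.Agent.Char.CC.degree_one_of_commutator β.2 fun a b => ?_
    apply hβN
    rw [Subgroup.mem_subgroupOf]
    exact commutator_mem_of_sup_zpowers N x a.2 b.2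
  have hβmul := linChar_mul (irr_isCharacter β) hβ1
  have hxY : x ∈ Y := Subgroup.mem_sup_right (Subgroup.mem_zpowers x)
  have hβpow : (β : Y → ℂ) ⟨x, hxY⟩ ^ Nat.card Y = 1 :=
    linChar_pow_card (irr_isCharacter β) hβ1 _
  have hβx0 : (β : Y → ℂ) ⟨x, hxY⟩ ≠ 0 := linChar_ne_zero (irr_isCharacter β) hβ1 _
  have hcardpos : 0 < Nat.card Y := Nat.card_pos
  refine ⟨((β : Y → ℂ) ⟨x, hxY⟩)⁻¹, ⟨Nat.card Y, hcardpos, by rw [inv_pow, hβpow, inv_one]⟩, ?_⟩
  intro z hz
  have hzY : z ∈ Y := by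
    have : z = z * x⁻¹ * x := by group
    rw [this]
    exact Y.mul_mem (hNY hz) hxY
  have hβz : (β : Y → ℂ) ⟨z, hzY⟩ = (β : Y → ℂ) ⟨x, hxY⟩ := by
    have e1 : (⟨z, hzY⟩ : Y) = ⟨z * x⁻¹, hNY hz⟩ * ⟨x, hxY⟩ := Subtype.ext (by
      change z = z * x⁻¹ * x; group)
    rw [e1, hβmul, hβN ⟨z * x⁻¹, hNY hz⟩ (Subgroup.mem_subgroupOf.mpr hz), hβ1, one_mul]
  have hidx : (Subgroup.centralizer ({(⟨z, hzY⟩ : Y)} : Set Y)).index = mN N z := by
    apply index_centralizer_eq_mN N Y hNY ⟨z, hzY⟩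
    change N ⊔ Subgroup.zpowers x ≤ N ⊔ Subgroup.zpowers z
    apply sup_le le_sup_left
    rw [Subgroup.zpowers_le]
    have : x = (z * x⁻¹)⁻¹ * z := by group
    rw [this]
    exact Subgroup.mul_mem _ (Subgroup.mem_sup_left (N.inv_mem hz))
      (Subgroup.mem_sup_right (Subgroup.mem_zpowers z))
  have hcc : centralChar (ψ : Y → ℂ) ⟨z, hzY⟩ = (β : Y → ℂ) ⟨x, hxY⟩ *
      ((mN N z : ℂ) * ((χ0 : G → ℂ) z / (χ0 : G → ℂ) 1)) := by
    unfold centralChar
    rw [hidx, hβη]
    simp only [Pi.mul_apply]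
    rw [hβz, hβ1]
    change _ * (_ * (χ0 : G → ℂ) z) / (1 * (χ0 : G → ℂ) 1) = _
    rw [one_mul]
    ring
  have hint : IsIntegral ℤ (centralChar (ψ : Y → ℂ) ⟨z, hzY⟩) :=
    isIntegral_centralChar ψ.2 (⟨z, hzY⟩ : Y)
  have hζint : IsIntegral ℤ (((β : Y → ℂ) ⟨x, hxY⟩)⁻¹) := by
    refine ⟨Polynomial.X ^ Nat.card Y - 1, Polynomial.monic_X_pow_sub_C 1 hcardpos.ne', ?_⟩
    simp only [Polynomial.eval₂_sub, Polynomial.eval₂_pow, Polynomial.eval₂_X,
      Polynomial.eval₂_one]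
    rw [inv_pow, hβpow, inv_one, sub_self]
  have hm : (mN N z : ℂ) * ((χ0 : G → ℂ) z / (χ0 : G → ℂ) 1) =
      ((β : Y → ℂ) ⟨x, hxY⟩)⁻¹ * centralChar (ψ : Y → ℂ) ⟨z, hzY⟩ := by
    rw [hcc, ← mul_assoc, inv_mul_cancel₀ hβx0, one_mul]
  refine ⟨by rw [hm]; exact hζint.mul hint, ?_⟩
  rw [hm, rd_mul (mlr_of_isIntegral hζint) (mlr_of_isIntegral hint)]
  congr 1
  have h1 : MemLocalIdeal M (centralChar (ψ : Y → ℂ) ⟨z, hzY⟩ - (mN N z : ℂ)) := by
    have h2 := hψ ⟨z, hzY⟩
    have h3 : centralChar (fun _ : Y => (1 : ℂ)) ⟨z, hzY⟩ = (mN N z : ℂ) := by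
      unfold centralChar
      rw [hidx]; ring
    rw [h3] at h2
    exact mli_symm h2
  rw [(rd_eq_iff (mlr_of_isIntegral hint) (mlr_natCast _)).mpr h1, rd_natCast]

end Zeta

end Cfsg.Agent.BlkInd
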