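import Mathlib
import Cfsg.Agent.BlkInd.NCent
import Cfsg.Agent.H76.SumMk

set_option autoImplicit false
set_option linter.style.haveILetI false
set_option linter.unusedSimpArgs false
set_option linter.unusedSectionVars false
set_option linter.unusedVariables false

/-!
# Extensions of characters of the principal block, `G = N C_G(P)`: multiplicativity
-/

namespace Cfsg.Agent.BlkInd

open scoped BigOperators ComplexConjugate commutatorElement
open Cfsg Cfsg.Agent.CharBase Cfsg.Agent.Char Cfsg.Agent.Blk Cfsg.Agent.H76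

universe u v w

section Orbit

variable {M : Ideal AlgInt} [hMp : M.IsPrime]

theorem rd_orbit_sum {Γ Ω : Type*} [Group Γ] [Finite Γ] [Fintype Ω] [MulAction Γ Ω] (f : Ω → ℂ)
    (hinv : ∀ (g : Γ) (ω : Ω), f (g • ω) = f ω) (c : kM M)
    (h : ∀ ω : Ω, MemLocalRing M ((Nat.card (MulAction.orbit Γ ω) : ℂ) * f ω) ∧
      rd M ((Nat.card (MulAction.orbit Γ ω) : ℂ) * f ω) =
        c * (Nat.card (MulAction.orbit Γ ω) : kM M)) :
    MemLocalRing M (∑ ω, f ω) ∧ rd M (∑ ω, f ω) = c * (Nat.card Ω : kM M) := by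
  classical
  haveI : Fintype (MulAction.orbitRel.Quotient Γ Ω) := Fintype.ofFinite _
  haveI : ∀ o : MulAction.orbitRel.Quotient Γ Ω, Fintype (MulAction.orbit Γ o.out) := fun o =>
    Fintype.ofFinite _
  let e := MulAction.selfEquivSigmaOrbits Γ Ω
  have h1 : ∑ ω, f ω = ∑ o : MulAction.orbitRel.Quotient Γ Ω,
      (Nat.card (MulAction.orbit Γ o.out) : ℂ) * f o.out := by
    rw [← Fintype.sum_equiv e.symm (fun s => f s.2.1) f (fun s => rfl), Fintype.sum_sigma]
    refine Finset.sum_congr rfl fun o _ => ?_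
    rw [Finset.sum_congr rfl (g := fun _ => f o.out), Finset.sum_const, Finset.card_univ,
      nsmul_eq_mul, Nat.card_eq_fintype_card]
    rintro ⟨ω, g, rfl⟩ _
    exact hinv g _
  have h2 : Nat.card Ω = ∑ o : MulAction.orbitRel.Quotient Γ Ω,
      Nat.card (MulAction.orbit Γ o.out) := by
    rw [Nat.card_congr e, Nat.card_sigma]
  rw [h1]
  refine ⟨mlr_sum _ _ fun o _ => (h _).1, ?_⟩
  rw [rd_sum _ _ fun o _ => (h _).1, h2, Nat.cast_sum, Finset.mul_sum]
  exact Finset.sum_congr rfl fun o _ => (h _).2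

end Orbit

section Mult

variable {G : Type u} [Group G] [Fintype G] {M : Ideal AlgInt} [hMp : M.IsPrime] {p : ℕ}
  [hp : Fact p.Prime]

/-- the centralizer in `N` -/
def cN (N : Subgroup G) (x : G) : Subgroup N :=
  (Subgroup.centralizer ({x} : Set G)).subgroupOf N

theorem mem_cN {N : Subgroup G} {x : G} {n : N} : n ∈ cN N x ↔ (n : G) * x = x * (n : G) := by
  unfold cN
  rw [Subgroup.mem_subgroupOf, Subgroup.mem_centralizer_singleton_iff]

theorem index_cN (N : Subgroup G) (x : G) : (cN N x).index = mN N x := rfl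

/-- the conjugate of `x` attached to a coset of `C_N(x)` -/
def cjN (N : Subgroup G) (x : G) (q : N ⧸ cN N x) : G :=
  Quotient.liftOn' q (fun n : N => (n : G) * x * (n : G)⁻¹) (by
    intro a b hab
    rw [QuotientGroup.leftRel_apply, mem_cN] at hab
    have h1 : ((a⁻¹ * b : N) : G) = (a : G)⁻¹ * b := rfl
    rw [h1] at hab
    have h2 : (b : G) * x = a * x * ((a : G)⁻¹ * b) := by
      calc (b : G) * x = a * ((a : G)⁻¹ * b * x) := by group
        _ = a * (x * ((a : G)⁻¹ * b)) := by rw [hab]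
        _ = _ := by group
    change (a : G) * x * (a : G)⁻¹ = (b : G) * x * (b : G)⁻¹
    rw [h2]; group)

theorem cjN_mk (N : Subgroup G) (x : G) (n : N) :
    cjN N x (QuotientGroup.mk n) = (n : G) * x * (n : G)⁻¹ := rfl

theorem cjN_smul (N : Subgroup G) (x : G) (n : N) (q : N ⧸ cN N x) :
    cjN N x (n • q) = (n : G) * cjN N x q * (n : G)⁻¹ := by
  induction q using QuotientGroup.induction_on with
  | H m =>
    have h1 : n • (QuotientGroup.mk m : N ⧸ cN N x) = QuotientGroup.mk (n * m) := rfl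
    rw [h1, cjN_mk, cjN_mk]
    have h2 : ((n * m : N) : G) = n * m := rfl
    rw [h2]; group

theorem cjN_mul_inv_mem (N : Subgroup G) [hNn : N.Normal] (x : G) (q : N ⧸ cN N x) :
    cjN N x q * x⁻¹ ∈ N := by
  induction q using QuotientGroup.induction_on with
  | H m =>
    rw [cjN_mk]
    have : (m : G) * x * (m : G)⁻¹ * x⁻¹ = m * (x * (m : G)⁻¹ * x⁻¹) := by group
    rw [this]
    exact N.mul_mem m.2 (hNn.conj_mem _ (N.inv_mem m.2) x)

theorem sum_cj (N : Subgroup G) [hNn : N.Normal] [Fintype N] {χ : G → ℂ}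
    (hχ : IsIrrCharacter G χ) (hN : IsIrrCharacter N (fun n => χ n)) (x y : G)
    [Fintype (N ⧸ cN N x)] [Fintype (N ⧸ cN N y)] :
    ∑ q : (N ⧸ cN N x) × (N ⧸ cN N y), χ (cjN N x q.1 * cjN N y q.2) / χ 1 =
      ((mN N x : ℂ) * (χ x / χ 1)) * ((mN N y : ℂ) * (χ y / χ 1)) := by
  classical
  have hχ1 : χ 1 ≠ 0 := irr_one_ne_zero hχ
  have hcl : IsClassFunction G χ := isClassFunction_of_isCharacter (irr_isCharacter ⟨χ, hχ⟩)
  have hA : (Nat.card (cN N y) : ℂ) ≠ 0 := by exact_mod_cast Nat.card_pos.ne'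
  have hcard : (Nat.card (cN N y) : ℂ) * (mN N y : ℂ) = Nat.card N := by
    rw [← index_cN]; exact_mod_cast (cN N y).card_mul_index
  have h1 : ∀ q : N ⧸ cN N x, ∑ r : N ⧸ cN N y, χ (cjN N x q * cjN N y r) =
      (mN N y : ℂ) * χ x * χ y / χ 1 := by
    intro q
    have h2 : ∑ n : N, χ (cjN N x q * ((n : G) * y * (n : G)⁻¹)) =
        (Nat.card (cN N y) : ℂ) * ∑ r : N ⧸ cN N y, χ (cjN N x q * cjN N y r) :=
      sum_mk_quotient (cN N y) (fun r => χ (cjN N x q * cjN N y r))
    rw [sum_conj_mul_sub N hχ hN] at h2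
    have h3 : χ (cjN N x q) = χ x := by
      induction q using QuotientGroup.induction_on with
      | H m =>
        rw [cjN_mk]
        exact hcl _ _
    rw [h3, ← hcard] at h2
    have h4 := mul_left_cancel₀ hA (a := (Nat.card (cN N y) : ℂ))
      (b := (mN N y : ℂ) * χ x * χ y / χ 1) (c := ∑ r : N ⧸ cN N y, χ (cjN N x q * cjN N y r)) (by
        rw [← h2]; ring)
    exact h4.symm
  rw [Fintype.sum_prod_type]
  simp only [← Finset.sum_div, h1]
  rw [Finset.sum_const, Finset.card_univ, nsmul_eq_mul]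
  have h5 : (Fintype.card (N ⧸ cN N x) : ℂ) = mN N x := by
    rw [← index_cN, Subgroup.index, Nat.card_eq_fintype_card]
  rw [h5]
  field_simp

/-- multiplicativity -/
theorem rd_mul_of_lam (N : Subgroup G) [hNn : N.Normal] [Fintype N] {χ : G → ℂ}
    (hχ : IsIrrCharacter G χ) (hN : IsIrrCharacter N (fun n => χ n)) (L : G → kM M)
    (hL : ∀ x z : G, z * x⁻¹ ∈ N → MemLocalRing M ((mN N z : ℂ) * (χ z / χ 1)) ∧
      rd M ((mN N z : ℂ) * (χ z / χ 1)) = L x * (mN N z : kM M)) (x y : G) :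
    L (x * y) * ((mN N x : kM M) * (mN N y : kM M)) =
      L x * (mN N x : kM M) * (L y * (mN N y : kM M)) := by
  classical
  have hχ1 : χ 1 ≠ 0 := irr_one_ne_zero hχ
  have hcl : IsClassFunction G χ := isClassFunction_of_isCharacter (irr_isCharacter ⟨χ, hχ⟩)
  haveI : Fintype (N ⧸ cN N x) := Fintype.ofFinite _
  haveI : Fintype (N ⧸ cN N y) := Fintype.ofFinite _
  have hself : ∀ z : G, z * z⁻¹ ∈ N := fun z => by rw [mul_inv_cancel]; exact N.one_mem
  have h1 := rd_orbit_sum (M := M) (Γ := N) (Ω := (N ⧸ cN N x) × (N ⧸ cN N y))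
    (fun q => χ (cjN N x q.1 * cjN N y q.2) / χ 1) (by
      rintro n ⟨q, r⟩
      change χ (cjN N x (n • q) * cjN N y (n • r)) / χ 1 = _
      rw [cjN_smul, cjN_smul]
      have h2 : (n : G) * cjN N x q * (n : G)⁻¹ * ((n : G) * cjN N y r * (n : G)⁻¹) =
          n * (cjN N x q * cjN N y r) * (n : G)⁻¹ := by group
      rw [h2]
      congr 1
      exact hcl _ _) (L (x * y)) (by
      rintro ⟨q, r⟩
      obtain ⟨hz1, hz2⟩ := hL (x * y) (cjN N x q * cjN N y r) (by
        have h3 : cjN N x q * cjN N y r * (x * y)⁻¹ =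
            (cjN N x q * x⁻¹) * (x * (cjN N y r * y⁻¹) * x⁻¹) := by group
        rw [h3]
        exact N.mul_mem (cjN_mul_inv_mem N x q) (hNn.conj_mem _ (cjN_mul_inv_mem N y r) x))
      set z := cjN N x q * cjN N y r with hz
      have h4 : mN N z ∣ Nat.card (MulAction.orbit N (q, r)) := by
        have h5 : Nat.card (MulAction.orbit N (q, r)) = (MulAction.stabilizer N (q, r)).index := by
          rw [MulAction.index_stabilizer]; rfl
        rw [h5, ← index_cN]
        apply Subgroup.index_dvd_of_le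
        intro n hn
        rw [MulAction.mem_stabilizer_iff] at hn
        have h6 : n • q = q := congrArg Prod.fst hn
        have h7 : n • r = r := congrArg Prod.snd hn
        have h8 := cjN_smul N x n q
        have h9 := cjN_smul N y n r
        rw [h6] at h8
        rw [h7] at h9
        rw [mem_cN, hz]
        calc (n : G) * (cjN N x q * cjN N y r) =
            ((n : G) * cjN N x q * (n : G)⁻¹) * ((n : G) * cjN N y r * (n : G)⁻¹) * n := by group
          _ = _ := by rw [← h8, ← h9]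
      obtain ⟨k, hk⟩ := h4
      have h10 : (Nat.card (MulAction.orbit N (q, r)) : ℂ) * (χ z / χ 1) =
          (k : ℂ) * ((mN N z : ℂ) * (χ z / χ 1)) := by
        rw [hk]; push_cast; ring
      change MemLocalRing M ((Nat.card (MulAction.orbit N (q, r)) : ℂ) * (χ z / χ 1)) ∧
        rd M ((Nat.card (MulAction.orbit N (q, r)) : ℂ) * (χ z / χ 1)) = _
      rw [h10]
      refine ⟨mlr_mul (mlr_natCast _) hz1, ?_⟩
      rw [rd_mul (mlr_natCast _) hz1, hz2, rd_natCast, hk]
      push_cast; ring)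
  rw [sum_cj N hχ hN, rd_mul (hL x x (hself x)).1 (hL y y (hself y)).1, (hL x x (hself x)).2,
    (hL y y (hself y)).2, Nat.card_prod] at h1
  have h6 : Nat.card (N ⧸ cN N x) = mN N x := rfl
  have h7 : Nat.card (N ⧸ cN N y) = mN N y := rfl
  rw [h6, h7] at h1
  rw [h1.2]
  push_cast; ring

end Mult

end Cfsg.Agent.BlkInd
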