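import Mathlib
import Cfsg.Agent.BlkInd.NCent2
import Cfsg.Agent.Char.ExtUnique

set_option autoImplicit false
set_option linter.style.haveILetI false
set_option linter.unusedSimpArgs false
set_option linter.unusedSectionVars false
set_option linter.unusedVariables false

/-!
# Extensions of characters of the principal block, `G = N C_G(P)`: the extension
-/

namespace Cfsg.Agent.BlkInd

open scoped BigOperators ComplexConjugate commutatorElement
open Cfsg Cfsg.Agent.CharBase Cfsg.Agent.Char Cfsg.Agent.Blk Cfsg.Agent.H76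

universe u v w

section Lift

variable {M : Ideal AlgInt} [hMp : M.IsPrime] {p : ℕ}
  [hp : Fact p.Prime]

theorem isIntegral_of_pow_one {ζ : ℂ} {k : ℕ} (hk : 0 < k) (h : ζ ^ k = 1) : IsIntegral ℤ ζ := by
  refine ⟨Polynomial.X ^ k - 1, Polynomial.monic_X_pow_sub_C 1 hk.ne', ?_⟩
  simp only [Polynomial.eval₂_sub, Polynomial.eval₂_pow, Polynomial.eval₂_X,
    Polynomial.eval₂_one]
  rw [h, sub_self]

/-- a root of unity and its `p`-prime part have the same reduction -/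
theorem exists_pprime_root (hM : IsPModular p M) {ζ : ℂ} {k : ℕ} (hk : 0 < k) (h : ζ ^ k = 1) :
    ∃ (ξ : ℂ) (m : ℕ), ¬ p ∣ m ∧ ξ ^ m = 1 ∧ rd M ξ = rd M ζ := by
  have := charP_kM hM
  obtain ⟨a, m, hm, rfl⟩ := Nat.exists_eq_pow_mul_and_not_dvd hk.ne' p hp.out.ne_one
  have hm0 : 0 < m := Nat.pos_of_ne_zero (by rintro rfl; simp at hm)
  have hζR : MemLocalRing M ζ := mlr_of_isIntegral (isIntegral_of_pow_one hk h)
  have hcop : Nat.Coprime (p ^ a) m := Nat.Coprime.pow_left a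
    ((Nat.Prime.coprime_iff_not_dvd hp.out).mpr hm)
  have h1 := Nat.ModEq.pow_totient hcop
  have h2 : 0 < Nat.totient m := Nat.totient_pos.mpr hm0
  have hE : 1 ≤ (p ^ a) ^ Nat.totient m := Nat.one_le_pow _ _ (pow_pos hp.out.pos a)
  obtain ⟨t, ht⟩ := (Nat.modEq_iff_dvd' hE).mp h1.symm
  have h3 : rd M ζ ^ m = 1 := by
    have h4 : (rd M ζ ^ m) ^ p ^ a = 1 := by
      rw [← pow_mul, mul_comm m, ← rd_pow hζR, h, rd_one]
    have h5 : (rd M ζ ^ m - 1) ^ p ^ a = 0 := by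
      rw [sub_pow_char_pow, h4, one_pow, sub_self]
    exact sub_eq_zero.1 (eq_zero_of_pow_eq_zero h5)
  refine ⟨ζ ^ ((p ^ a) ^ Nat.totient m), m, hm, ?_, ?_⟩
  · obtain ⟨s, hs⟩ : ∃ s, (p ^ a) ^ Nat.totient m = p ^ a * s :=
      ⟨(p ^ a) ^ (Nat.totient m - 1), by rw [mul_comm, pow_sub_one_mul h2.ne']⟩
    rw [hs, ← pow_mul]
    have : p ^ a * s * m = p ^ a * m * s := by ring
    rw [this, pow_mul, h, one_pow]
  · rw [rd_pow hζR]
    have h6 : (p ^ a) ^ Nat.totient m = m * t + 1 := by omega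
    rw [h6, pow_succ, pow_mul, h3, one_pow, one_mul]

/-- lifting linear characters -/
theorem exists_lift_hom (hM : IsPModular p M) {G : Type u} [Group G] [Fintype G] (L : G → kM M)
    (h1 : L 1 = 1) (hmul : ∀ x y, L (x * y) = L x * L y)
    (hroot : ∀ x, ∃ (ζ : ℂ) (k : ℕ), 0 < k ∧ ζ ^ k = 1 ∧ rd M ζ = L x) :
    ∃ (μ : G →* ℂ) (m : ℕ), ¬ p ∣ m ∧ (∀ x, μ x ^ m = 1) ∧ ∀ x, rd M (μ x) = L x := by
  classical
  have h2 : ∀ x, ∃ (ξ : ℂ) (m : ℕ), ¬ p ∣ m ∧ ξ ^ m = 1 ∧ rd M ξ = L x := by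
    intro x
    obtain ⟨ζ, k, hk, h, hr⟩ := hroot x
    obtain ⟨ξ, m, hm, hξ, hrξ⟩ := exists_pprime_root hM hk h
    exact ⟨ξ, m, hm, hξ, hrξ.trans hr⟩
  choose ξ m hm hξ hr using h2
  set n := ∏ x, m x with hn
  have hpn : ¬ p ∣ n := by
    rw [hn, Prime.dvd_finsetProd_iff hp.out.prime]
    rintro ⟨x, -, hx⟩
    exact hm x hx
  have hn0 : 0 < n := Nat.pos_of_ne_zero (by rintro h; rw [h] at hpn; simp at hpn)
  have hξn : ∀ x, ξ x ^ n = 1 := by
    intro x
    obtain ⟨t, ht⟩ : m x ∣ n := Finset.dvd_prod_of_mem m (Finset.mem_univ x)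
    rw [ht, pow_mul, hξ, one_pow]
  have hξR : ∀ x, MemLocalRing M (ξ x) := fun x =>
    mlr_of_isIntegral (isIntegral_of_pow_one hn0 (hξn x))
  refine ⟨{ toFun := ξ, map_one' := ?_, map_mul' := ?_ }, n, hpn, hξn, hr⟩
  · refine eq_of_mli_sub hM hpn (hξn 1) (one_pow _) ?_
    rw [← rd_eq_iff (hξR 1) mlr_one, hr, h1, rd_one]
  · intro x y
    refine eq_of_mli_sub hM hpn (hξn _) (by rw [mul_pow, hξn, hξn, one_mul]) ?_
    rw [← rd_eq_iff (hξR _) (mlr_mul (hξR x) (hξR y)), hr, rd_mul (hξR x) (hξR y), hr, hr, hmul]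

end Lift

section Main

variable {G : Type u} [Group G] [Fintype G] {M : Ideal AlgInt} [hMp : M.IsPrime] {p : ℕ}
  [hp : Fact p.Prime]

theorem not_dvd_mN (N : Subgroup G) (P : Sylow p N) {x : G}
    (hx : x ∈ Subgroup.centralizer (((P : Subgroup N).map N.subtype : Subgroup G) : Set G)) :
    ¬ p ∣ mN N x := by
  intro h
  have h1 : (P : Subgroup N) ≤ cN N x := by
    intro n hn
    rw [mem_cN]
    rw [Subgroup.mem_centralizer_iff] at hx
    exact hx (n : G) ⟨n, hn, rfl⟩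
  have h2 := Subgroup.index_dvd_of_le h1
  rw [index_cN] at h2
  exact P.not_dvd_index (h.trans h2)

theorem mN_dvd_index (N J : Subgroup G) [hNn : N.Normal] (hNJ : N ≤ J) (y : J) :
    mN N (y : G) ∣ (Subgroup.centralizer ({y} : Set J)).index := by
  have h1 : Subgroup.centralizer ({y} : Set J) =
      (Subgroup.centralizer ({(y : G)} : Set G)).subgroupOf J := by
    ext z
    rw [Subgroup.mem_subgroupOf, Subgroup.mem_centralizer_singleton_iff,
      Subgroup.mem_centralizer_singleton_iff]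
    exact ⟨fun h => congrArg Subtype.val h, fun h => Subtype.ext h⟩
  set C := Subgroup.centralizer ({y} : Set J) with hC
  set K := N.subgroupOf J with hK
  haveI : K.Normal := inferInstance
  have h2 : C.relIndex K * K.index = (C ⊓ K).index := by
    rw [← Subgroup.inf_relIndex_right, Subgroup.relIndex_mul_index inf_le_right]
  have h3 : K.relIndex C * C.index = (C ⊓ K).index := by
    rw [← Subgroup.inf_relIndex_right, Subgroup.relIndex_mul_index inf_le_right, inf_comm]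
  obtain ⟨t, ht⟩ := Subgroup.relIndex_dvd_index_of_normal K C
  have h4 : C.relIndex K * t = C.index := by
    have h5 : 0 < K.relIndex C := Nat.pos_of_ne_zero (K.subgroupOf C).index_ne_zero_of_finite
    apply Nat.eq_of_mul_eq_mul_left h5
    rw [h3, ← h2, ht]; ring
  have h6 : C.relIndex K = mN N (y : G) := by
    rw [h1]
    unfold mN
    rw [hK, Subgroup.relIndex_subgroupOf hNJ]
  rw [← h4, h6]
  exact dvd_mul_right _ _

/-- a character extending `θ` which lies in the principal block of all intermediate subgroups -/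
theorem exists_good_extension (hM : IsPModular p M) (N : Subgroup G) [hNn : N.Normal] [Fintype N]
    (P : Sylow p N)
    (hcov : N ⊔ Subgroup.centralizer (((P : Subgroup N).map N.subtype : Subgroup G) : Set G) = ⊤)
    {θ : IrrCharacter N} (hθ : θ ∈ principalBlock M N) {χ0 : IrrCharacter G}
    (hext : ∀ n : N, (χ0 : G → ℂ) n = (θ : N → ℂ) n) :
    ∃ (β : G →* ℂ) (χ : IrrCharacter G), (∀ g, (χ : G → ℂ) g = β g * (χ0 : G → ℂ) g) ∧
      (∀ n : N, (χ : G → ℂ) n = (θ : N → ℂ) n) ∧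
      ∀ z : G, MemLocalRing M ((mN N z : ℂ) * ((χ : G → ℂ) z / (χ : G → ℂ) 1)) ∧
        rd M ((mN N z : ℂ) * ((χ : G → ℂ) z / (χ : G → ℂ) 1)) = (mN N z : kM M) := by
  classical
  have := charP_kM hM
  have hχ1 : (χ0 : G → ℂ) 1 ≠ 0 := irr_one_ne_zero χ0.2
  have hχN : IsIrrCharacter N (fun n => (χ0 : G → ℂ) n) := by
    have : (fun n : N => (χ0 : G → ℂ) n) = (θ : N → ℂ) := funext hext
    rw [this]; exact θ.2
  choose ζ hζ hL using exists_zetaN hM N hθ hext
  set L : G → kM M := fun x => rd M (ζ x) with hLdef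
  have hL' : ∀ x z : G, z * x⁻¹ ∈ N →
      MemLocalRing M ((mN N z : ℂ) * ((χ0 : G → ℂ) z / (χ0 : G → ℂ) 1)) ∧
      rd M ((mN N z : ℂ) * ((χ0 : G → ℂ) z / (χ0 : G → ℂ) 1)) = L x * (mN N z : kM M) :=
    fun x z hz => ⟨mlr_of_isIntegral (hL x z hz).1, (hL x z hz).2⟩
  have hmN : ∀ x ∈ Subgroup.centralizer (((P : Subgroup N).map N.subtype : Subgroup G) : Set G),
      (mN N x : kM M) ≠ 0 := fun x hx => by
    rw [Ne, CharP.cast_eq_zero_iff (kM M) p]
    exact not_dvd_mN N P hx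
  have hrep : ∀ x : G, ∃ c ∈ Subgroup.centralizer
      (((P : Subgroup N).map N.subtype : Subgroup G) : Set G), c * x⁻¹ ∈ N ∧ L c = L x := by
    intro x
    have h1 : x ∈ N ⊔ Subgroup.centralizer
      (((P : Subgroup N).map N.subtype : Subgroup G) : Set G) := by rw [hcov]; trivial
    rw [Subgroup.mem_sup_of_normal_left] at h1
    obtain ⟨n, hn, c, hc, rfl⟩ := h1
    have h2 : c * (n * c)⁻¹ ∈ N := by
      have : c * (n * c)⁻¹ = n⁻¹ := by group
      rw [this]; exact N.inv_mem hn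
    refine ⟨c, hc, h2, ?_⟩
    have h3 := (hL' (n * c) c h2).2
    have h4 := (hL' c c (by rw [mul_inv_cancel]; exact N.one_mem)).2
    rw [h4] at h3
    exact mul_right_cancel₀ (hmN c hc) h3
  have hwell : ∀ x y : G, x * y⁻¹ ∈ N → L x = L y := by
    intro x y hxy
    obtain ⟨c, hc, hcx, hLc⟩ := hrep x
    have h1 : c * y⁻¹ ∈ N := by
      have : c * y⁻¹ = c * x⁻¹ * (x * y⁻¹) := by group
      rw [this]; exact N.mul_mem hcx hxy
    have h3 := (hL' x c hcx).2
    have h4 := (hL' y c h1).2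
    rw [h3] at h4
    exact mul_right_cancel₀ (hmN c hc) h4
  have hmul : ∀ x y : G, L (x * y) = L x * L y := by
    intro x y
    obtain ⟨c, hc, hcx, hLc⟩ := hrep x
    obtain ⟨d, hd, hdy, hLd⟩ := hrep y
    have h1 : L (x * y) = L (c * d) := by
      apply hwell
      have : x * y * (c * d)⁻¹ = (x * (y * d⁻¹) * x⁻¹) * (x * c⁻¹) := by group
      rw [this]
      apply N.mul_mem
      · apply hNn.conj_mem
        have : y * d⁻¹ = (d * y⁻¹)⁻¹ := by group
        rw [this]; exact N.inv_mem hdy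
      · have : x * c⁻¹ = (c * x⁻¹)⁻¹ := by group
        rw [this]; exact N.inv_mem hcx
    have h2 := rd_mul_of_lam (M := M) N χ0.2 hχN L hL' c d
    rw [h1, ← hLc, ← hLd]
    have h3 : (mN N c : kM M) * (mN N d : kM M) ≠ 0 := mul_ne_zero (hmN c hc) (hmN d hd)
    apply mul_right_cancel₀ h3
    rw [h2]; ring
  have hmN1 : mN N (1 : G) = 1 := by
    rw [← index_cN, Subgroup.index_eq_one, eq_top_iff]
    intro n _
    rw [mem_cN, one_mul, mul_one]
  have hL1 : L 1 = 1 := by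
    have h1 := (hL' 1 1 (by rw [mul_inv_cancel]; exact N.one_mem)).2
    rw [hmN1, div_self hχ1] at h1
    push_cast at h1
    rw [mul_one, mul_one, rd_one] at h1
    exact h1.symm
  have hLN : ∀ n ∈ N, L n = 1 := fun n hn => by
    rw [← hL1]; apply hwell; rw [inv_one, mul_one]; exact hn
  obtain ⟨μ, m, hpm, hμm, hμ⟩ := exists_lift_hom hM (fun x : G => L x⁻¹) (by rw [inv_one, hL1])
    (fun x y => by rw [mul_inv_rev, hmul, mul_comm]) (fun x => by
      obtain ⟨k, hk, hζk⟩ := hζ x⁻¹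
      exact ⟨ζ x⁻¹, k, hk, hζk, rfl⟩)
  have hm0 : 0 < m := Nat.pos_of_ne_zero (by rintro rfl; simp at hpm)
  have hμR : ∀ x, MemLocalRing M (μ x) := fun x =>
    mlr_of_isIntegral (isIntegral_of_pow_one hm0 (hμm x))
  have hμN : ∀ n ∈ N, μ n = 1 := by
    intro n hn
    refine eq_of_mli_sub hM hpm (hμm n) (one_pow _) ?_
    rw [← rd_eq_iff (hμR n) mlr_one, hμ, rd_one, hLN _ (N.inv_mem hn)]
  have hχ := isIrrCharacter_hom_mul χ0.2 μ
  refine ⟨μ, ⟨_, hχ⟩, fun g => rfl, ?_, ?_⟩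
  · intro n
    change μ n * (χ0 : G → ℂ) n = _
    rw [hμN n n.2, one_mul, hext]
  · intro z
    have h1 := hL' z z (by rw [mul_inv_cancel]; exact N.one_mem)
    have h2 : (mN N z : ℂ) * (μ z * (χ0 : G → ℂ) z / (μ 1 * (χ0 : G → ℂ) 1)) =
        μ z * ((mN N z : ℂ) * ((χ0 : G → ℂ) z / (χ0 : G → ℂ) 1)) := by
      rw [map_one, one_mul]; ring
    change MemLocalRing M ((mN N z : ℂ) * (μ z * (χ0 : G → ℂ) z / (μ 1 * (χ0 : G → ℂ) 1))) ∧
      rd M ((mN N z : ℂ) * (μ z * (χ0 : G → ℂ) z / (μ 1 * (χ0 : G → ℂ) 1))) = _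
    rw [h2]
    refine ⟨mlr_mul (hμR z) h1.1, ?_⟩
    rw [rd_mul (hμR z) h1.1, h1.2, hμ, ← mul_assoc, ← hmul, inv_mul_cancel, hL1, one_mul]

/-- a good extension lies in the principal block of every intermediate group -/
theorem good_mem (N : Subgroup G) [hNn : N.Normal] [Fintype N]
    {χ : IrrCharacter G} (hN : IsIrrCharacter N (fun n => (χ : G → ℂ) n))
    (h : ∀ z : G, MemLocalRing M ((mN N z : ℂ) * ((χ : G → ℂ) z / (χ : G → ℂ) 1)) ∧
        rd M ((mN N z : ℂ) * ((χ : G → ℂ) z / (χ : G → ℂ) 1)) = (mN N z : kM M))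
    (J : Subgroup G) [Fintype J] (hNJ : N ≤ J) :
    ∃ ξ : IrrCharacter J, ξ ∈ principalBlock M J ∧ ∀ y : J, (ξ : J → ℂ) y = (χ : G → ℂ) y := by
  classical
  refine ⟨⟨fun y => (χ : G → ℂ) y, irr_restrict_of_le N J hNJ (irr_isCharacter χ) hN⟩, ?_,
    fun y => rfl⟩
  intro y
  obtain ⟨k, hk⟩ := mN_dvd_index N J hNJ y
  obtain ⟨h1, h2⟩ := h (y : G)
  have h3 : centralChar (fun y : J => (χ : G → ℂ) y) y =
      (k : ℂ) * ((mN N (y : G) : ℂ) * ((χ : G → ℂ) y / (χ : G → ℂ) 1)) := by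
    unfold centralChar
    rw [hk]
    push_cast
    change _ * (χ : G → ℂ) y / (χ : G → ℂ) 1 = _
    ring
  have h4 : centralChar (fun _ : J => (1 : ℂ)) y = (k : ℂ) * (mN N (y : G) : ℂ) := by
    unfold centralChar
    rw [hk]; push_cast; ring
  change MemLocalIdeal M (centralChar (fun _ : J => (1 : ℂ)) y -
    centralChar (fun y : J => (χ : G → ℂ) y) y)
  have h5 : MemLocalRing M (mN N (y : G) : ℂ) := mlr_natCast _
  rw [h3, h4, ← rd_eq_iff (mlr_mul (mlr_natCast _) h5) (mlr_mul (mlr_natCast _) h1),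
    rd_mul (mlr_natCast _) h5, rd_mul (mlr_natCast _) h1, h2, rd_natCast, rd_natCast]

end Main

end Cfsg.Agent.BlkInd
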