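import Mathlib
import Cfsg.Agent.BlkInd.CoverD
import Cfsg.Agent.BlkInd.Canon
import Cfsg.Agent.BlkC.Rank

set_option autoImplicit false
set_option linter.style.haveILetI false
set_option linter.unusedSimpArgs false
set_option linter.unusedSectionVars false
set_option linter.unusedVariables false

/-!
# Block ranks modulo a normal `p`-subgroup `Q` with `G = Q C_G(Q)`
-/

namespace Cfsg.Agent.BlkInd

open scoped BigOperators ComplexConjugate
open Cfsg Cfsg.Agent.CharBase Cfsg.Agent.Blk Cfsg.Agent.BlkC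

universe u v w

variable {G : Type u} [Group G] [Fintype G] {M : Ideal AlgInt} [hM : M.IsPrime] {p : ℕ} [hp : Fact p.Prime]

/-- agreement on `p`-regular elements suffices for being in the same block. -/
theorem sameBlock_of_regular (hMod : IsPModular p M) {χ ψ : IrrCharacter G}
    (h : ∀ g : G, ¬ p ∣ orderOf g → MemLocalIdeal M (centralChar (χ : G → ℂ) g - centralChar (ψ : G → ℂ) g)) :
    SameBlock M (χ : G → ℂ) (ψ : G → ℂ) := by
  classical
  haveI : Finite (ConjClasses G) := Quotient.finite _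
  haveI := Fintype.ofFinite (ConjClasses G)
  set B := blockOf M (χ : G → ℂ) with hBdef
  have hB : IsPBlock M B := ⟨χ, rfl⟩
  have hχ : χ ∈ B := mem_blockOf_self χ
  have h1 := om_eB_of_mem hχ
  have h2 : MemLocalIdeal M (om (χ : G → ℂ) (eB B) - om (ψ : G → ℂ) (eB B)) := by
    rw [om_eq_sum_centralChar (irr_isClassFunction χ) (isCentr_eB B),
      om_eq_sum_centralChar (irr_isClassFunction ψ) (isCentr_eB B), ← Finset.sum_sub_distrib]
    refine mli_sum _ _ (fun c _ => ?_)
    rw [← mul_sub]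
    by_cases hc : p ∣ orderOf (Quotient.out c)
    · have : (eB B).coeff (Quotient.out c) = 0 := blockCoeff_eq_zero_of_dvd hMod hB hc
      rw [this, zero_mul]; exact mli_zero
    · exact mli_mul_left (intGA_eB hB _) (h _ hc)
  have h3 : ψ ∈ B := by
    by_contra hne
    rw [h1, om_eB_of_not_mem hne, sub_zero] at h2
    exact not_mli_one h2
  exact h3

section Quot

variable {Q : Subgroup G} [hQn : Q.Normal]

/-- `p`-regular elements in the same coset are equal -/
theorem eq_of_regular_of_mk (hQ : IsPGroup p Q) (hsup : Q ⊔ Subgroup.centralizer (Q : Set G) = ⊤)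
    {g g' : G} (hg : ¬ p ∣ orderOf g) (hg' : ¬ p ∣ orderOf g')
    (h : (QuotientGroup.mk g : G ⧸ Q) = QuotientGroup.mk g') : g = g' := by
  have h1 : g⁻¹ * g' ∈ Q := QuotientGroup.eq.mp h
  have hc := regular_mem_centralizer (p := p) hsup hQ hg
  have h2 : Commute (g⁻¹ * g') g := Subgroup.mem_centralizer_iff.mp hc _ h1
  obtain ⟨k, hk⟩ := (IsPGroup.iff_orderOf.mp hQ) ⟨_, h1⟩
  have h3 : orderOf (g⁻¹ * g') = p ^ k := by rw [← hk, ← Subgroup.orderOf_coe]
  have h4 := ppart_mul (p := p) h2 ⟨k, h3⟩ hg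
  have h5 : g⁻¹ * g' * g = g' := by
    have := h2.eq
    rw [this]; group
  rw [h5, ppart_of_regular hg'] at h4
  exact inv_mul_eq_one.mp h4.symm

theorem exists_regular_lift {y : G ⧸ Q} (hy : ¬ p ∣ orderOf y) :
    ∃ g : G, ¬ p ∣ orderOf g ∧ (QuotientGroup.mk g : G ⧸ Q) = y := by
  obtain ⟨g, rfl⟩ := QuotientGroup.mk_surjective y
  obtain ⟨s, hs1, hs2, ⟨k, hk⟩, hs4⟩ := ppart_spec (p := p) g
  refine ⟨s, hs4, ?_⟩
  set u := ppart p g with hu
  have hsd : orderOf (QuotientGroup.mk s : G ⧸ Q) ∣ orderOf s := orderOf_map_dvd (QuotientGroup.mk' Q) s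
  have hud : orderOf (QuotientGroup.mk u : G ⧸ Q) ∣ p ^ k := by
    rw [← hk]; exact orderOf_map_dvd (QuotientGroup.mk' Q) u
  obtain ⟨j, -, hj⟩ := (Nat.dvd_prime_pow hp.out).mp hud
  have e1 : IsPPart p (QuotientGroup.mk g : G ⧸ Q) (QuotientGroup.mk u) := by
    refine ⟨QuotientGroup.mk s, ?_, ?_, ⟨j, hj⟩, fun h => hs4 (h.trans hsd)⟩
    · rw [← QuotientGroup.mk_mul, hs1]
    · show (QuotientGroup.mk u : G ⧸ Q) * QuotientGroup.mk s = QuotientGroup.mk s * QuotientGroup.mk u
      rw [← QuotientGroup.mk_mul, ← QuotientGroup.mk_mul, hs2.eq]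
  have e2 : IsPPart p (QuotientGroup.mk g : G ⧸ Q) 1 :=
    ⟨QuotientGroup.mk g, one_mul _, Commute.one_left _, ⟨0, by simp⟩, hy⟩
  have e3 := isPPart_unique hp.out e1 e2
  rw [← hs1, QuotientGroup.mk_mul, e3, one_mul]

theorem regular_mk {g : G} (hg : ¬ p ∣ orderOf g) : ¬ p ∣ orderOf (QuotientGroup.mk g : G ⧸ Q) :=
  fun h => hg (h.trans (orderOf_map_dvd (QuotientGroup.mk' Q) g))

theorem orderOf_conj' (x g : G) : orderOf (x * g * x⁻¹) = orderOf g :=
  MulEquiv.orderOf_eq (MulAut.conj x) g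

/-- centralizer indices of `p`-regular elements -/
theorem index_centralizer_mk (hQ : IsPGroup p Q) (hsup : Q ⊔ Subgroup.centralizer (Q : Set G) = ⊤)
    {g : G} (hg : ¬ p ∣ orderOf g) :
    (Subgroup.centralizer ({g} : Set G)).index =
      (Subgroup.centralizer ({(QuotientGroup.mk g : G ⧸ Q)} : Set (G ⧸ Q))).index := by
  have h2 : (Subgroup.centralizer ({(QuotientGroup.mk g : G ⧸ Q)} : Set (G ⧸ Q))).comap (QuotientGroup.mk' Q) =
      Subgroup.centralizer ({g} : Set G) := by
    ext x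
    rw [Subgroup.mem_comap, Subgroup.mem_centralizer_singleton_iff, Subgroup.mem_centralizer_singleton_iff]
    show (QuotientGroup.mk x : G ⧸ Q) * QuotientGroup.mk g = QuotientGroup.mk g * QuotientGroup.mk x ↔ _
    rw [← QuotientGroup.mk_mul, ← QuotientGroup.mk_mul]
    constructor
    · intro h
      have h1 : (QuotientGroup.mk (x * g * x⁻¹) : G ⧸ Q) = QuotientGroup.mk g := by
        rw [QuotientGroup.mk_mul, h, ← QuotientGroup.mk_mul]
        congr 1; group
      have h3 := eq_of_regular_of_mk hQ hsup (by rw [orderOf_conj']; exact hg) hg h1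
      calc x * g = (x * g * x⁻¹) * x := by group
        _ = g * x := by rw [h3]
    · intro h; rw [h]
  rw [← h2, Subgroup.index_comap_of_surjective _ (QuotientGroup.mk'_surjective Q)]

theorem centralChar_inflate (hQ : IsPGroup p Q) (hsup : Q ⊔ Subgroup.centralizer (Q : Set G) = ⊤)
    (ψ : G ⧸ Q → ℂ) {g : G} (hg : ¬ p ∣ orderOf g) :
    centralChar (fun x : G => ψ (QuotientGroup.mk x)) g = centralChar ψ (QuotientGroup.mk g) := by
  unfold centralChar
  rw [index_centralizer_mk hQ hsup hg]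
  rfl

/-- inflation of irreducible characters -/
noncomputable def inflI (ψ : IrrCharacter (G ⧸ Q)) : IrrCharacter G :=
  ⟨fun g => (ψ : G ⧸ Q → ℂ) (QuotientGroup.mk g), H75.isIrrCharacter_inflate Q ψ.2⟩

theorem sameBlock_inflI_iff (hMod : IsPModular p M) (hQ : IsPGroup p Q)
    (hsup : Q ⊔ Subgroup.centralizer (Q : Set G) = ⊤) (ψ η : IrrCharacter (G ⧸ Q)) :
    SameBlock M (inflI ψ : G → ℂ) (inflI η : G → ℂ) ↔ SameBlock M (ψ : G ⧸ Q → ℂ) (η : G ⧸ Q → ℂ) := by
  haveI := Fintype.ofFinite (G ⧸ Q)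
  constructor
  · intro h
    refine sameBlock_of_regular hMod (fun y hy => ?_)
    obtain ⟨g, hg, rfl⟩ := exists_regular_lift hy
    have h1 := h g
    unfold inflI at h1
    rw [centralChar_inflate hQ hsup (ψ : G ⧸ Q → ℂ) hg, centralChar_inflate hQ hsup (η : G ⧸ Q → ℂ) hg] at h1
    exact h1
  · intro h
    refine sameBlock_of_regular hMod (fun g hg => ?_)
    unfold inflI
    rw [centralChar_inflate hQ hsup (ψ : G ⧸ Q → ℂ) hg, centralChar_inflate hQ hsup (η : G ⧸ Q → ℂ) hg]
    exact h _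

theorem inflI_mem_principal_iff (hMod : IsPModular p M) (hQ : IsPGroup p Q)
    (hsup : Q ⊔ Subgroup.centralizer (Q : Set G) = ⊤) (ψ : IrrCharacter (G ⧸ Q)) :
    inflI ψ ∈ principalBlock M G ↔ ψ ∈ principalBlock M (G ⧸ Q) :=
  sameBlock_inflI_iff hMod hQ hsup (oneIrr (G ⧸ Q)) ψ

/-- pull back to `G` and restrict to regular elements -/
noncomputable def pullReg (p : ℕ) (Q : Subgroup G) [Q.Normal] : (G ⧸ Q → ℂ) →ₗ[ℂ] (G → ℂ) where
  toFun f := pRegularPart p (fun g => f (QuotientGroup.mk g))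
  map_add' f f' := by
    funext g
    by_cases hg : p ∣ orderOf g
    · simp [pRegularPart_apply_of_sing hg]
    · simp [pRegularPart_apply_of_reg hg]
  map_smul' c f := by
    funext g
    by_cases hg : p ∣ orderOf g
    · simp [pRegularPart_apply_of_sing hg]
    · simp [pRegularPart_apply_of_reg hg]

theorem pullReg_reg (f : G ⧸ Q → ℂ) {g : G} (hg : ¬ p ∣ orderOf g) :
    pullReg p Q f g = f (QuotientGroup.mk g) := by
  show pRegularPart p (fun x : G => f (QuotientGroup.mk x)) g = _
  rw [pRegularPart_apply_of_reg hg]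

theorem pullReg_pRegularPart (f : G ⧸ Q → ℂ) :
    pullReg p Q (pRegularPart p f) = pRegularPart p (fun g : G => f (QuotientGroup.mk g)) := by
  funext g
  by_cases hg : p ∣ orderOf g
  · show pRegularPart p (fun x : G => pRegularPart p f (QuotientGroup.mk x)) g = _
    rw [pRegularPart_apply_of_sing hg, pRegularPart_apply_of_sing hg]
  · rw [pullReg_reg _ hg, pRegularPart_apply_of_reg hg, pRegularPart_apply_of_reg (regular_mk hg)]

theorem pullReg_injOn {f : G ⧸ Q → ℂ} (hf : ∀ y, p ∣ orderOf y → f y = 0) (h : pullReg p Q f = 0) : f = 0 := by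
  funext y
  by_cases hy : p ∣ orderOf y
  · exact hf y hy
  · obtain ⟨g, hg, rfl⟩ := exists_regular_lift hy
    have := congrFun h g
    rwa [pullReg_reg _ hg] at this

theorem regInner_inflI (hQ : IsPGroup p Q) (hsup : Q ⊔ Subgroup.centralizer (Q : Set G) = ⊤)
    [Fintype (G ⧸ Q)] (f : G ⧸ Q → ℂ) (hf : ∀ y, p ∣ orderOf y → f y = 0) (ψ : IrrCharacter (G ⧸ Q)) {χ : G → ℂ}
    (hχ : ∀ g : G, ¬ p ∣ orderOf g → χ g = f (QuotientGroup.mk g)) :
    classInner f (ψ : G ⧸ Q → ℂ) = (Nat.card Q : ℂ) * regInner p χ (inflI ψ : G → ℂ) := by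
  classical
  unfold classInner regInner
  have hG : (Nat.card G : ℂ) = (Nat.card (G ⧸ Q) : ℂ) * (Nat.card Q : ℂ) := by
    rw [Subgroup.card_eq_card_quotient_mul_card_subgroup Q]; push_cast; rfl
  have hQ0 : (Nat.card Q : ℂ) ≠ 0 := by exact_mod_cast Nat.card_pos.ne'
  have hG0 : (Nat.card (G ⧸ Q) : ℂ) ≠ 0 := by exact_mod_cast Nat.card_pos.ne'
  have key : ∑ y : G ⧸ Q, f y * conj ((ψ : G ⧸ Q → ℂ) y) = ∑ g : G, χ g * regConj p (inflI ψ : G → ℂ) g := by
    have e1 : ∑ g : G, χ g * regConj p (inflI ψ : G → ℂ) g =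
        ∑ g ∈ Finset.univ.filter (fun g : G => ¬ p ∣ orderOf g), χ g * regConj p (inflI ψ : G → ℂ) g := by
      rw [Finset.sum_filter]
      refine Finset.sum_congr rfl (fun g _ => ?_)
      by_cases h : p ∣ orderOf g
      · rw [if_neg (not_not.mpr h)]
        unfold regConj
        rw [if_pos h, mul_zero]
      · rw [if_pos h]
    have e2 : ∑ y : G ⧸ Q, f y * conj ((ψ : G ⧸ Q → ℂ) y) =
        ∑ y ∈ Finset.univ.filter (fun y : G ⧸ Q => ¬ p ∣ orderOf y), f y * conj ((ψ : G ⧸ Q → ℂ) y) := by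
      rw [Finset.sum_filter]
      refine Finset.sum_congr rfl (fun g _ => ?_)
      by_cases h : p ∣ orderOf g
      · rw [if_neg (not_not.mpr h), hf _ h, zero_mul]
      · rw [if_pos h]
    rw [e1, e2]
    symm
    refine Finset.sum_bij (fun g _ => (QuotientGroup.mk g : G ⧸ Q)) ?_ ?_ ?_ ?_
    · intro g hg
      rw [Finset.mem_filter] at hg ⊢
      exact ⟨Finset.mem_univ _, regular_mk hg.2⟩
    · intro g hg g' hg' h
      rw [Finset.mem_filter] at hg hg'
      exact eq_of_regular_of_mk hQ hsup hg.2 hg'.2 h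
    · intro y hy
      rw [Finset.mem_filter] at hy
      obtain ⟨g, hg, rfl⟩ := exists_regular_lift hy.2
      exact ⟨g, Finset.mem_filter.mpr ⟨Finset.mem_univ _, hg⟩, rfl⟩
    · intro g hg
      rw [Finset.mem_filter] at hg
      rw [hχ g hg.2]
      unfold regConj
      rw [if_neg hg.2]
      rfl
  rw [key, hG]
  field_simp

/-- **S4571** -/
theorem blockRank_quot (hMod : IsPModular p M) (hQ : IsPGroup p Q)
    (hsup : Q ⊔ Subgroup.centralizer (Q : Set G) = ⊤) :
    blockRank p (principalBlock M G) = blockRank p (principalBlock M (G ⧸ Q)) := by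
  classical
  haveI := Fintype.ofFinite (G ⧸ Q)
  haveI := Fintype.ofFinite (IrrCharacter (G ⧸ Q))
  have hB : IsPBlock M (principalBlock M G) := ⟨oneIrr G, rfl⟩
  set V := Submodule.span ℂ ((fun χ : IrrCharacter (G ⧸ Q) => pRegularPart p (χ : G ⧸ Q → ℂ)) ''
    principalBlock M (G ⧸ Q)) with hV
  have hVsupp : ∀ f ∈ V, ∀ y, p ∣ orderOf y → f y = 0 := by
    intro f hf y hy
    induction hf using Submodule.span_induction with
    | mem x hx =>
      obtain ⟨χ, -, rfl⟩ := hx
      exact pRegularPart_apply_of_sing hy _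
    | zero => rfl
    | add x z _ _ hx hz => rw [Pi.add_apply, hx, hz, add_zero]
    | smul c x _ hx => rw [Pi.smul_apply, hx, smul_zero]
  have hmap : V.map (pullReg p Q) = Submodule.span ℂ ((fun χ : IrrCharacter G => pRegularPart p (χ : G → ℂ)) ''
      principalBlock M G) := by
    apply le_antisymm
    · rw [hV, Submodule.map_span, Submodule.span_le]
      rintro _ ⟨_, ⟨ψ, hψ, rfl⟩, rfl⟩
      dsimp only
      rw [pullReg_pRegularPart]
      exact Submodule.subset_span ⟨inflI ψ, (inflI_mem_principal_iff hMod hQ hsup ψ).mpr hψ, rfl⟩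
    · rw [Submodule.span_le]
      rintro _ ⟨χ, hχ, rfl⟩
      dsimp only
      -- the descended function
      let f : G ⧸ Q → ℂ := fun y => if h : ¬ p ∣ orderOf y then (χ : G → ℂ) (exists_regular_lift h).choose else 0
      have hf0 : ∀ y, p ∣ orderOf y → f y = 0 := fun y hy => dif_neg (not_not.mpr hy)
      have hf1 : ∀ g : G, ¬ p ∣ orderOf g → (χ : G → ℂ) g = f (QuotientGroup.mk g) := by
        intro g hg
        have h1 := regular_mk (Q := Q) hg
        show _ = dite _ _ _
        rw [dif_pos h1]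
        have h2 := (exists_regular_lift h1).choose_spec
        rw [eq_of_regular_of_mk hQ hsup h2.1 hg h2.2]
      have hfc : IsClassFunction (G ⧸ Q) f := by
        intro y x
        by_cases hy : p ∣ orderOf y
        · have hy' : p ∣ orderOf (x * y * x⁻¹) := by
            have : orderOf (x * y * x⁻¹) = orderOf y := MulEquiv.orderOf_eq (MulAut.conj x) y
            rw [this]; exact hy
          rw [hf0 y hy, hf0 _ hy']
        · obtain ⟨g, hg, rfl⟩ := exists_regular_lift hy
          obtain ⟨a, rfl⟩ := QuotientGroup.mk_surjective x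
          have h1 : (QuotientGroup.mk a : G ⧸ Q) * QuotientGroup.mk g * (QuotientGroup.mk a)⁻¹ =
              QuotientGroup.mk (a * g * a⁻¹) := rfl
          rw [h1, ← hf1 g hg, ← hf1 _ (by rw [orderOf_conj']; exact hg), irr_isClassFunction χ]
      have h2 : pRegularPart p (χ : G → ℂ) = pullReg p Q f := by
        funext g
        by_cases hg : p ∣ orderOf g
        · show _ = pRegularPart p (fun x : G => f (QuotientGroup.mk x)) g
          rw [pRegularPart_apply_of_sing hg, pRegularPart_apply_of_sing hg]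
        · rw [pRegularPart_apply_of_reg hg, pullReg_reg _ hg, hf1 g hg]
      rw [h2]
      refine ⟨f, ?_, rfl⟩
      have h3 : f = pRegularPart p f := by
        funext y
        by_cases hy : p ∣ orderOf y
        · rw [hf0 y hy, pRegularPart_apply_of_sing hy]
        · rw [pRegularPart_apply_of_reg hy]
      have h4 := classFun_eq_sum hfc
      rw [SetLike.mem_coe, h3, h4, pRegularPart_sum]
      refine Submodule.sum_mem _ (fun ψ _ => ?_)
      by_cases hψ : ψ ∈ principalBlock M (G ⧸ Q)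
      · exact Submodule.smul_mem _ _ (Submodule.subset_span ⟨ψ, hψ, rfl⟩)
      · have h5 : classInner f (ψ : G ⧸ Q → ℂ) = 0 := by
          rw [regInner_inflI hQ hsup f hf0 ψ hf1]
          have h6 : ¬ SameBlock M (χ : G → ℂ) (inflI ψ : G → ℂ) := by
            intro h
            exact hψ ((inflI_mem_principal_iff hMod hQ hsup ψ).mp (BlkC.mem_of_sameBlock hB hχ h))
          rw [regInner_eq_zero hMod h6, mul_zero]
        rw [h5, zero_smul]
        exact Submodule.zero_mem _
  unfold blockRank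
  rw [← hmap]
  have hinj : Function.Injective ((pullReg p Q).domRestrict V) := by
    rw [← LinearMap.ker_eq_bot, LinearMap.ker_eq_bot']
    rintro ⟨f, hf⟩ h
    apply Subtype.ext
    exact pullReg_injOn (hVsupp f hf) h
  have := LinearMap.finrank_range_of_inj hinj
  rw [LinearMap.range_domRestrict] at this
  exact this

end Quot

end Cfsg.Agent.BlkInd
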