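import Mathlib
import Cfsg.Agent.BlkInd.CoverD
import Cfsg.Agent.BlkInd.Canon2
import Cfsg.Agent.BlkInd.ThirdMain
import Cfsg.Agent.BlkInd.DefectApp2
import Cfsg.Agent.H75.ItoConv

set_option autoImplicit false
set_option linter.style.haveILetI false
set_option linter.unusedSimpArgs false
set_option linter.unusedSectionVars false
set_option linter.unusedVariables false

/-!
# Reynolds' theorem: blocks with normal defect group and heights
-/

namespace Cfsg.Agent.BlkInd

open scoped BigOperators ComplexConjugate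
open Cfsg Cfsg.Agent.CharBase Cfsg.Agent.Blk Cfsg.Agent.BlkC

universe u v w

variable {G : Type u} [Group G] [Fintype G] {M : Ideal AlgInt} [hM : M.IsPrime] {p : ℕ} [hp : Fact p.Prime]

theorem eq_of_induced {H : Subgroup G} {b : Set (IrrCharacter H)} {B B' : Set (IrrCharacter G)}
    (h : IsInducedBlock M H b B) (h' : IsInducedBlock M H b B') : B = B' := by
  obtain ⟨ξ, hξ⟩ := isPBlock_nonempty h.1
  obtain ⟨χ, hχ⟩ := isPBlock_nonempty h.2.1
  obtain ⟨χ', hχ'⟩ := isPBlock_nonempty h'.2.1
  have h1 : SameBlock M (χ : G → ℂ) (χ' : G → ℂ) := fun g =>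
    mli_trans (mli_symm (h.2.2 ξ hξ χ hχ g)) (h'.2.2 ξ hξ χ' hχ' g)
  exact isPBlock_eq_of_mem h.2.1 h'.2.1 (mem_of_sameBlock h.2.1 hχ h1) hχ'

/-- two constituents of the restriction to a normal subgroup are conjugate -/
theorem exists_cj_of_constituents {N : Subgroup G} [hN : N.Normal] [Fintype N] (χ : IrrCharacter G)
    (ξ η : IrrCharacter N) (h1 : classInner (fun n : N => (χ : G → ℂ) n) (ξ : N → ℂ) ≠ 0)
    (h2 : classInner (fun n : N => (χ : G → ℂ) n) (η : N → ℂ) ≠ 0) :
    ∃ g : G, Char.cj N g (ξ : N → ℂ) = (η : N → ℂ) := by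
  have hT := gStable_conjSet (N := N) ({η} : Set (IrrCharacter N))
  have e1 := om_emb_of_constituent hT χ ξ h1
  have e2 := om_emb_of_constituent hT χ η h2
  rw [om_eB_of_mem (show η ∈ conjSet N {η} from subset_conjSet _ rfl), e1] at e2
  have h3 : ξ ∈ conjSet N ({η} : Set (IrrCharacter N)) := by
    by_contra hne
    rw [om_eB_of_not_mem hne] at e2
    exact zero_ne_one e2
  obtain ⟨g, hg⟩ := h3
  rw [Set.mem_singleton_iff] at hg
  exact ⟨g, congrArg Subtype.val hg⟩

theorem factorization_index_add {P : Subgroup G} (hMod : IsPModular p M) {B : Set (IrrCharacter G)}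
    (hB : IsPBlock M B) (hP : IsDefectGroup p M B P) :
    P.index.factorization p + blockDefect p B = (Nat.card G).factorization p := by
  have h1 : (Nat.card G) = Nat.card P * P.index := (Subgroup.card_mul_index P).symm
  rw [h1, Nat.factorization_mul Nat.card_pos.ne' Subgroup.index_ne_zero_of_finite,
    card_defectGroup hMod hB hP,
    Finsupp.add_apply, Nat.Prime.factorization_pow hp.out, Finsupp.single_eq_same]
  omega

/-- abelian normal defect group: all heights are zero -/
theorem height_zero_of_abelian (hMod : IsPModular p M) {B : Set (IrrCharacter G)}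
    (hB : IsPBlock M B) {P : Subgroup G} [P.Normal] (hP : IsDefectGroup p M B P)
    (hab : ∀ a ∈ P, ∀ c ∈ P, a * c = c * a) (χ : IrrCharacter G) (hχ : χ ∈ B) :
    blockHeight p B (χ : G → ℂ) = 0 := by
  rw [height_eq_zero_iff hχ]
  have h1 := H75.ito χ P hab
  rw [← H75.charDegree_eq_deg] at h1
  have h2 : nu p χ ≤ P.index.factorization p :=
    (Nat.factorization_le_iff_dvd (charDegree_pos χ).ne' (Subgroup.index_ne_zero_of_finite)).mpr h1 p
  have h3 := factorization_index_add hMod hB hP
  have h4 := defect_add_nuMin (p := p) (B := B) ⟨χ, hχ⟩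
  have h5 := nuMin_le (p := p) hχ
  omega

theorem abelian_of_height_zero (hMod : IsPModular p M) {B : Set (IrrCharacter G)}
    (hB : IsPBlock M B) {P : Subgroup G} [hPn : P.Normal] (hP : IsDefectGroup p M B P)
    (hh : ∀ χ ∈ B, blockHeight p B (χ : G → ℂ) = 0) :
    ∀ a ∈ P, ∀ c ∈ P, a * c = c * a := by
  classical
  have hPp : IsPGroup p P := isPGroup_of_isDefectGroup hP
  set N := P ⊔ Subgroup.centralizer (P : Set G) with hNdef
  haveI := Fintype.ofFinite N
  haveI : N.Normal := normal_sup_centralizer P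
  have hPN : P ≤ N := le_sup_left
  have hCN : Subgroup.centralizer (P : Set G) ≤ N := le_sup_right
  set D := P.subgroupOf N with hDdef
  have hDp : IsPGroup p D := hPp.comap_subtype
  have hDtop : D ⊔ Subgroup.centralizer (D : Set N) = ⊤ := by
    apply Subgroup.map_injective N.subtype_injective
    rw [Subgroup.map_sup, ← MonoidHom.range_eq_map, Subgroup.range_subtype]
    apply le_antisymm
    · exact sup_le (Subgroup.map_subtype_le _) (Subgroup.map_subtype_le _)
    · conv_lhs => rw [hNdef]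
      refine sup_le ?_ ?_
      · refine le_trans ?_ le_sup_left
        intro x hx
        exact ⟨⟨x, hPN hx⟩, Subgroup.mem_subgroupOf.mpr hx, rfl⟩
      · refine le_trans ?_ le_sup_right
        intro x hx
        refine ⟨⟨x, hCN hx⟩, ?_, rfl⟩
        rw [SetLike.mem_coe, Subgroup.mem_centralizer_iff]
        intro d hd
        exact Subtype.ext (Subgroup.mem_centralizer_iff.mp hx (d : G) (Subgroup.mem_subgroupOf.mp hd))
  -- a covered block
  obtain ⟨χ₀, hχ₀⟩ := isPBlock_nonempty hB
  obtain ⟨θ₀, hθ₀⟩ := exists_constituent_restrict (N := N) χ₀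
  set b := blockOf M (θ₀ : N → ℂ) with hbdef
  have hb : IsPBlock M b := ⟨θ₀, rfl⟩
  have hind : IsInducedBlock M N b B :=
    induced_of_cover hMod P hPp hb hB ⟨χ₀, hχ₀, θ₀, mem_blockOf_self θ₀, hθ₀⟩
  obtain ⟨E, hE⟩ := exists_defectGroup hMod hb
  have hbD : IsDefectGroup p M b D := by
    have := defect_of_inducing hMod hPN (sup_centralizer_le_normalizer P) hind hP hE
    rw [hDdef, ← this]; exact hE
  obtain ⟨θ, hθ, hker⟩ := exists_canon hMod hDtop hDp hb
  obtain ⟨-, hθmin⟩ := canon_degree hMod hDtop hDp hb hbD hθ hker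
  have hvan : ∀ z, ppart p z ∉ D → (θ : N → ℂ) z = 0 := fun z hz => by
    haveI := normal_of_sup hDtop
    exact vanish_of_normal_defect hMod hb hbD hθ hz
  -- all irreducible characters of `D` are linear
  have hlin : ∀ ζ : IrrCharacter D, (ζ : D → ℂ) 1 = 1 := by
    intro ζ
    set η : IrrCharacter N := ⟨canonMul p D (ζ : D → ℂ) (θ : N → ℂ),
      canonMul_isIrrCharacter hDtop hDp ζ θ.2 hker hvan⟩ with hη
    have hηb : η ∈ b := canonMul_mem hMod hDtop hDp hb hθ hker ζ rfl
    obtain ⟨χ, hχη⟩ := exists_over (G := G) η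
    have hχB : χ ∈ B := by
      have h1 : IsInducedBlock M N b (blockOf M (χ : G → ℂ)) :=
        induced_of_cover hMod P hPp hb ⟨χ, rfl⟩ ⟨χ, mem_blockOf_self χ, η, hηb, hχη⟩
      rw [eq_of_induced hind h1]
      exact mem_blockOf_self χ
    obtain ⟨ξ, hξ, hξ0, n, hn, hpn⟩ := okuyama hMod hind hχB (hh χ hχB)
    have hne : classInner (fun n : N => (χ : G → ℂ) n) (ξ : N → ℂ) ≠ 0 := by
      rw [hn]
      intro h0
      have : n = 0 := by exact_mod_cast h0
      rw [this] at hpn
      exact hpn (dvd_zero p)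
    obtain ⟨g, hg⟩ := exists_cj_of_constituents χ ξ η hne hχη
    have hdeg : (ξ : N → ℂ) 1 = (η : N → ℂ) 1 := by
      rw [← hg, Char.cj_one_apply]
    have hnu : nu p η = nu p θ := by
      rw [hθmin, ← (height_eq_zero_iff hξ).mp hξ0]
      unfold nu charDegree
      rw [hdeg]
    have hη1 : (η : N → ℂ) 1 = (ζ : D → ℂ) 1 * (θ : N → ℂ) 1 := by
      have := canonMul_coe hDtop hDp (ζ : D → ℂ) (irr_isCharacter θ) hker 1
      exact this
    rw [charDegree_spec η, charDegree_spec ζ, charDegree_spec θ] at hη1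
    have hη2 : charDegree (η : N → ℂ) = charDegree (ζ : D → ℂ) * charDegree (θ : N → ℂ) := by
      exact_mod_cast hη1
    have h3 : nu p η = (charDegree (ζ : D → ℂ)).factorization p + nu p θ := by
      unfold nu
      rw [hη2, Nat.factorization_mul (charDegree_pos ζ).ne' (charDegree_pos θ).ne', Finsupp.add_apply]
    have h4 : (charDegree (ζ : D → ℂ)).factorization p = 0 := by omega
    obtain ⟨k, hk⟩ := IsPGroup.iff_card.mp hDp
    have h5 := charDegree_dvd_card ζ
    rw [hk] at h5
    obtain ⟨j, -, hj⟩ := (Nat.dvd_prime_pow hp.out).mp h5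
    rw [hj, Nat.Prime.factorization_pow hp.out, Finsupp.single_eq_same] at h4
    rw [charDegree_spec ζ, hj, h4]
    simp
  intro a ha c hc
  have h1 := H75.comm_of_forall_linear hlin ⟨⟨a, hPN ha⟩, Subgroup.mem_subgroupOf.mpr ha⟩
    ⟨⟨c, hPN hc⟩, Subgroup.mem_subgroupOf.mpr hc⟩
  exact congrArg (fun x : D => ((x : N) : G)) h1

end Cfsg.Agent.BlkInd
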