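import Cfsg.Agent.BlkInd.TCh
import Cfsg.Agent.H40.GN12

/-!
# Transitive linear groups with few good elements (owner: helper16)
-/

set_option autoImplicit false

namespace Cfsg.Agent.BlkInd.TC

theorem groupN {E : Type*} {W : Type*} [Group E] [Finite E] [CommGroup W] [Finite W] [Nontrivial W]
    [MulDistribMulAction E W] [FaithfulSMul E W]
    (p : ℕ) [hp : Fact p.Prime] (hW : ∀ w : W, w ^ p = 1) (hpE : ¬ p ∣ Nat.card E)
    (htr : ∀ v w : W, v ≠ 1 → w ≠ 1 → ∃ g : E, g • v = w) (Good : E → Prop)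
    (h2 : ∀ g, IsCyclic (Subgroup.centralizer ({g} : Set E)) → Good g)
    (h3 : ∀ g h, Good g → Good h → g ≠ 1 → h ≠ 1 → IsConj g h)
    (h4 : ∀ w : W, w ≠ 1 → IsSquare (Nat.card (MulAction.stabilizer E w)))
    (h4' : ∀ w : W, w ≠ 1 → IsCyclic (MulAction.stabilizer E w) → Nat.card (MulAction.stabilizer E w) = 1)
    (h5 : ∃ a b : ℕ, Nat.card E = a ^ 2 + b ^ 2)
    (h6 : ∀ q : ℕ, q.Prime → (∀ g : E, Good g → g ≠ 1 → ¬ ∃ k, orderOf g = q ^ k) →
      Even ((Nat.card E).factorization q)) :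
    Nat.card W ≤ 3 := by
  obtain ⟨r, hr⟩ : ∃ r, Nat.card W = p ^ r := by
    have : IsPGroup p W := fun w => ⟨1, by rw [pow_one]; exact hW w⟩
    exact IsPGroup.iff_card.mp this
  by_cases h : p = 2 ∨ r ≤ 2
  · exact Cfsg.Agent.H40.GN12.main p hW hpE htr Good h2 h3 h4 h4' h5 h6 hr h
  · exfalso
    push Not at h
    obtain ⟨h7, h8⟩ := gn3a p hW htr Good h2 h3 h4 h6 hr h.1 (by omega)
    exact gn3b p h.1 htr (by rw [hr, h7]) h8

end Cfsg.Agent.BlkInd.TC
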