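import Cfsg.Agent.BlkInd.TCc
import Cfsg.Agent.BlkInd.TCgrp
import Cfsg.Agent.H64.TC1
import Cfsg.Agent.H88.TC2
import Cfsg.Agent.H18.TC3
import Cfsg.Agent.H99.TCcliff

/-!
# Blocks with abelian normal defect group and three characters: the theorem (owner: helper16)
-/

set_option autoImplicit false
set_option linter.unusedSectionVars false
set_option linter.style.haveILetI false

namespace Cfsg.Agent.BlkInd.TC

open scoped ComplexConjugate
open Cfsg Cfsg.Agent.CharBase Cfsg.Agent.Blk Cfsg.Agent.BlkInd Cfsg.Agent.BlkC Cfsg.Agent.H4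

universe u

open Cfsg.Agent.H64.TC1 (gd_conj sum_sq square_of_one)
open Cfsg.Agent.H18.TC3 (even_fact)
open Cfsg.Agent.H99.TCcliff (cliff prime_index)

section act
variable {X : Type u} [Group X]

/-- the action of the inertia quotient on the dual group -/
noncomputable def qact (V : Subgroup X) [V.Normal] (I : Subgroup X) (N : Subgroup X) [(N.subgroupOf I).Normal]
    (h : ∀ n ∈ N, dact V n = 1) : (↥I ⧸ N.subgroupOf I) →* MulAut (V →* ℂˣ) :=
  QuotientGroup.lift (N.subgroupOf I) ((dact V).comp I.subtype) (fun n hn => h _ (Subgroup.mem_subgroupOf.mp hn))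

theorem qact_mk (V : Subgroup X) [V.Normal] (I : Subgroup X) (N : Subgroup X) [(N.subgroupOf I).Normal]
    (h : ∀ n ∈ N, dact V n = 1) (g : I) : qact V I N h (QuotientGroup.mk g) = dact V (g : X) := rfl

theorem dact_eq_one {V : Subgroup X} [V.Normal] (hcomm : ∀ a ∈ V, ∀ c ∈ V, a * c = c * a) {n : X}
    (hn : n ∈ NN V) : dact V n = 1 := by
  have h1 : ∀ v : V, (MulAut.conjNormal n⁻¹ v : V) = v := by
    intro v
    apply Subtype.ext
    rw [MulAut.conjNormal_apply]
    have h2 : n⁻¹ ∈ Subgroup.centralizer ({(v : X)} : Set X) := by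
      have h3 : NN V ≤ Subgroup.centralizer ({(v : X)} : Set X) := by
        refine sup_le ?_ ?_
        · intro a ha
          rw [Subgroup.mem_centralizer_singleton_iff]
          exact hcomm a ha v v.2
        · intro a ha
          rw [Subgroup.mem_centralizer_singleton_iff]
          exact (Subgroup.mem_centralizer_iff.mp ha v v.2).symm
      exact h3 (inv_mem hn)
    rw [Subgroup.mem_centralizer_singleton_iff] at h2
    rw [h2, mul_inv_cancel_right]
  ext l v
  rw [dact_apply, h1]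
  rfl

theorem mem_of_dact_eq_one {V : Subgroup X} [V.Normal] [Finite V] (hcomm : ∀ a ∈ V, ∀ c ∈ V, a * c = c * a) {n : X}
    (h : dact V n = 1) : n ∈ NN V := by
  refine le_sup_right (a := V) ?_
  rw [Subgroup.mem_centralizer_iff]
  intro v hv
  by_contra hne
  have h1 : (MulAut.conjNormal n⁻¹ ⟨v, hv⟩ : V) * (⟨v, hv⟩ : V)⁻¹ ≠ 1 := by
    intro h2
    apply hne
    have h3 := mul_inv_eq_one.mp h2
    have h4 := congrArg Subtype.val h3
    rw [MulAut.conjNormal_apply] at h4
    have h5 : n⁻¹ * v * n = v := by simpa using h4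
    calc v * n = n * (n⁻¹ * v * n) := by group
      _ = n * v := by rw [h5]
  obtain ⟨l, hl⟩ := exists_dual_ne (K := V) (fun a c => Subtype.ext (hcomm a a.2 c c.2)) h1
  apply hl
  have h2 := dact_apply V n l ⟨v, hv⟩
  rw [h] at h2
  rw [map_mul, map_inv l (⟨v, hv⟩ : V), mul_inv_eq_one]
  exact h2.symm

end act

section
variable {X : Type u} [Group X] [Fintype X] {M : Ideal AlgInt} [M.IsPrime] {p : ℕ} [hp : Fact p.Prime]
variable {V : Subgroup X} [hVn : V.Normal] [Fintype (NN V)] {b : Set (IrrCharacter X)}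
  {β : Set (IrrCharacter (NN V))} {θ : IrrCharacter (NN V)}

namespace Su

theorem mem_inertia_eta (s : Su M p V b β θ) {l : V →* ℂˣ} {g : X} :
    g ∈ Char.inertia (NN V) (s.eta l : NN V → ℂ) ↔
      g ∈ Char.inertia (NN V) (θ : NN V → ℂ) ∧ dact V g l = l := by
  constructor
  · intro h
    obtain ⟨h1, h2⟩ := s.of_cj_eta (show Char.cj (NN V) g (s.eta l : NN V → ℂ) = s.eta l from h)
    refine ⟨h1, ?_⟩
    rw [map_inv] at h2
    conv_lhs => rw [← h2]
    exact (dact V g).apply_symm_apply l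
  · rintro ⟨h1, h2⟩
    have h3 := s.cj_eta h1 l
    have h4 : dact V g⁻¹ l = l := by
      rw [map_inv]
      conv_lhs => rw [← h2]
      exact (dact V g).symm_apply_apply l
    rw [h4] at h3
    exact h3

theorem stab_facts (s : Su M p V b β θ) (hk : Nat.card b = 3) (hl : blockRank p b = 2) {l : V →* ℂˣ} (hl1 : l ≠ 1)
    {I : Subgroup X} (hI : I = Char.inertia (NN V) (θ : NN V → ℂ))
    {E : Type u} [Group E] [MulAction E (V →* ℂˣ)] (π : I →* E)
    (hπ : Function.Surjective π) (hker : ∀ g, π g = 1 ↔ (g : X) ∈ NN V)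
    (hact : ∀ (g : I) (m : V →* ℂˣ), π g • m = dact V (g : X) m) :
    IsSquare (Nat.card (MulAction.stabilizer E l)) ∧ (IsCyclic (MulAction.stabilizer E l) →
      Nat.card (MulAction.stabilizer E l) = 1) := by
  classical
  obtain ⟨J, hJdef⟩ : ∃ J, J = Char.inertia (NN V) (s.eta l : NN V → ℂ) := ⟨_, rfl⟩
  have hJm : ∀ g : X, g ∈ J ↔ g ∈ I ∧ dact V g l = l := fun g => by
    rw [hJdef, hI]; exact s.mem_inertia_eta
  have hJI : J ≤ I := fun g hg => ((hJm g).mp hg).1
  have hNJ : NN V ≤ J := by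
    rw [hJdef]; exact Char.le_inertia (NN V) (irr_isClassFunction (s.eta l))
  haveI := Fintype.ofFinite J
  haveI := Fintype.ofFinite ((NN V).subgroupOf J)
  obtain ⟨θ', -, hiv, hcard⟩ := cliff (s.eta l) hJdef hNJ
  rw [s.one hk hl hl1] at hcard
  obtain ⟨h1, h2⟩ := square_of_one hiv hcard
  -- the isomorphism
  let φ : J →* E := π.comp (Subgroup.inclusion hJI)
  have hφker : φ.ker = (NN V).subgroupOf J := by
    ext g
    rw [MonoidHom.mem_ker, Subgroup.mem_subgroupOf]
    exact hker (Subgroup.inclusion hJI g)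
  have hφrange : φ.range = MulAction.stabilizer E l := by
    ext e
    rw [MonoidHom.mem_range, MulAction.mem_stabilizer_iff]
    constructor
    · rintro ⟨g, rfl⟩
      change π (Subgroup.inclusion hJI g) • l = l
      rw [hact]
      exact ((hJm g).mp g.2).2
    · intro he
      obtain ⟨g, rfl⟩ := hπ e
      rw [hact] at he
      exact ⟨⟨(g : X), (hJm g).mpr ⟨g.2, he⟩⟩, rfl⟩
  have e : (↥J ⧸ (NN V).subgroupOf J) ≃* MulAction.stabilizer E l :=
    ((QuotientGroup.quotientMulEquivOfEq hφker.symm).trans (QuotientGroup.quotientKerEquivRange φ)).trans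
      (MulEquiv.subgroupCongr hφrange)
  have hc : Nat.card (↥J ⧸ (NN V).subgroupOf J) = Nat.card (MulAction.stabilizer E l) :=
    Nat.card_congr e.toEquiv
  rw [← hc]
  refine ⟨h1, fun hcyc => h2 ?_⟩
  exact isCyclic_of_injective e.toMonoidHom e.injective

theorem main (s : Su M p V b β θ) (hexp : ∀ v ∈ V, v ^ p = 1) (hV1 : V ≠ ⊥) (hk : Nat.card b = 3)
    (hl : blockRank p b = 2) : Nat.card V ≤ 3 := by
  classical
  obtain ⟨I, hIdef⟩ : ∃ I, I = Char.inertia (NN V) (θ : NN V → ℂ) := ⟨_, rfl⟩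
  have hNI : NN V ≤ I := by rw [hIdef]; exact Char.le_inertia (NN V) (irr_isClassFunction θ)
  haveI := Fintype.ofFinite I
  haveI := Fintype.ofFinite ((NN V).subgroupOf I)
  obtain ⟨θ', -, hiv, hcard⟩ := cliff θ hIdef hNI
  have hne := s.exists_ne hV1
  have h2 : Nat.card {ψ : IrrCharacter I // Ov ((NN V).subgroupOf I) θ' ψ} ≤ 2 := by
    rw [hcard]; exact s.two hk hne
  have hp' : ¬ p ∣ Nat.card (↥I ⧸ (NN V).subgroupOf I) := prime_index θ hIdef hNI (fun χ hχ => s.deg hχ)
  have hN1 : ∀ n ∈ NN V, dact V n = 1 := fun n hn => dact_eq_one s.comm hn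
  letI : MulDistribMulAction (↥I ⧸ (NN V).subgroupOf I) (V →* ℂˣ) :=
    { smul := fun q m => qact V I (NN V) hN1 q m
      one_smul := fun m => by
        change qact V I (NN V) hN1 1 m = m
        rw [map_one]; rfl
      mul_smul := fun q q' m => by
        change qact V I (NN V) hN1 (q * q') m = qact V I (NN V) hN1 q (qact V I (NN V) hN1 q' m)
        rw [map_mul]; rfl
      smul_mul := fun q m m' => map_mul (qact V I (NN V) hN1 q) m m'
      smul_one := fun q => map_one (qact V I (NN V) hN1 q) }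
  have hsmul : ∀ (g : I) (m : V →* ℂˣ), (QuotientGroup.mk g : ↥I ⧸ (NN V).subgroupOf I) • m = dact V (g : X) m :=
    fun g m => rfl
  haveI : FaithfulSMul (↥I ⧸ (NN V).subgroupOf I) (V →* ℂˣ) := by
    refine ⟨fun {a c} h => ?_⟩
    obtain ⟨g, rfl⟩ := QuotientGroup.mk_surjective a
    obtain ⟨g', rfl⟩ := QuotientGroup.mk_surjective c
    rw [QuotientGroup.eq]
    rw [Subgroup.mem_subgroupOf]
    refine mem_of_dact_eq_one s.comm ?_
    have h3 : dact V (g : X) = dact V (g' : X) := by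
      ext1 m
      exact h m
    rw [Subgroup.coe_mul, Subgroup.coe_inv, map_mul, map_inv, h3, inv_mul_cancel]
  haveI : Finite (V →* ℂˣ) := AbFree.finite_dual s.commV
  haveI : Nontrivial (V →* ℂˣ) := by
    obtain ⟨l, hl⟩ := hne
    exact ⟨⟨l, 1, hl⟩⟩
  rw [← card_dual s.commV]
  refine groupN (E := ↥I ⧸ (NN V).subgroupOf I) p ?_ hp' ?_ (Gd ((NN V).subgroupOf I) θ') ?_ ?_ ?_ ?_ ?_ ?_
  · intro m
    ext v
    have h3 : v ^ p = 1 := Subtype.ext (hexp v v.2)
    rw [MonoidHom.pow_apply, ← map_pow, h3, map_one]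
    rfl
  · intro l m hl1 hm1
    obtain ⟨g, hg, hgl⟩ := s.tr hk hl hl1 hm1
    rw [← hIdef] at hg
    exact ⟨QuotientGroup.mk ⟨g, hg⟩, hgl⟩
  · exact fun g h => gd_of_cyclic hiv g h
  · exact fun g h hg hh hg1 hh1 => gd_conj hiv h2 g h hg hh hg1 hh1
  · intro l hl1
    exact (s.stab_facts hk hl hl1 hIdef (QuotientGroup.mk' ((NN V).subgroupOf I)) (QuotientGroup.mk'_surjective _)
      (fun g => by rw [QuotientGroup.mk'_apply, QuotientGroup.eq_one_iff, Subgroup.mem_subgroupOf])
      (fun g m => rfl)).1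
  · intro l hl1
    exact (s.stab_facts hk hl hl1 hIdef (QuotientGroup.mk' ((NN V).subgroupOf I)) (QuotientGroup.mk'_surjective _)
      (fun g => by rw [QuotientGroup.mk'_apply, QuotientGroup.eq_one_iff, Subgroup.mem_subgroupOf])
      (fun g m => rfl)).2
  · exact sum_sq hiv h2
  · exact fun q hq h => even_fact hiv h2 q hq h

end Su
end

end Cfsg.Agent.BlkInd.TC
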