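import Cfsg.Agent.BlkInd.TCd
import Cfsg.Agent.H4.SmallK
import Cfsg.Agent.BlkInd.FirstMain
import Cfsg.Agent.Solv.Frattini
import Cfsg.Agent.S4434

/-!
# Blocks with three characters (owner: helper16)
-/

set_option autoImplicit false
set_option linter.unusedSectionVars false
set_option linter.style.haveILetI false

namespace Cfsg.Agent.BlkInd.TC

open scoped ComplexConjugate
open Cfsg Cfsg.Agent.CharBase Cfsg.Agent.Blk Cfsg.Agent.BlkInd Cfsg.Agent.BlkC Cfsg.Agent.H4

universe u

section
variable {X : Type u} [Group X] [Fintype X] {M : Ideal AlgInt} [M.IsPrime] {p : ℕ} [hp : Fact p.Prime]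

/-- a block with elementary abelian normal defect group and at most three characters -/
theorem lemmaM (hM : IsPModular p M) (V : Subgroup X) [V.Normal] (hcomm : ∀ a ∈ V, ∀ c ∈ V, a * c = c * a)
    (hexp : ∀ v ∈ V, v ^ p = 1) {b : Set (IrrCharacter X)} (hb : IsPBlock M b) (hV : IsDefectGroup p M b V)
    (hk : Nat.card b ≤ 3) : Nat.card V ≤ 3 := by
  classical
  haveI := Fintype.ofFinite (NN V)
  by_cases hV1 : V = ⊥
  · rw [hV1, Subgroup.card_bot]; norm_num
  have h1 := blockRank_lt_card hM hb hV hV1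
  have h2 := blockRank_pos hM hb
  have hcard := card_defectGroup hM hb hV
  rcases (show Nat.card b = 2 ∨ Nat.card b = 3 by omega) with h3 | h3
  · rw [(two_iff hM hb hV).mp h3]; norm_num
  · rcases (show blockRank p b = 1 ∨ blockRank p b = 2 by omega) with h4 | h4
    · rw [hcard, card_eq_pow_of_rank_one hM hb h4 (by omega), h3]
    · obtain ⟨β, θ, s⟩ := exists_su hM V hcomm hb hV
      exact s.main hexp hV1 h3 h4

/-- height zero characters in a dominated block -/
theorem card_dominated_le (hM : IsPModular p M) (P Q : Subgroup X) [P.Normal] [Q.Normal] (hQP : Q ≤ P)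
    {b : Set (IrrCharacter X)} (hb : IsPBlock M b) (hP : IsDefectGroup p M b P)
    {c : Set (IrrCharacter (X ⧸ Q))} (hc : IsPBlock M c) (hcb : ∀ ψ ∈ c, inflI ψ ∈ b)
    (hcP : IsDefectGroup p M c (P.map (QuotientGroup.mk' Q)))
    (hcomm : ∀ x ∈ P.map (QuotientGroup.mk' Q), ∀ y ∈ P.map (QuotientGroup.mk' Q), x * y = y * x) :
    Nat.card c ≤ Nat.card {ψ : IrrCharacter X // ψ ∈ b ∧ blockHeight p b (ψ : X → ℂ) = 0} := by
  classical
  haveI := Fintype.ofFinite (X ⧸ Q)
  haveI : (P.map (QuotientGroup.mk' Q)).Normal :=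
    Subgroup.Normal.map inferInstance _ (QuotientGroup.mk'_surjective Q)
  refine Nat.card_le_card_of_injective (fun ψ : c => (⟨inflI ψ.1, hcb ψ.1 ψ.2, ?_⟩ :
    {ψ : IrrCharacter X // ψ ∈ b ∧ blockHeight p b (ψ : X → ℂ) = 0})) ?_
  · rw [height_eq_zero_iff (hcb ψ.1 ψ.2)]
    have h0 := height_zero_of_abelian hM hc hcP hcomm ψ.1 ψ.2
    rw [height_eq_zero_iff ψ.2] at h0
    have h1 := factorization_index_add hM hb hP
    have h2 := defect_add_nuMin (p := p) (B := b) ⟨inflI ψ.1, hcb ψ.1 ψ.2⟩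
    have h3 := factorization_index_add hM hc hcP
    have h4 := defect_add_nuMin (p := p) (B := c) ⟨ψ.1, ψ.2⟩
    have h5 : nu p (inflI ψ.1 : IrrCharacter X) = nu p ψ.1 := by
      unfold nu charDegree
      rfl
    have h6 : (P.map (QuotientGroup.mk' Q)).index = P.index := by
      rw [Subgroup.index_map, QuotientGroup.ker_mk', sup_eq_left.mpr hQP,
        MonoidHom.range_eq_top.mpr (QuotientGroup.mk'_surjective Q), Subgroup.index_top, mul_one]
    rw [h6] at h3
    omega
  · intro ψ ψ' h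
    apply Subtype.ext
    apply Subtype.ext
    funext y
    obtain ⟨g, rfl⟩ := QuotientGroup.mk_surjective y
    exact congrFun (congrArg (fun t : {ψ : IrrCharacter X // ψ ∈ b ∧ blockHeight p b (ψ : X → ℂ) = 0} =>
      ((t : IrrCharacter X) : X → ℂ)) h) g

/-- a `p`-group with small Frattini quotient is cyclic -/
theorem cyclic_of_frattini {P : Type u} [Group P] [Finite P] (hP : IsPGroup p P)
    (h : Nat.card (P ⧸ frattini P) ≤ 3) : IsCyclic P := by
  have h1 : IsCyclic (P ⧸ frattini P) := by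
    have h2 := Nat.card_pos (α := P ⧸ frattini P)
    interval_cases h3 : Nat.card (P ⧸ frattini P)
    · haveI := (Nat.card_eq_one_iff_unique.mp h3).1
      exact isCyclic_of_subsingleton
    · haveI : Fact (Nat.Prime 2) := ⟨Nat.prime_two⟩
      exact isCyclic_of_prime_card h3
    · haveI : Fact (Nat.Prime 3) := ⟨Nat.prime_three⟩
      exact isCyclic_of_prime_card h3
  obtain ⟨q, hq⟩ := h1
  obtain ⟨g, rfl⟩ := QuotientGroup.mk_surjective q
  refine ⟨g, fun x => ?_⟩
  have h3 : Subgroup.zpowers g = ⊤ := by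
    apply frattini_nongenerating
    rw [eq_top_iff]
    intro y _
    obtain ⟨k, hk⟩ := hq (QuotientGroup.mk y)
    have h4 : (g ^ k)⁻¹ * y ∈ frattini P := QuotientGroup.eq.mp (by simpa using hk)
    have h5 : y = g ^ k * ((g ^ k)⁻¹ * y) := by group
    rw [h5]
    exact Subgroup.mul_mem_sup (Subgroup.zpow_mem_zpowers g k) h4
  have h6 : x ∈ Subgroup.zpowers g := by rw [h3]; exact Subgroup.mem_top x
  exact h6

/-- the contribution of a central element of a defect group -/
theorem one_le_contrib (hM : IsPModular p M) {B : Set (IrrCharacter X)} (hB : IsPBlock M B) {D : Subgroup X}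
    (hD : IsDefectGroup p M B D) {z x : X} (hzD : z ∈ D) (hzc : ∀ d ∈ D, d * z = z * d) (hzx : IsConj z x) :
    1 ≤ ∑ b ∈ indB M (Subgroup.centralizer ({x} : Set X)) B, blockRank p b := by
  classical
  obtain ⟨g, hg⟩ := isConj_iff.mp hzx
  have hD' := isDefectGroup_conj hD g
  obtain ⟨b, hb, -⟩ := exists_major hM hB hD' (z := x) ⟨z, hzD, hg⟩ (by
    rintro _ ⟨d, hd, rfl⟩
    rw [← hg]
    change g * d * g⁻¹ * (g * z * g⁻¹) = g * z * g⁻¹ * (g * d * g⁻¹)
    calc g * d * g⁻¹ * (g * z * g⁻¹) = g * (d * z) * g⁻¹ := by group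
      _ = g * (z * d) * g⁻¹ := by rw [hzc d hd]
      _ = g * z * g⁻¹ * (g * d * g⁻¹) := by group)
  have h1 : 0 < blockRank p b := by
    haveI := Fintype.ofFinite (Subgroup.centralizer ({x} : Set X))
    exact blockRank_pos hM hb.1
  have h2 : blockRank p b ≤ ∑ b ∈ indB M (Subgroup.centralizer ({x} : Set X)) B,
      blockRank p b :=
    Finset.single_le_sum (f := fun b => blockRank p b) (fun _ _ => Nat.zero_le _)
      (mem_indB.mpr hb)
  omega

/-- a cyclic defect group of a block with `k(B) - l(B) = 1` has order `p` -/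
theorem card_of_cyclic (hM : IsPModular p M) {B : Set (IrrCharacter X)} (hB : IsPBlock M B) {D : Subgroup X}
    (hD : IsDefectGroup p M B D) (hcyc : IsCyclic D) (hkl : Nat.card B = blockRank p B + 1) (hD1 : D ≠ ⊥) :
    Nat.card D = p := by
  classical
  have hDp := isPGroup_of_isDefectGroup hD
  obtain ⟨w, hw⟩ := hcyc
  have hcomm : ∀ a c : D, a * c = c * a := by
    intro a c
    obtain ⟨m, rfl⟩ := hw a
    obtain ⟨n, rfl⟩ := hw c
    change w ^ m * w ^ n = w ^ n * w ^ m
    rw [← zpow_add, ← zpow_add, add_comm]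
  have hcz : ∀ z ∈ D, ∀ d ∈ D, d * z = z * d := fun z hz d hd =>
    congrArg Subtype.val (hcomm ⟨d, hd⟩ ⟨z, hz⟩)
  haveI : Nontrivial D := (Subgroup.nontrivial_iff_ne_bot D).mpr hD1
  obtain ⟨n, hn0, hn⟩ := hDp.nontrivial_iff_card.mp inferInstance
  have hw2 : orderOf w = p ^ n := by rw [← hn]; exact orderOf_eq_card_of_forall_mem_zpowers hw
  obtain ⟨z, hz⟩ := exists_prime_orderOf_dvd_card' p (show p ∣ Nat.card D by rw [hn]; exact dvd_pow_self p hn0.ne')
  by_contra hne
  have hord : orderOf (z : X) ≠ orderOf (w : X) := by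
    rw [Subgroup.orderOf_coe, Subgroup.orderOf_coe, hz, hw2, ← hn]
    exact fun h => hne h.symm
  obtain ⟨Y, hY⟩ := exists_isNTRep X p
  have hpel : ∀ d : D, ∃ k : ℕ, orderOf (d : X) = p ^ k := by
    intro d
    obtain ⟨k, hk⟩ := (IsPGroup.iff_orderOf.mp hDp) d
    exact ⟨k, by rw [← hk, Subgroup.orderOf_coe]⟩
  have hz1 : (z : X) ≠ 1 := by
    intro h
    rw [← Subgroup.orderOf_coe, h, orderOf_one] at hz
    exact hp.out.one_lt.ne hz
  have hw1 : (w : X) ≠ 1 := by
    intro h
    rw [← Subgroup.orderOf_coe, h, orderOf_one] at hw2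
    exact (Nat.one_lt_pow hn0.ne' hp.out.one_lt).ne hw2
  obtain ⟨x, ⟨hxY, hx⟩, -⟩ := hY.rep z (hpel z) hz1
  obtain ⟨y, ⟨hyY, hy⟩, -⟩ := hY.rep w (hpel w) hw1
  have hordc : ∀ a c : X, IsConj a c → orderOf a = orderOf c := by
    intro a c h
    obtain ⟨g, rfl⟩ := isConj_iff.mp h
    exact (MulEquiv.orderOf_eq (MulAut.conj g) a).symm
  have hxy : x ≠ y := by
    rintro rfl
    exact hord ((hordc _ _ hx).trans (hordc _ _ hy).symm)
  have h1 := one_le_contrib hM hB hD z.2 (hcz z z.2) hx
  have h2 := one_le_contrib hM hB hD w.2 (hcz w w.2) hy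
  have h3 := card_eq_add_sum hM hB hY
  have h4 : ∑ t ∈ ({x, y} : Finset X), ∑ b ∈ indB M (Subgroup.centralizer ({t} : Set X)) B, blockRank p b ≤
      ∑ t ∈ Y, ∑ b ∈ indB M (Subgroup.centralizer ({t} : Set X)) B, blockRank p b := by
    refine Finset.sum_le_sum_of_subset ?_
    intro t ht
    rw [Finset.mem_insert, Finset.mem_singleton] at ht
    rcases ht with rfl | rfl
    · exact hxY
    · exact hyY
  rw [Finset.sum_pair hxy] at h4
  omega

end

section final
variable {G : Type u} [Group G] [Fintype G] {M : Ideal AlgInt} [M.IsPrime] {p : ℕ} [hp : Fact p.Prime]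

theorem final (hM : IsPModular p M) {B : Set (IrrCharacter G)} (hB : IsPBlock M B) {D : Subgroup G}
    (hD : IsDefectGroup p M B D) (hk : Nat.card B = 3)
    {N : Subgroup G} (hDN : D ≤ N) (hNn : N ≤ Subgroup.normalizer (D : Set G))
    {b : Set (IrrCharacter N)} (hb : IsPBlock M b)
    (hbD : IsDefectGroup p M b (D.subgroupOf N))
    (hle : Nat.card {ψ : IrrCharacter N // ψ ∈ b ∧ blockHeight p b (ψ : N → ℂ) = 0} ≤ 3) : Nat.card D = 3 := by
  classical
  have hcard := card_defectGroup hM hB hD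
  have hD1 : D ≠ ⊥ := by
    intro h
    rw [h, Subgroup.card_bot] at hcard
    have hd0 : blockDefect p B = 0 := by
      by_contra h0
      exact (Nat.one_lt_pow h0 hp.out.one_lt).ne hcard
    have := ((defect_zero_iff (p := p) hM hB).2.1.1 hd0).1
    omega
  have h1 := blockRank_lt_card hM hB hD hD1
  have h2 := blockRank_pos hM hB
  rcases (show blockRank p B = 1 ∨ blockRank p B = 2 by omega) with h4 | h4
  · rw [hcard, card_eq_pow_of_rank_one hM hB h4 (by omega), hk]
  haveI := Fintype.ofFinite N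
  set P : Subgroup N := D.subgroupOf N with hPdef
  haveI : P.Normal := (Subgroup.normal_subgroupOf_iff_le_normalizer hDN).mpr hNn
  have hDp := isPGroup_of_isDefectGroup hD
  have hPp : IsPGroup p P := hDp.comap_subtype
  let e : P ≃* D := Subgroup.subgroupOfEquivOfLe hDN
  set Q : Subgroup N := (frattini P).map P.subtype with hQdef
  have hQP : Q ≤ P := Subgroup.map_subtype_le _
  haveI : Q.Normal := inferInstance
  have hQp : IsPGroup p Q := (hPp.to_subgroup (frattini P)).map P.subtype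
  obtain ⟨c, hc, hcb, hcD⟩ := Cfsg.Agent.S4434.result p M hM Q hQp b hb
  have hcP : IsDefectGroup p M c (P.map (QuotientGroup.mk' Q)) := (hcD _).mpr ⟨P, hbD, rfl⟩
  haveI := Fintype.ofFinite (N ⧸ Q)
  haveI : (P.map (QuotientGroup.mk' Q)).Normal :=
    Subgroup.Normal.map inferInstance _ (QuotientGroup.mk'_surjective Q)
  have hcomm : ∀ x ∈ P.map (QuotientGroup.mk' Q), ∀ y ∈ P.map (QuotientGroup.mk' Q), x * y = y * x := by
    rintro _ ⟨x, hx, rfl⟩ _ ⟨y, hy, rfl⟩
    rw [← map_mul, ← map_mul, QuotientGroup.mk'_apply, QuotientGroup.mk'_apply, QuotientGroup.eq]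
    have h3 := Cfsg.Agent.Solv.commutator_le_frattini_of_pGroup hPp
      (Subgroup.commutator_mem_commutator (Subgroup.mem_top (⟨y, hy⟩ : P)⁻¹) (Subgroup.mem_top (⟨x, hx⟩ : P)⁻¹))
    refine ⟨_, h3, ?_⟩
    rw [commutatorElement_def]
    simp only [Subgroup.coe_subtype, Subgroup.coe_mul, Subgroup.coe_inv, inv_inv]
    group
  have hexp : ∀ v ∈ P.map (QuotientGroup.mk' Q), v ^ p = 1 := by
    rintro _ ⟨x, hx, rfl⟩
    rw [← map_pow, QuotientGroup.mk'_apply, QuotientGroup.eq_one_iff]
    exact ⟨⟨x, hx⟩ ^ p, Cfsg.Agent.Solv.pow_mem_frattini_of_pGroup hPp ⟨x, hx⟩, rfl⟩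
  have hk' : Nat.card c ≤ 3 := (card_dominated_le hM P Q hQP hb hbD hc (fun ψ hψ => hcb ψ hψ _ rfl) hcP hcomm).trans hle
  have h5 := lemmaM hM (P.map (QuotientGroup.mk' Q)) hcomm hexp hc hcP hk'
  have h6 : Nat.card (P ⧸ frattini P) = Nat.card (P.map (QuotientGroup.mk' Q)) := by
    let φ : P →* N ⧸ Q := (QuotientGroup.mk' Q).comp P.subtype
    have hker : φ.ker = frattini P := by
      ext x
      rw [MonoidHom.mem_ker]
      change (QuotientGroup.mk (x : N) : N ⧸ Q) = 1 ↔ _
      rw [QuotientGroup.eq_one_iff, hQdef]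
      constructor
      · rintro ⟨y, hy, hyx⟩
        have : y = x := Subtype.ext hyx
        rwa [← this]
      · exact fun h => ⟨x, h, rfl⟩
    have hr : φ.range = P.map (QuotientGroup.mk' Q) := by
      rw [MonoidHom.range_comp, Subgroup.range_subtype]
    exact Nat.card_congr (((QuotientGroup.quotientMulEquivOfEq hker.symm).trans
      (QuotientGroup.quotientKerEquivRange φ)).trans (MulEquiv.subgroupCongr hr)).toEquiv
  have hcycP : IsCyclic P := cyclic_of_frattini hPp (by rw [h6]; exact h5)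
  have hcyc : IsCyclic D := isCyclic_of_surjective e.toMonoidHom e.surjective
  have h7 := card_of_cyclic hM hB hD hcyc (by omega) hD1
  -- `p ≤ 3`
  have h8 : p ≤ 3 := by
    have h9 : Nat.card (P ⧸ frattini P) = p := by
      have hPcard : Nat.card P = p := by rw [Nat.card_congr e.toEquiv, h7]
      have h10 : frattini P = ⊥ := by
        letI : CommGroup P := { (inferInstance : Group P) with
          mul_comm := fun a c => (IsCyclic.commGroup (α := P)).mul_comm a c }
        exact Cfsg.Agent.Solv.frattini_eq_bot_of_elementary (p := p) (fun x => by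
          rw [← hPcard]; exact pow_card_eq_one')
      rw [h10]
      rw [← hPcard]
      exact Nat.card_congr (QuotientGroup.quotientBot (G := P)).toEquiv
    omega
  have h11 := hp.out.two_le
  rcases (show p = 2 ∨ p = 3 by omega) with h12 | h12
  · exfalso
    have := (two_iff hM hB hD).mpr (by rw [h7, h12])
    omega
  · rw [h7, h12]

end final

end Cfsg.Agent.BlkInd.TC
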