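import Cfsg.Agent.BlkInd.TCdef
import Cfsg.Agent.H64.PpdC
import Cfsg.Agent.H88.FieldB
import Cfsg.Agent.H70.NumA

/-!
# Transitive linear groups with few good elements, dimension at least three (owner: helper16)
-/

set_option autoImplicit false
set_option linter.unusedSectionVars false
set_option linter.style.haveILetI false

namespace Cfsg.Agent.BlkInd.TC

/-- even factorization implies square -/
theorem isSquare_of_even {n : ℕ} (hn : n ≠ 0) (h : ∀ q : ℕ, q.Prime → Even (n.factorization q)) : IsSquare n := by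
  refine ⟨n.factorization.prod fun q k => q ^ (k / 2), ?_⟩
  rw [← Finsupp.prod_mul]
  conv_lhs => rw [← Nat.prod_factorization_pow_eq_self hn]
  refine Finsupp.prod_congr fun q hq => ?_
  have h1 := h q (Nat.prime_of_mem_primeFactors (by simpa using hq))
  obtain ⟨k, hk⟩ := h1
  rw [hk, ← pow_add]
  congr 1
  omega

section
variable {E : Type*} {W : Type*} [Group E] [Finite E] [CommGroup W] [Finite W] [Nontrivial W]
    [MulDistribMulAction E W] [FaithfulSMul E W]

theorem card_orbit_stab (htr : ∀ v w : W, v ≠ 1 → w ≠ 1 → ∃ g : E, g • v = w) {w : W} (hw : w ≠ 1) :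
    Nat.card E = (Nat.card W - 1) * Nat.card (MulAction.stabilizer E w) := by
  classical
  have h1 : (MulAction.stabilizer E w).index = Nat.card W - 1 := by
    rw [MulAction.index_stabilizer]
    have h2 : MulAction.orbit E w = {1}ᶜ := by
      ext v
      rw [Set.mem_compl_iff, Set.mem_singleton_iff]
      constructor
      · rintro ⟨g, rfl⟩ h
        apply hw
        have : g⁻¹ • (g • w) = g⁻¹ • (1 : W) := congrArg _ h
        rwa [inv_smul_smul, smul_one] at this
      · intro hv
        obtain ⟨g, hg⟩ := htr w v hw hv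
        exact ⟨g, hg⟩
    rw [h2]
    rw [Set.ncard_compl, Set.ncard_singleton]
  rw [← h1, mul_comm]
  exact (Subgroup.card_mul_index _).symm

theorem gn3a (p : ℕ) [hp : Fact p.Prime] (hW : ∀ w : W, w ^ p = 1)
    (htr : ∀ v w : W, v ≠ 1 → w ≠ 1 → ∃ g : E, g • v = w) (Good : E → Prop)
    (h2 : ∀ g, IsCyclic (Subgroup.centralizer ({g} : Set E)) → Good g)
    (h3 : ∀ g h, Good g → Good h → g ≠ 1 → h ≠ 1 → IsConj g h)
    (h4 : ∀ w : W, w ≠ 1 → IsSquare (Nat.card (MulAction.stabilizer E w)))
    (h6 : ∀ q : ℕ, q.Prime → (∀ g : E, Good g → g ≠ 1 → ¬ ∃ k, orderOf g = q ^ k) →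
      Even ((Nat.card E).factorization q))
    {r : ℕ} (hr : Nat.card W = p ^ r) (hp2 : p ≠ 2) (hr3 : 3 ≤ r) :
    r = 4 ∧ ∀ g : E, ¬ ∀ w : W, g • w = w⁻¹ := by
  classical
  obtain ⟨z, hz, hzr, hppd⟩ := Cfsg.Agent.H64.PC.exists_ppd hp.out hp2 hr3
  haveI : Fact z.Prime := ⟨hz⟩
  obtain ⟨w₀, hw₀⟩ := exists_ne (1 : W)
  have hE := card_orbit_stab htr hw₀
  rw [hr] at hE
  have hconjord : ∀ a c : E, IsConj a c → orderOf a = orderOf c := by
    intro a c h
    obtain ⟨g, rfl⟩ := isConj_iff.mp h
    exact (MulEquiv.orderOf_eq (MulAut.conj g) a).symm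
  -- elements of order `z`
  have hcyc : ∀ x : E, orderOf x = z → IsCyclic (Subgroup.centralizer ({x} : Set E)) := fun x hx =>
    Cfsg.Agent.H88.FB.isCyclic_centralizer hW (fun U hU => Cfsg.Agent.H64.PC.irr_of_ppd hp.out hr hz hzr hppd hx U hU)
  obtain ⟨x, hx⟩ := exists_prime_orderOf_dvd_card' z (show z ∣ Nat.card E by rw [hE]; exact hzr.mul_right _)
  have hx1 : x ≠ 1 := by
    rintro rfl
    rw [orderOf_one] at hx
    exact hz.one_lt.ne hx
  have hgx : Good x := h2 x (hcyc x hx)
  have hL : ∀ g : E, ∀ k : ℕ, orderOf (g ^ k) = z → orderOf g = z := by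
    intro g k hk
    have h5 := hcyc _ hk
    have h7 : Subgroup.centralizer ({g} : Set E) ≤ Subgroup.centralizer ({g ^ k} : Set E) := by
      intro y hy
      rw [Subgroup.mem_centralizer_singleton_iff] at hy ⊢
      exact (show Commute y g from hy).pow_right k
    have h8 : IsCyclic (Subgroup.centralizer ({g} : Set E)) :=
      isCyclic_of_injective (Subgroup.inclusion h7) (Subgroup.inclusion_injective h7)
    have hg1 : g ≠ 1 := by
      rintro rfl
      rw [one_pow, orderOf_one] at hk
      exact hz.one_lt.ne hk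
    rw [← hx]
    exact hconjord _ _ (h3 g x (h2 g h8) hgx hg1 hx1)
  have hcent : ∀ y : E, orderOf y = z → Nat.card (Subgroup.centralizer ({y} : Set E)) = z := by
    intro y hy
    obtain ⟨c, hc⟩ := hcyc y hy
    have hyc : y ∈ Subgroup.centralizer ({y} : Set E) := by
      rw [Subgroup.mem_centralizer_singleton_iff]
    have h5 : (⟨y, hyc⟩ : Subgroup.centralizer ({y} : Set E)) ∈ Submonoid.powers c := by
      rw [mem_powers_iff_mem_zpowers]
      exact hc _
    obtain ⟨k, hk⟩ := h5
    have hk' : (c : E) ^ k = y := congrArg Subtype.val hk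
    have h7 := hL (c : E) k (by rw [hk']; exact hy)
    rw [← orderOf_eq_card_of_forall_mem_zpowers hc, ← Subgroup.orderOf_coe, h7]
  -- `|E|_z = z`
  have hzE : (Nat.card E).factorization z = 1 := by
    obtain ⟨S⟩ : Nonempty (Sylow z E) := inferInstance
    have hScard := S.card_eq_multiplicity
    have hpos : 0 < (Nat.card E).factorization z :=
      hz.factorization_pos_of_dvd Nat.card_pos.ne' (by rw [hE]; exact hzr.mul_right _)
    haveI : Nontrivial S := by
      rw [← Finite.one_lt_card_iff_nontrivial]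
      rw [hScard]
      exact Nat.one_lt_pow hpos.ne' hz.one_lt
    haveI : Nontrivial (Subgroup.center S) := S.isPGroup'.center_nontrivial
    obtain ⟨n, hn0, hn⟩ := (S.isPGroup'.to_subgroup (Subgroup.center S)).nontrivial_iff_card.mp inferInstance
    obtain ⟨y, hy⟩ := exists_prime_orderOf_dvd_card' z (show z ∣ Nat.card (Subgroup.center S) by
      rw [hn]; exact dvd_pow_self z hn0.ne')
    have hy' : orderOf (((y : S) : E)) = z := by rw [Subgroup.orderOf_coe, Subgroup.orderOf_coe, hy]
    have hle : (S : Subgroup E) ≤ Subgroup.centralizer ({((y : S) : E)} : Set E) := by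
      intro s hs
      rw [Subgroup.mem_centralizer_singleton_iff]
      exact congrArg Subtype.val (Subgroup.mem_center_iff.mp y.2 ⟨s, hs⟩)
    have h5 := Subgroup.card_dvd_of_le hle
    rw [hcent _ hy', hScard] at h5
    have h7 := (Nat.pow_dvd_pow_iff_le_right hz.one_lt (k := (Nat.card E).factorization z) (l := 1)).mp (by
      rw [pow_one]; exact h5)
    omega
  -- `z = r + 1`
  have hzr1 : z = r + 1 := by
    have hzp : ¬ z ∣ p := by
      intro h
      have h5 : z ∣ p ^ r := dvd_pow h (by omega)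
      have h7 : z ∣ p ^ r - (p ^ r - 1) := Nat.dvd_sub h5 hzr
      have h8 : p ^ r - (p ^ r - 1) = 1 := by
        have := Nat.one_le_pow r p hp.out.pos
        omega
      rw [h8] at h7
      exact hz.one_lt.ne' (Nat.dvd_one.mp h7)
    have hkey : ∀ i, (p : ZMod z) ^ i = 1 ↔ z ∣ p ^ i - 1 := by
      intro i
      rw [← Nat.cast_pow, ← sub_eq_zero, ← Nat.cast_one, ← Nat.cast_sub (Nat.one_le_pow i p hp.out.pos),
        ZMod.natCast_eq_zero_iff]
    have hord : orderOf (p : ZMod z) = r := by
      rw [orderOf_eq_iff (by omega)]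
      refine ⟨(hkey r).mpr hzr, fun m hm hm0 h => hppd m hm0 hm ((hkey m).mp h)⟩
    have h5 : r ∣ z - 1 := by
      rw [← hord]
      refine ZMod.orderOf_dvd_card_sub_one ?_
      rwa [Ne, ZMod.natCast_eq_zero_iff]
    have h7 : z - 1 ≤ r := by
      refine le_trans ?_ (Cfsg.Agent.H88.FB.card_conj_le hW hr (x := x)
        (fun U hU => Cfsg.Agent.H64.PC.irr_of_ppd hp.out hr hz hzr hppd hx U hU))
      have h8 : Nat.card (Fin (z - 1)) = z - 1 := Nat.card_fin _
      rw [← h8]
      refine Nat.card_le_card_of_injective (fun i : Fin (z - 1) => (⟨x ^ ((i : ℕ) + 1), ?_, ?_⟩ :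
        {y : E // x * y = y * x ∧ IsConj x y})) ?_
      · exact (Commute.self_pow x _)
      · have h9 : orderOf (x ^ ((i : ℕ) + 1)) = z := by
          rw [orderOf_pow, hx]
          have : Nat.gcd z ((i : ℕ) + 1) = 1 := by
            rw [← Nat.coprime_iff_gcd_eq_one]
            refine (Nat.Prime.coprime_iff_not_dvd hz).mpr fun h => ?_
            have := Nat.le_of_dvd (by omega) h
            omega
          rw [this, Nat.div_one]
        refine h3 _ _ hgx (h2 _ (hcyc _ h9)) hx1 ?_
        intro h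
        rw [h, orderOf_one] at h9
        exact hz.one_lt.ne h9
      · intro i j hij
        have h9 : x ^ ((i : ℕ) + 1) = x ^ ((j : ℕ) + 1) := congrArg Subtype.val hij
        rw [pow_inj_mod, hx, Nat.mod_eq_of_lt (by omega), Nat.mod_eq_of_lt (by omega)] at h9
        exact Fin.ext (by omega)
    have h8 := Nat.le_of_dvd (by have := hz.two_le; omega) h5
    have := hz.two_le
    omega
  -- squares
  have hpr : p ^ r - 1 ≠ 0 := by
    have : 1 < p ^ r := Nat.one_lt_pow (by omega) hp.out.one_lt
    omega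
  have hst : Nat.card (MulAction.stabilizer E w₀) ≠ 0 := Nat.card_pos.ne'
  have hfac : ∀ q, (Nat.card E).factorization q = (p ^ r - 1).factorization q +
      (Nat.card (MulAction.stabilizer E w₀)).factorization q := by
    intro q
    rw [hE, Nat.factorization_mul hpr hst, Finsupp.add_apply]
  have hsq : ∀ q, Even ((Nat.card (MulAction.stabilizer E w₀)).factorization q) := by
    intro q
    obtain ⟨s, hs⟩ := h4 w₀ hw₀
    rw [hs, ← pow_two, Nat.factorization_pow, Finsupp.smul_apply, smul_eq_mul]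
    exact even_two_mul _
  have hodd : ∀ q : ℕ, q.Prime → q ≠ z → Even ((Nat.card E).factorization q) := by
    intro q hq hqz
    refine h6 q hq fun g hg hg1 => ?_
    rintro ⟨k, hk⟩
    have h5 := hconjord _ _ (h3 g x hg hgx hg1 hx1)
    rw [hx, hk] at h5
    rcases Nat.eq_zero_or_pos k with h7 | h7
    · rw [h7, pow_zero] at h5; exact hz.one_lt.ne h5
    · have : q ∣ z := by rw [← h5]; exact dvd_pow_self q h7.ne'
      exact hqz ((Nat.prime_dvd_prime_iff_eq hq hz).mp this)
  obtain ⟨m, hm⟩ := hzr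
  have hm0 : m ≠ 0 := by
    rintro rfl
    exact hpr (by rw [hm, mul_zero])
  have hmsq : IsSquare m := by
    refine isSquare_of_even hm0 fun q hq => ?_
    have h5 := hfac q
    rw [hm, Nat.factorization_mul hz.ne_zero hm0, Finsupp.add_apply] at h5
    by_cases hqz : q = z
    · rw [hqz] at h5 ⊢
      rw [hzE, hz.factorization_self] at h5
      have : m.factorization z = 0 := by omega
      rw [this]; exact Even.zero
    · rw [hz.factorization, Finsupp.single_eq_of_ne (by exact hqz), zero_add] at h5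
      have h7 := hodd q hq hqz
      rw [h5] at h7
      exact (Nat.even_add.mp h7).mpr (hsq q)
  obtain ⟨t, ht⟩ := hmsq
  have hr4 : r = 4 := by
    refine Cfsg.Agent.H70.NumA.num_main hp.out hp2 hz hzr1 hr3 hppd (t := t) ?_
    rw [hm, ht]; ring
  refine ⟨hr4, fun g hg => ?_⟩
  have hcomm : g ∈ Subgroup.centralizer ({x} : Set E) := by
    rw [Subgroup.mem_centralizer_singleton_iff]
    apply FaithfulSMul.eq_of_smul_eq_smul (α := W)
    intro w
    rw [mul_smul, mul_smul, hg, hg, smul_inv']
  have hg2 : g ^ 2 = 1 := by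
    apply FaithfulSMul.eq_of_smul_eq_smul (α := W)
    intro w
    rw [pow_two, mul_smul, hg, hg, inv_inv, one_smul]
  have h5 : orderOf g ∣ z := by
    have := orderOf_dvd_natCard (⟨g, hcomm⟩ : Subgroup.centralizer ({x} : Set E))
    rwa [hcent x hx, ← Subgroup.orderOf_coe] at this
  have h7 : orderOf g ∣ 2 := orderOf_dvd_of_pow_eq_one hg2
  have h8 : z = 5 := by omega
  have h9 : orderOf g ∣ 1 := by
    have h10 := Nat.dvd_gcd h5 h7
    rw [h8] at h10
    exact h10
  have hg1 : g = 1 := orderOf_eq_one_iff.mp (Nat.dvd_one.mp h9)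
  have h10 := hg w₀
  rw [hg1, one_smul] at h10
  have h11 : w₀ ^ 2 = 1 := by
    rw [pow_two]
    nth_rewrite 2 [h10]
    exact mul_inv_cancel w₀
  have h12 : orderOf w₀ ∣ 1 := by
    have h13 := Nat.dvd_gcd (orderOf_dvd_of_pow_eq_one h11) (orderOf_dvd_of_pow_eq_one (hW w₀))
    have h14 : Nat.gcd 2 p = 1 := (Nat.coprime_primes Nat.prime_two hp.out).mpr (Ne.symm hp2)
    rwa [h14] at h13
  exact hw₀ (orderOf_eq_one_iff.mp (Nat.dvd_one.mp h12))

end

end Cfsg.Agent.BlkInd.TC
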