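import Cfsg.Agent.BlkInd.TCg

/-!
# The four-dimensional case (owner: helper16)
-/

set_option autoImplicit false
set_option linter.unusedSectionVars false
set_option linter.style.haveILetI false

namespace Cfsg.Agent.BlkInd.TC

theorem dvd_card_of_orbit {G α : Type*} [Group G] [MulAction G α] [Finite α] (n : ℕ)
    (h : ∀ a : α, n ∣ Nat.card (MulAction.orbit G a)) : n ∣ Nat.card α := by
  classical
  haveI := Fintype.ofFinite α
  haveI : Fintype (Quotient (MulAction.orbitRel G α)) := Fintype.ofFinite _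
  rw [Nat.card_congr (MulAction.selfEquivSigmaOrbits G α), Nat.card_sigma]
  exact Finset.dvd_sum fun ω _ => h _

theorem num4 {p i : ℕ} (hp : p.Prime) (hp2 : p ≠ 2) (hi : 1 ≤ i) (hi3 : i ≤ 3) :
    (p ^ i - 1).factorization 2 < (p ^ 4 - 1).factorization 2 := by
  have hp3 : 3 ≤ p := by
    have := hp.two_le
    omega
  have hodd : Odd p := hp.odd_of_ne_two hp2
  obtain ⟨k, hk⟩ := hodd
  have e4 : p ^ 4 - 1 = (p ^ 2 - 1) * (p ^ 2 + 1) := by
    have h1 : 1 ≤ p ^ 2 := Nat.one_le_pow _ _ (by omega)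
    zify [h1, Nat.one_le_pow 4 p (by omega)]
    ring
  have e2 : p ^ 2 - 1 = (p - 1) * (p + 1) := by
    zify [Nat.one_le_pow 2 p (by omega), (by omega : 1 ≤ p)]
    ring
  have e3 : p ^ 3 - 1 = (p - 1) * (p ^ 2 + p + 1) := by
    zify [Nat.one_le_pow 3 p (by omega), (by omega : 1 ≤ p)]
    ring
  have n1 : p - 1 ≠ 0 := by omega
  have n2 : p ^ 2 - 1 ≠ 0 := by rw [e2]; positivity
  have h2 : (p ^ 2 - 1).factorization 2 < (p ^ 4 - 1).factorization 2 := by
    rw [e4, Nat.factorization_mul n2 (by positivity), Finsupp.add_apply]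
    have : 0 < (p ^ 2 + 1).factorization 2 := by
      refine Nat.prime_two.factorization_pos_of_dvd (by positivity) ?_
      rw [hk]
      exact ⟨2 * k ^ 2 + 2 * k + 1, by ring⟩
    omega
  have h1 : (p - 1).factorization 2 ≤ (p ^ 2 - 1).factorization 2 := by
    rw [e2, Nat.factorization_mul n1 (by positivity), Finsupp.add_apply]
    omega
  interval_cases i
  · rw [pow_one]; omega
  · exact h2
  · rw [e3, Nat.factorization_mul n1 (by positivity), Finsupp.add_apply]
    have : (p ^ 2 + p + 1).factorization 2 = 0 := by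
      refine Nat.factorization_eq_zero_of_not_dvd ?_
      rw [hk]
      intro h
      obtain ⟨c, hc⟩ := h
      have : (2 * k + 1) ^ 2 + (2 * k + 1) + 1 = 2 * (2 * k ^ 2 + 3 * k + 1) + 1 := by ring
      omega
    omega

section
variable {E : Type*} {W : Type*} [Group E] [Finite E] [CommGroup W] [Finite W] [Nontrivial W]
    [MulDistribMulAction E W] [FaithfulSMul E W]

theorem gn3b (p : ℕ) [hp : Fact p.Prime] (hp2 : p ≠ 2)
    (htr : ∀ v w : W, v ≠ 1 → w ≠ 1 → ∃ g : E, g • v = w)
    (hc : Nat.card W = p ^ 4) (hinv : ∀ g : E, ¬ ∀ w : W, g • w = w⁻¹) : False := by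
  classical
  haveI : Fact (Nat.Prime 2) := ⟨Nat.prime_two⟩
  obtain ⟨w₀, hw₀⟩ := exists_ne (1 : W)
  have hE0 := card_orbit_stab htr hw₀
  have hp3 : 3 ≤ p := by
    have := hp.out.two_le
    omega
  have n4 : p ^ 4 - 1 ≠ 0 := by
    have : 1 < p ^ 4 := Nat.one_lt_pow (by omega) hp.out.one_lt
    omega
  have hE : ∀ w : W, w ≠ 1 → (Nat.card E).factorization 2 = (p ^ 4 - 1).factorization 2 +
      (Nat.card (MulAction.stabilizer E w)).factorization 2 := by
    intro w hw
    rw [card_orbit_stab htr hw, hc, Nat.factorization_mul n4 Nat.card_pos.ne', Finsupp.add_apply]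
  obtain ⟨S⟩ : Nonempty (Sylow 2 E) := inferInstance
  have hScard := S.card_eq_multiplicity
  have hpos : 0 < (p ^ 4 - 1).factorization 2 := by
    have := num4 hp.out hp2 (le_refl 1) (by norm_num)
    omega
  haveI : Nontrivial S := by
    rw [← Finite.one_lt_card_iff_nontrivial]
    rw [hScard]
    exact Nat.one_lt_pow (by rw [hE w₀ hw₀]; omega) (by norm_num)
  haveI : Nontrivial (Subgroup.center S) := S.isPGroup'.center_nontrivial
  obtain ⟨n, hn0, hn⟩ := (S.isPGroup'.to_subgroup (Subgroup.center S)).nontrivial_iff_card.mp inferInstance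
  obtain ⟨y, hy⟩ := exists_prime_orderOf_dvd_card' 2 (show 2 ∣ Nat.card (Subgroup.center S) by
    rw [hn]; exact dvd_pow_self 2 hn0.ne')
  obtain ⟨z, hzdef⟩ : ∃ z : E, z = ((y : S) : E) := ⟨_, rfl⟩
  have hz : orderOf z = 2 := by rw [hzdef, Subgroup.orderOf_coe, Subgroup.orderOf_coe, hy]
  have hzS : ∀ s ∈ (S : Subgroup E), s * z = z * s := fun s hs => by
    rw [hzdef]
    exact congrArg Subtype.val (Subgroup.mem_center_iff.mp y.2 ⟨s, hs⟩)
  have hz2 : z * z = 1 := by rw [← pow_two, ← hz]; exact pow_orderOf_eq_one z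
  have hz1 : z ≠ 1 := by
    rintro rfl
    rw [orderOf_one] at hz
    omega
  let U : Subgroup W :=
    { carrier := {w | z • w = w}
      mul_mem' := by
        intro a b ha hb
        change z • (a * b) = a * b
        rw [smul_mul', ha, hb]
      one_mem' := smul_one z
      inv_mem' := by
        intro a ha
        change z • a⁻¹ = a⁻¹
        rw [smul_inv', ha] }
  have hU : ∀ w, w ∈ U ↔ z • w = w := fun w => Iff.rfl
  have hUbot : U ≠ ⊥ := by
    intro h
    refine hinv z fun w => ?_
    have h1 : w * (z • w) ∈ U := by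
      rw [hU, smul_mul', smul_smul, hz2, one_smul, mul_comm]
    rw [h, Subgroup.mem_bot] at h1
    exact eq_inv_of_mul_eq_one_right h1
  have hUtop : U ≠ ⊤ := by
    intro h
    apply hz1
    apply FaithfulSMul.eq_of_smul_eq_smul (α := W)
    intro w
    rw [one_smul, ← hU, h]
    exact Subgroup.mem_top w
  obtain ⟨i, hi, hUi⟩ := (Nat.dvd_prime_pow hp.out).mp (hc ▸ Subgroup.card_subgroup_dvd_card U)
  have hi1 : 1 ≤ i := by
    rcases Nat.eq_zero_or_pos i with h | h
    · exfalso
      rw [h, pow_zero] at hUi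
      exact hUbot (Subgroup.card_eq_one.mp hUi)
    · exact h
  have hi3 : i ≤ 3 := by
    by_contra h
    have : i = 4 := by omega
    rw [this, ← hc] at hUi
    exact hUtop (Subgroup.card_eq_iff_eq_top U |>.mp hUi)
  -- the action of `S` on `U - 1`
  letI : MulAction S {w : W // w ∈ U ∧ w ≠ 1} :=
    { smul := fun s w => ⟨(s : E) • (w : W), by
        refine ⟨?_, ?_⟩
        · rw [hU, smul_smul, ← hzS s s.2, ← smul_smul, (hU _).mp w.2.1]
        · intro h
          apply w.2.2
          have h1 : (s : E)⁻¹ • ((s : E) • (w : W)) = (s : E)⁻¹ • (1 : W) := congrArg _ h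
          rwa [inv_smul_smul, smul_one] at h1⟩
      one_smul := fun w => Subtype.ext (one_smul E (w : W))
      mul_smul := fun s t w => Subtype.ext (mul_smul (s : E) (t : E) (w : W)) }
  have hsm : ∀ (s : S) (w : {w : W // w ∈ U ∧ w ≠ 1}), ((s • w : {w : W // w ∈ U ∧ w ≠ 1}) : W) = (s : E) • (w : W) :=
    fun s w => rfl
  have horb : ∀ w : {w : W // w ∈ U ∧ w ≠ 1}, 2 ^ (p ^ 4 - 1).factorization 2 ∣
      Nat.card (MulAction.orbit S w) := by
    intro w
    have h1 := Subgroup.card_mul_index (MulAction.stabilizer S w)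
    rw [MulAction.index_stabilizer, hScard, ← Nat.card_coe_set_eq] at h1
    have h2 : Nat.card (MulAction.stabilizer S w) ∣ Nat.card (MulAction.stabilizer E (w : W)) := by
      have h3 : (MulAction.stabilizer S w).map (S : Subgroup E).subtype ≤ MulAction.stabilizer E (w : W) := by
        rintro _ ⟨s, hs, rfl⟩
        rw [MulAction.mem_stabilizer_iff]
        have h4 := congrArg Subtype.val (MulAction.mem_stabilizer_iff.mp hs)
        rw [hsm] at h4
        exact h4
      have h5 := Subgroup.card_dvd_of_le h3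
      rwa [Nat.card_congr ((MulAction.stabilizer S w).equivMapOfInjective _
        (S : Subgroup E).subtype_injective).symm.toEquiv] at h5
    obtain ⟨f, hf, hf2⟩ := (Nat.dvd_prime_pow Nat.prime_two).mp (Dvd.intro _ h1)
    rw [hf2] at h1 h2
    have h3 : f ≤ (Nat.card (MulAction.stabilizer E (w : W))).factorization 2 :=
      (Nat.prime_two.pow_dvd_iff_le_factorization Nat.card_pos.ne').mp h2
    have h4 := hE w w.2.2
    have h5 : 2 ^ f * 2 ^ (p ^ 4 - 1).factorization 2 ∣ 2 ^ f * Nat.card (MulAction.orbit S w) := by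
      rw [h1, ← pow_add]
      exact pow_dvd_pow 2 (by omega)
    exact Nat.dvd_of_mul_dvd_mul_left (by positivity) h5
  have h1 := dvd_card_of_orbit _ horb
  have h2 : Nat.card {w : W // w ∈ U ∧ w ≠ 1} = p ^ i - 1 := by
    have h3 : Nat.card {w : W // w ∈ U ∧ w ≠ 1} = ((U : Set W) \ {1}).ncard := by
      rw [← Nat.card_coe_set_eq]
      rfl
    rw [h3, Set.ncard_sdiff_singleton_of_mem (one_mem U), ← Nat.card_coe_set_eq]
    change Nat.card U - 1 = _
    rw [hUi]
  rw [h2] at h1
  have h3 : p ^ i - 1 ≠ 0 := by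
    have : 1 < p ^ i := Nat.one_lt_pow (by omega) hp.out.one_lt
    omega
  have h4 := (Nat.prime_two.pow_dvd_iff_le_factorization h3).mp h1
  have h5 := num4 hp.out hp2 hi1 hi3
  omega

end

end Cfsg.Agent.BlkInd.TC
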